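import Cfsg.Agent.Lib.AltNineLocal.CrossSections
import Cfsg.Agent.Lib.AltNineLocal.Local
import Cfsg.Agent.Lib.CoprimeAction.Abelian

/-!
The centraliser of a four group in one of the three alternating groups of degree six, generated by a
double transposition on four points and one shared with the model, has order at most 24.
-/

set_option autoImplicit false
set_option linter.style.haveILetI false

namespace CfsgLib.AltNineLocal

open Equiv

namespace Bow

/-- The elements of the four group. -/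
def bowE (o w : Fin 2) : Perm (Fin 9) := dbl 0 1 2 3 ^ o.val * dbl 0 1 4 5 ^ w.val

/-- An element of order three normalising the four group. -/
def cTwo : Perm (Fin 9) := cyc 0 2 4 * cyc 1 3 5

/-- The products of the three transpositions in sight. -/
def gridE (x y z : Fin 2) : Perm (Fin 9) :=
  swap (0 : Fin 9) 1 ^ x.val * swap (2 : Fin 9) 3 ^ y.val * swap (4 : Fin 9) 5 ^ z.val

/-- An element carrying `pb` to `cTwo`. -/
def qTwo : Perm (Fin 9) := cyc 0 1 3 * cyc 2 5 4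

theorem bowE_mem : ∀ o w, bowE o w ∈ six 2 := by decide +kernel

theorem cTwo_pow_mem : ∀ a : Fin 3, cTwo ^ a.val ∈ six 2 := by decide +kernel

theorem qTwo_mem : qTwo ∈ six 2 := by decide +kernel

theorem pb_pow_mem : ∀ a : Fin 3, pb ^ a.val ∈ six 2 := by decide +kernel

theorem qTwo_conj : ∀ a : Fin 3, qTwo * pb ^ a.val * qTwo⁻¹ = cTwo ^ a.val := by decide +kernel

theorem pb_mul_ax : ∀ a b : Fin 3, pb ^ a.val * ax 2 ^ b.val = jel (a, a, b) := by decide +kernel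

theorem bowE_mul : ∀ o w o' w' : Fin 2, bowE o w * bowE o' w' = bowE (o + o') (w + w') := by
  decide +kernel

theorem bowE_inv : ∀ o w : Fin 2, (bowE o w)⁻¹ = bowE o w := by decide +kernel

theorem bowE_inj : ∀ o w o' w' : Fin 2, bowE o w = bowE o' w' → o = o' ∧ w = w' := by decide +kernel

theorem bowE_zero : bowE 0 0 = 1 := by decide +kernel

theorem bowE_conj : ∀ (a : Fin 3) (o w : Fin 2),
    ∃ o' w' : Fin 2, cTwo ^ a.val * bowE o w * (cTwo ^ a.val)⁻¹ = bowE o' w' := by decide +kernel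

theorem exists_bowE {σ : Perm (Fin 9)} (hσ : σ ∈ six 2)
    (h1 : σ * dbl 0 1 2 3 = dbl 0 1 2 3 * σ) (h2 : σ * dbl 0 1 4 5 = dbl 0 1 4 5 * σ) :
    ∃ o w, σ = bowE o w := by
  obtain ⟨hs, hfix⟩ := mem_altOn.1 hσ
  have hmv : ∀ (τ : Perm (Fin 9)), σ * τ = τ * σ → ∀ i, (τ (σ i) = σ i ↔ τ i = i) := fun τ hτ i => by
    rw [← Perm.mul_apply, ← hτ, Perm.mul_apply]
    exact ⟨fun e => σ.injective e, fun e => by rw [e]⟩
  have h6 : ∀ i : Fin 9, i ∉ offBlock 2 → σ i = i := hfix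
  have f6 := h6 6 (by decide +kernel)
  have f7 := h6 7 (by decide +kernel)
  have f8 := h6 8 (by decide +kernel)
  have ev : ∀ (τ : Perm (Fin 9)), σ * τ = τ * σ → ∀ i j, τ i = j → σ j = τ (σ i) := fun τ hτ i j e => by
    rw [← e, ← Perm.mul_apply, hτ, Perm.mul_apply]
  have k0 : σ 0 = 0 ∨ σ 0 = 1 :=
    (by decide +kernel : ∀ a : Fin 9, dbl 0 1 2 3 a ≠ a → dbl 0 1 4 5 a ≠ a → a = 0 ∨ a = 1) _
      (fun e => absurd ((hmv _ h1 0).1 e) (by decide +kernel))
      (fun e => absurd ((hmv _ h2 0).1 e) (by decide +kernel))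
  have k2 : σ 2 = 2 ∨ σ 2 = 3 :=
    (by decide +kernel : ∀ a : Fin 9, dbl 0 1 2 3 a ≠ a → dbl 0 1 4 5 a = a → a = 2 ∨ a = 3) _
      (fun e => absurd ((hmv _ h1 2).1 e) (by decide +kernel))
      ((hmv _ h2 2).2 (by decide +kernel))
  have k4 : σ 4 = 4 ∨ σ 4 = 5 :=
    (by decide +kernel : ∀ a : Fin 9, dbl 0 1 2 3 a = a → dbl 0 1 4 5 a ≠ a → a = 4 ∨ a = 5) _
      ((hmv _ h1 4).2 (by decide +kernel))
      (fun e => absurd ((hmv _ h2 4).1 e) (by decide +kernel))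
  obtain ⟨x, y, z, rx, ry, rz⟩ : ∃ x y z : Fin 2, σ 0 = (swap (0 : Fin 9) 1 ^ x.val) 0 ∧
      σ 2 = (swap (2 : Fin 9) 3 ^ y.val) 2 ∧ σ 4 = (swap (4 : Fin 9) 5 ^ z.val) 4 := by
    rcases k0 with a | a <;> rcases k2 with b | b <;> rcases k4 with c | c <;>
      rw [a, b, c] <;> decide +kernel
  have hc : ∀ x y z : Fin 2,
      gridE x y z * dbl 0 1 2 3 = dbl 0 1 2 3 * gridE x y z ∧
      gridE x y z * dbl 0 1 4 5 = dbl 0 1 4 5 * gridE x y z ∧
      gridE x y z 0 = (swap (0 : Fin 9) 1 ^ x.val) 0 ∧ gridE x y z 2 = (swap (2 : Fin 9) 3 ^ y.val) 2 ∧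
      gridE x y z 4 = (swap (4 : Fin 9) 5 ^ z.val) 4 ∧ gridE x y z 6 = 6 ∧ gridE x y z 7 = 7 ∧
      gridE x y z 8 = 8 ∧
      (Perm.sign (gridE x y z) = 1 → ∃ o w, gridE x y z = bowE o w) := by decide +kernel
  obtain ⟨c1, c2, c0, c2', c4, c6, c7, c8, csign⟩ := hc x y z
  set π := gridE x y z
  have evπ : ∀ (τ : Perm (Fin 9)), π * τ = τ * π → ∀ i j, τ i = j → π j = τ (π i) :=
    fun τ hτ i j e => by rw [← e, ← Perm.mul_apply, hτ, Perm.mul_apply]
  have e0 : σ 0 = π 0 := rx.trans c0.symm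
  have e2 : σ 2 = π 2 := ry.trans c2'.symm
  have e4 : σ 4 = π 4 := rz.trans c4.symm
  have e1 : σ 1 = π 1 := by
    rw [ev _ h1 0 1 (by decide +kernel), evπ _ c1 0 1 (by decide +kernel), e0]
  have e3 : σ 3 = π 3 := by
    rw [ev _ h1 2 3 (by decide +kernel), evπ _ c1 2 3 (by decide +kernel), e2]
  have e5 : σ 5 = π 5 := by
    rw [ev _ h2 4 5 (by decide +kernel), evπ _ c2 4 5 (by decide +kernel), e4]
  have hσπ : σ = π := by
    refine Equiv.ext fun i => ?_
    rcases (by decide +kernel : ∀ i : Fin 9, i = 0 ∨ i = 1 ∨ i = 2 ∨ i = 3 ∨ i = 4 ∨ i = 5 ∨ i = 6 ∨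
      i = 7 ∨ i = 8) i with rfl | rfl | rfl | rfl | rfl | rfl | rfl | rfl | rfl
    exacts [e0, e1, e2, e3, e4, e5, f6.trans c6.symm, f7.trans c7.symm, f8.trans c8.symm]
  rw [hσπ] at hs ⊢
  exact csign hs

theorem eq_one_of_pow_seven {σ : Perm (Fin 9)} (hσ : σ ∈ six 2) (h : σ ^ 7 = 1) : σ = 1 := by
  by_contra h1
  haveI : Fact (Nat.Prime 7) := ⟨by norm_num⟩
  have ho := orderOf_eq_prime h h1
  obtain ⟨n, hn⟩ := Perm.cycleType_prime_order (σ := σ) (by rw [ho]; norm_num)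
  have hs : σ.support ⊆ offBlock 2 := fun i hi => by
    by_contra hni
    exact Perm.mem_support.1 hi ((mem_altOn.1 hσ).2 i hni)
  have hc := Finset.card_le_card hs
  rw [← Perm.sum_cycleType, hn, ho, Multiset.sum_replicate, smul_eq_mul,
    show (offBlock 2).card = 6 by decide +kernel] at hc
  omega

variable {G : Type*} [Group G] {h : Hyp G}

/-- A weak bound on the centraliser of an element. -/
def Good (y : G) : Prop :=
  (∀ g, g * y = y * g → g ^ 18 = 1) ∧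
    ∀ a b, a * y = y * a → b * y = y * b → a ^ 2 = 1 → b ^ 2 = 1 → a * b = b * a → a ≠ 1 → b ≠ 1 →
      a = b

theorem Good.conj {y : G} (hy : Good y) (u : G) : Good (u * y * u⁻¹) := by
  let c := MulAut.conj u⁻¹
  have hc : ∀ g, g * (u * y * u⁻¹) = u * y * u⁻¹ * g → c g * y = y * c g := fun g hg => by
    simp only [c, MulAut.conj_apply, inv_inv]
    calc u⁻¹ * g * u * y = u⁻¹ * (g * (u * y * u⁻¹)) * u := by group
      _ = u⁻¹ * (u * y * u⁻¹ * g) * u := by rw [hg]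
      _ = y * (u⁻¹ * g * u) := by group
  refine ⟨fun g hg => c.injective ?_, fun a b ha hb ha2 hb2 hab ha1 hb1 => c.injective ?_⟩
  · rw [map_pow, map_one]; exact hy.1 _ (hc g hg)
  · refine hy.2 _ _ (hc a ha) (hc b hb) ?_ ?_ ?_ ?_ ?_
    · rw [← map_pow, ha2, map_one]
    · rw [← map_pow, hb2, map_one]
    · rw [← map_mul, hab, map_mul]
    · exact fun e => ha1 (c.injective (e.trans (map_one c).symm))
    · exact fun e => hb1 (c.injective (e.trans (map_one c).symm))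

theorem Good.inv {y : G} (hy : Good y) : Good y⁻¹ := by
  have hc : ∀ g, g * y⁻¹ = y⁻¹ * g → g * y = y * g := fun g hg => by
    simpa using (show Commute g y⁻¹ from hg).inv_right.eq
  exact ⟨fun g hg => hy.1 g (hc g hg), fun a b ha hb => hy.2 a b (hc a ha) (hc b hb)⟩

section

variable (hb : Subgroup.centralizer ({h.el pb} : Set G) ≤ Subgroup.normalizer (h.J : Set G))

include hb

theorem good_pb : Good (h.el pb) := by
  have hX : ∀ g, g * h.el pb = h.el pb * g →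
      ∃ (o : Fin 2) (v : Fin 3 × Fin 3 × Fin 3), g = h.el (tau ^ o.val * jel v) := fun g hg =>
    h.exists_of_mem_pb (Subgroup.mem_centralizer_singleton_iff.2 hg)
      (hb (Subgroup.mem_centralizer_singleton_iff.2 hg))
  have hmem : ∀ (o : Fin 2) (v : Fin 3 × Fin 3 × Fin 3), tau ^ o.val * jel v ∈ nineH := fun o v =>
    mul_mem (pow_mem tau_mem_nineH _) (jel_mem_nineH v)
  have hp : ∀ (σ : Perm (Fin 9)), σ ∈ nineH → ∀ n : ℕ, h.el (σ ^ n) = h.el σ ^ n := by
    intro σ hσ n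
    induction n with
    | zero => rw [pow_zero, pow_zero, h.el_one]
    | succ n ih => rw [pow_succ, pow_succ, h.el_mul (pow_mem hσ n) hσ, ih]
  refine ⟨fun g hg => ?_, fun a b ha hb' ha2 hb2 hab ha1 hb1 => ?_⟩
  · obtain ⟨o, v, rfl⟩ := hX g hg
    rw [← hp _ (hmem o v),
      (by decide +kernel : ∀ (o : Fin 2) (v : Fin 3 × Fin 3 × Fin 3),
        (tau ^ o.val * jel v) ^ 18 = 1) o v, h.el_one]
  · have hone : ∀ g, g * h.el pb = h.el pb * g → g ^ 2 = 1 → g ≠ 1 →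
        ∃ v, g = h.el (tau * jel v) := by
      intro g hg hg2 hg1
      obtain ⟨o, v, rfl⟩ := hX g hg
      obtain rfl | rfl := (by decide : ∀ o : Fin 2, o = 0 ∨ o = 1) o
      · refine absurd ?_ hg1
        rw [← hp _ (hmem 0 v), ← h.el_one] at hg2
        have hv : (tau ^ (0 : Fin 2).val * jel v) ^ 2 = 1 :=
          h.el_inj (pow_mem (hmem 0 v) 2) (one_mem _) hg2
        rw [(by decide +kernel : ∀ v : Fin 3 × Fin 3 × Fin 3,
          (tau ^ (0 : Fin 2).val * jel v) ^ 2 = 1 → tau ^ (0 : Fin 2).val * jel v = 1) v hv, h.el_one]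
      · exact ⟨v, by simp⟩
    obtain ⟨v, rfl⟩ := hone a ha ha2 ha1
    obtain ⟨w, rfl⟩ := hone b hb' hb2 hb1
    have hmJ : h.el (tau * jel v) * h.el (tau * jel w) ∈ h.J := by
      obtain ⟨k, hk⟩ := tau_conj v
      rw [(by decide +kernel : tau⁻¹ = tau)] at hk
      rw [← h.el_mul (mul_mem tau_mem_nineH (jel_mem_nineH v))
        (mul_mem tau_mem_nineH (jel_mem_nineH w)), ← mul_assoc, hk, jel_mul]
      exact h.el_jel_mem _
    have h3 := h.J_exp hmJ
    have h2 : (h.el (tau * jel v) * h.el (tau * jel w)) ^ 2 = 1 := by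
      rw [(show Commute _ _ from hab).mul_pow, ha2, hb2, one_mul]
    rw [pow_succ, h2, one_mul] at h3
    rw [eq_inv_of_mul_eq_one_left h3]
    exact (eq_inv_of_mul_eq_one_left (by rwa [← pow_two])).symm

end

section

variable (hx : Subgroup.centralizer ({h.el px} : Set G) ≤ Subgroup.normalizer (h.J : Set G))

include hx

theorem good_px : Good (h.el px) := by
  have h9 : ∀ g, g * h.el px = h.el px * g → g ^ 9 = 1 := by
    intro g hg
    obtain ⟨σ, hσ, rfl⟩ := h.exists_el (hx (Subgroup.mem_centralizer_singleton_iff.2 hg))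
    obtain ⟨m, v, rfl⟩ := exists_of_comm_px hσ ((h.el_comm hσ px_mem_nineH).1 hg)
    have hp : ∀ n : ℕ, h.el ((rot ^ m.val * jel v) ^ n) = h.el (rot ^ m.val * jel v) ^ n := by
      intro n
      induction n with
      | zero => rw [pow_zero, pow_zero, h.el_one]
      | succ n ih => rw [pow_succ, pow_succ, h.el_mul (pow_mem hσ n) hσ, ih]
    rw [← hp, (by decide +kernel : ∀ (m : Fin 3) (v : Fin 3 × Fin 3 × Fin 3),
      (rot ^ m.val * jel v) ^ 9 = 1) m v, h.el_one]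
  refine ⟨fun g hg => ?_, fun a b ha _ ha2 _ _ ha1 _ => absurd ?_ ha1⟩
  · rw [show (18 : ℕ) = 9 * 2 from rfl, pow_mul, h9 g hg, one_pow]
  · have := h9 a ha
    rwa [show (9 : ℕ) = 2 * 4 + 1 from rfl, pow_succ, pow_mul, ha2, one_pow, one_mul] at this

end

section

variable (T : SixAct h)

include T

theorem t_one : T.t 1 = 1 := by
  have := T.t_mul 2 1 1 (one_mem _) (one_mem _)
  rwa [mul_one, left_eq_mul] at this

theorem t_inv {σ : Perm (Fin 9)} (hσ : σ ∈ six 2) : T.t σ⁻¹ = (T.t σ)⁻¹ := by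
  refine eq_inv_of_mul_eq_one_left ?_
  rw [← T.t_mul 2 _ _ (inv_mem hσ) hσ, inv_mul_cancel, t_one T]

theorem t_inj {σ τ : Perm (Fin 9)} (hσ : σ ∈ six 2) (hτ : τ ∈ six 2) (e : T.t σ = T.t τ) : σ = τ := by
  have := T.t_ne_one 2 (σ * τ⁻¹) (mul_mem hσ (inv_mem hτ))
    (by rw [T.t_mul 2 _ _ hσ (inv_mem hτ), t_inv T hτ, e, mul_inv_cancel])
  exact mul_inv_eq_one.1 this

theorem t_conj_six {σ τ : Perm (Fin 9)} (hσ : σ ∈ six 2) (hτ : τ ∈ six 2) :
    T.t (σ * τ * σ⁻¹) = T.t σ * T.t τ * (T.t σ)⁻¹ := by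
  rw [T.t_mul 2 _ _ (mul_mem hσ hτ) (inv_mem hσ), T.t_mul 2 _ _ hσ hτ, t_inv T hσ]

theorem t_pow {σ : Perm (Fin 9)} (hσ : σ ∈ six 2) : ∀ n : ℕ, T.t (σ ^ n) = T.t σ ^ n := by
  intro n
  induction n with
  | zero => rw [pow_zero, pow_zero, t_one T]
  | succ n ih => rw [pow_succ, pow_succ, T.t_mul 2 _ _ (pow_mem hσ n) hσ, ih]

theorem t_comm {σ : Perm (Fin 9)} (hσ : σ ∈ six 2) :
    T.t σ * h.el (ax 2) = h.el (ax 2) * T.t σ :=
  (T.cent 2 _).2 ⟨σ, hσ, 0, by rw [pow_zero, one_mul]⟩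

theorem eq_one_of_comm_seven {g : G} (hg : g * h.el (ax 2) = h.el (ax 2) * g) (h7 : g ^ 7 = 1) :
    g = 1 := by
  obtain ⟨σ, hσ, i, rfl⟩ := (T.cent 2 g).1 hg
  have he3 : h.el (ax 2) ^ 3 = 1 := by
    refine h.J_exp ?_
    rw [show ax 2 = jel (0, 0, 1) by decide +kernel]
    exact h.el_jel_mem _
  have hc : Commute (h.el (ax 2) ^ i) (T.t σ) := (show Commute (h.el (ax 2)) (T.t σ) from (t_comm T hσ).symm).pow_left i
  have h3 : (h.el (ax 2) ^ i * T.t σ) ^ 3 = T.t (σ ^ 3) := by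
    rw [hc.mul_pow, ← pow_mul, mul_comm, pow_mul, he3, one_pow, one_mul, t_pow T hσ]
  have h21 : T.t ((σ ^ 3) ^ 7) = 1 := by
    rw [t_pow T (pow_mem hσ 3), ← h3, ← pow_mul, mul_comm, pow_mul, h7, one_pow]
  have hs : σ ^ 3 = 1 :=
    eq_one_of_pow_seven (pow_mem hσ 3) (T.t_ne_one 2 _ (pow_mem (pow_mem hσ 3) 7) h21)
  rw [hs, t_one T] at h3
  rw [show (7 : ℕ) = 3 * 2 + 1 from rfl, pow_succ, pow_mul, h3, one_pow, one_mul] at h7
  exact h7

end

end Bow

namespace SixAct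

open Bow

variable {G : Type*} [Group G] {h : Hyp G}

set_option maxHeartbeats 800000 in
/-- The bound on the centraliser of the four group. -/
theorem card_bow_le [Finite G] (T : SixAct h)
    (hb : Subgroup.centralizer ({h.el pb} : Set G) ≤ Subgroup.normalizer (h.J : Set G))
    (hx : Subgroup.centralizer ({h.el px} : Set G) ≤ Subgroup.normalizer (h.J : Set G)) :
    Nat.card (Subgroup.centralizer ({T.t (dbl 0 1 2 3), h.el (dbl 0 1 4 5)} : Set G)) ≤ 24 := by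
  classical
  haveI := Fact.mk Nat.prime_three
  set C := Subgroup.centralizer ({T.t (dbl 0 1 2 3), h.el (dbl 0 1 4 5)} : Set G) with hCdef
  have hdd : dbl 0 1 2 3 ∈ six 2 ∧ dbl 0 1 4 5 ∈ six 2 ∧ dbl 0 1 4 5 ∈ nineH := by decide +kernel
  have hh : T.t (dbl 0 1 4 5) = h.el (dbl 0 1 4 5) := T.t_el 2 _ hdd.2.1 hdd.2.2
  have hC : ∀ {g : G}, g ∈ C ↔
      Commute g (T.t (dbl 0 1 2 3)) ∧ Commute g (h.el (dbl 0 1 4 5)) := by
    intro g
    rw [hCdef, Subgroup.mem_centralizer_iff]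
    exact ⟨fun hg => ⟨(hg _ (Set.mem_insert _ _)).symm,
      (hg _ (Set.mem_insert_of_mem _ rfl)).symm⟩, fun hg m hm => by
      rcases hm with rfl | rfl
      · exact hg.1.symm
      · exact hg.2.symm⟩
  let Z : Subgroup G :=
    { carrier := Set.range fun p : Fin 2 × Fin 2 => T.t (bowE p.1 p.2)
      one_mem' := ⟨(0, 0), by show T.t (bowE 0 0) = 1; rw [bowE_zero, t_one T]⟩
      mul_mem' := by
        rintro _ _ ⟨p, rfl⟩ ⟨q, rfl⟩
        exact ⟨(p.1 + q.1, p.2 + q.2), by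
          show T.t (bowE (p.1 + q.1) (p.2 + q.2)) = _
          rw [← bowE_mul, T.t_mul 2 _ _ (bowE_mem _ _) (bowE_mem _ _)]⟩
      inv_mem' := by
        rintro _ ⟨p, rfl⟩
        exact ⟨p, by show T.t (bowE p.1 p.2) = _; rw [← t_inv T (bowE_mem _ _), bowE_inv]⟩ }
  have hZ4 : Nat.card Z = 4 := by
    have hinj : Function.Injective (fun p : Fin 2 × Fin 2 => T.t (bowE p.1 p.2)) := fun p q e => by
      have h1 := bowE_inj _ _ _ _ (t_inj T (bowE_mem _ _) (bowE_mem _ _) e)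
      exact Prod.ext h1.1 h1.2
    exact (Nat.card_congr (Equiv.ofInjective _ hinj)).symm.trans (by simp)
  have hZform : ∀ o w : Fin 2, T.t (bowE o w) =
      T.t (dbl 0 1 2 3) ^ o.val * h.el (dbl 0 1 4 5) ^ w.val := fun o w => by
    rw [bowE, T.t_mul 2 _ _ (pow_mem hdd.1 _) (pow_mem hdd.2.1 _), t_pow T hdd.1, t_pow T hdd.2.1,
      hh]
  have hZ : ∀ z ∈ Z, ∀ g ∈ C, z * g = g * z := by
    rintro _ ⟨p, rfl⟩ g hg
    show T.t (bowE p.1 p.2) * g = g * T.t (bowE p.1 p.2)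
    rw [hZform]
    exact (((hC.1 hg).1.pow_right _).mul_right ((hC.1 hg).2.pow_right _)).eq.symm
  have hZC : Z ≤ C := by
    rintro _ ⟨p, rfl⟩
    refine hC.2 ⟨?_, ?_⟩
    · show T.t _ * _ = _ * T.t _
      rw [← T.t_mul 2 _ _ (bowE_mem _ _) hdd.1, ← T.t_mul 2 _ _ hdd.1 (bowE_mem _ _),
        (by decide +kernel : ∀ o w, bowE o w * dbl 0 1 2 3 = dbl 0 1 2 3 * bowE o w) p.1 p.2]
    · rw [← hh]
      show T.t _ * _ = _ * T.t _
      rw [← T.t_mul 2 _ _ (bowE_mem _ _) hdd.2.1, ← T.t_mul 2 _ _ hdd.2.1 (bowE_mem _ _),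
        (by decide +kernel : ∀ o w, bowE o w * dbl 0 1 4 5 = dbl 0 1 4 5 * bowE o w) p.1 p.2]
  set e := h.el (ax 2) with hedef
  have hax : ax 2 = jel (0, 0, 1) := by decide +kernel
  have he3 : orderOf e = 3 := by
    refine orderOf_eq_prime ?_ fun e1 => ?_
    · rw [hedef, hax]; exact h.J_exp (h.el_jel_mem _)
    · rw [← h.el_one] at e1
      exact absurd (h.el_inj (ax_mem_nineH 2) (one_mem _) e1) (by decide +kernel)
  have heC : e ∈ C := hC.2 ⟨(t_comm T hdd.1).symm, hh ▸ (t_comm T hdd.2.1).symm⟩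
  have hCe : ∀ g ∈ C, g * e = e * g → ∃ z ∈ Z, ∃ i : ℕ, g = z * e ^ i := by
    intro g hg hge
    obtain ⟨σ, hσ, i, rfl⟩ := (T.cent 2 g).1 hge
    have hct : T.t σ = (e ^ i)⁻¹ * (e ^ i * T.t σ) := by rw [inv_mul_cancel_left]
    have hσC : T.t σ ∈ C := hct ▸ mul_mem (inv_mem (pow_mem heC i)) hg
    obtain ⟨o, w, rfl⟩ := exists_bowE hσ
      (t_inj T (mul_mem hσ hdd.1) (mul_mem hdd.1 hσ) (by
        rw [T.t_mul 2 _ _ hσ hdd.1, T.t_mul 2 _ _ hdd.1 hσ]; exact (hC.1 hσC).1.eq))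
      (t_inj T (mul_mem hσ hdd.2.1) (mul_mem hdd.2.1 hσ) (by
        rw [T.t_mul 2 _ _ hσ hdd.2.1, T.t_mul 2 _ _ hdd.2.1 hσ, hh]; exact (hC.1 hσC).2.eq))
    exact ⟨_, ⟨(o, w), rfl⟩, i, ((show Commute e (T.t (bowE o w)) from
      (t_comm T (bowE_mem o w)).symm).pow_left i).eq⟩
  let Y : Fin 3 → Fin 3 → G := fun a b => T.t (cTwo ^ a.val) * e ^ b.val
  set u := T.t qTwo
  have hY : ∀ a b, Y a b = u * h.el (jel (a, a, b)) * u⁻¹ := fun a b => by
    have hp : h.el (ax 2 ^ b.val) = e ^ b.val := by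
      obtain rfl | rfl | rfl := (by decide : ∀ k : Fin 3, k = 0 ∨ k = 1 ∨ k = 2) b
      · simp [h.el_one]
      · simp [hedef]
      · show h.el (ax 2 ^ 2) = e ^ 2
        rw [pow_two, pow_two, h.el_mul (ax_mem_nineH 2) (ax_mem_nineH 2)]
    have hue : Commute u (e ^ b.val) := (show Commute u e from t_comm T qTwo_mem).pow_right _
    rw [← pb_mul_ax, h.el_mul (pow_mem pb_mem_nineH _) (pow_mem (ax_mem_nineH 2) _), hp,
      ← T.t_el 2 _ (pb_pow_mem a) (pow_mem pb_mem_nineH _)]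
    show T.t (cTwo ^ a.val) * e ^ b.val = _
    rw [← qTwo_conj, t_conj_six T qTwo_mem (pb_pow_mem a)]
    rw [mul_assoc _ _ (e ^ b.val), hue.inv_left.eq]
    show u * _ * (_ * u⁻¹) = _
    group
  have hYmul : ∀ a b a' b', Y a b * Y a' b' = Y (a + a') (b + b') := fun a b a' b' => by
    rw [hY, hY, hY,
      show ((a + a', a + a', b + b') : Fin 3 × Fin 3 × Fin 3) = (a, a, b) + (a', a', b') from rfl,
      ← jel_mul, h.el_mul (jel_mem_nineH _) (jel_mem_nineH _)]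
    group
  have hY0 : Y 0 0 = 1 := by simp [Y, t_one T]
  have hYinv : ∀ a b, (Y a b)⁻¹ = Y (-a) (-b) := fun a b =>
    inv_eq_of_mul_eq_one_right (by rw [hYmul, add_neg_cancel, add_neg_cancel, hY0])
  let A : Subgroup G :=
    { carrier := Set.range fun p : Fin 3 × Fin 3 => Y p.1 p.2
      one_mem' := ⟨(0, 0), hY0⟩
      mul_mem' := by
        rintro _ _ ⟨p, rfl⟩ ⟨q, rfl⟩
        exact ⟨(p.1 + q.1, p.2 + q.2), (hYmul _ _ _ _).symm⟩
      inv_mem' := by
        rintro _ ⟨p, rfl⟩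
        exact ⟨(-p.1, -p.2), (hYinv _ _).symm⟩ }
  have hA9 : Nat.card A = 9 := by
    have hinj : Function.Injective (fun p : Fin 3 × Fin 3 => Y p.1 p.2) := fun p q e1 => by
      simp only [hY] at e1
      have h1 := jel_injective _ _ (h.el_inj (jel_mem_nineH _) (jel_mem_nineH _)
        (mul_left_cancel (mul_right_cancel e1)))
      simp only [Prod.mk.injEq] at h1
      exact Prod.ext h1.1 h1.2.2
    exact (Nat.card_congr (Equiv.ofInjective _ hinj)).symm.trans (by simp)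
  have hA3 : ∀ g ∈ A, g ^ 3 = 1 := by
    rintro _ ⟨p, rfl⟩
    show Y p.1 p.2 ^ 3 = 1
    rw [hY, conj_pow, h.J_exp (h.el_jel_mem _), mul_one, mul_inv_cancel]
  have hAp : IsPGroup 3 A := IsPGroup.of_card (n := 2) (by rw [hA9]; norm_num)
  have hYZ : ∀ a b, ∀ z ∈ Z, Y a b * z * (Y a b)⁻¹ ∈ Z := by
    rintro a b _ ⟨⟨o, w⟩, rfl⟩
    obtain ⟨o', w', ho⟩ := bowE_conj a o w
    refine ⟨(o', w'), ?_⟩
    show T.t (bowE o' w') = T.t (cTwo ^ a.val) * e ^ b.val * T.t (bowE o w) * _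
    rw [← ho, t_conj_six T (cTwo_pow_mem a) (bowE_mem o w), mul_assoc (T.t (cTwo ^ a.val)) (e ^ b.val),
      ((show Commute e (T.t (bowE o w)) from (t_comm T (bowE_mem o w)).symm).pow_left b.val).eq]
    show _ = _ * (T.t (cTwo ^ a.val) * e ^ b.val)⁻¹
    group
  have hnZ : ∀ a b, Y a b ∈ Subgroup.normalizer (Z : Set G) := fun a b =>
    Subgroup.mem_normalizer_iff.2 fun z => ⟨hYZ a b z, fun hz => by
      have := hYZ (-a) (-b) _ hz
      rw [← hYinv, inv_inv] at this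
      rwa [show (Y a b)⁻¹ * (Y a b * z * (Y a b)⁻¹) * Y a b = z by group] at this⟩
  have hnC : ∀ a b, Y a b ∈ Subgroup.normalizer (C : Set G) := by
    intro a b
    have key : ∀ a b, ∀ g ∈ C, Y a b * g * (Y a b)⁻¹ ∈ C := by
      intro a b g hg
      have hz : ∀ z ∈ Z, Commute (Y a b * g * (Y a b)⁻¹) z := fun z hz => by
        have h1 : (Y a b)⁻¹ * z * Y a b ∈ Z := by
          have := hYZ (-a) (-b) z hz
          rwa [← hYinv, inv_inv] at this
        have h2 : Commute g ((Y a b)⁻¹ * z * Y a b) := (hZ _ h1 g hg).symm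
        show Y a b * g * (Y a b)⁻¹ * z = z * (Y a b * g * (Y a b)⁻¹)
        calc Y a b * g * (Y a b)⁻¹ * z = Y a b * (g * ((Y a b)⁻¹ * z * Y a b)) * (Y a b)⁻¹ := by group
          _ = Y a b * ((Y a b)⁻¹ * z * Y a b * g) * (Y a b)⁻¹ := by rw [h2.eq]
          _ = z * (Y a b * g * (Y a b)⁻¹) := by group
      exact hC.2 ⟨hz _ ⟨(1, 0), by simp [bowE]⟩, hz _ ⟨(0, 1), by simp [bowE, hh]⟩⟩
    refine Subgroup.mem_normalizer_iff.2 fun g => ⟨key a b g, fun hg => ?_⟩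
    have := key (-a) (-b) _ hg
    rw [← hYinv, inv_inv] at this
    rwa [show (Y a b)⁻¹ * (Y a b * g * (Y a b)⁻¹) * Y a b = g by group] at this
  have hAC : A ≤ Subgroup.normalizer (C : Set G) := by
    rintro _ ⟨p, rfl⟩; exact hnC _ _
  have hgood : ∀ a b : Fin 3, a ≠ 0 → Good (Y a b) := by
    intro a b ha
    rw [hY]
    refine Good.conj ?_ u
    obtain hb0 | ⟨g, hg, e1 | e1⟩ := (by decide +kernel : ∀ a b : Fin 3, a ≠ 0 →
      (jel (a, a, b) = pb ∨ jel (a, a, b) = pb⁻¹) ∨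
      ∃ g ∈ moves, g * px * g⁻¹ = jel (a, a, b) ∨ g * px⁻¹ * g⁻¹ = jel (a, a, b)) a b ha
    · rcases hb0 with e1 | e1 <;> rw [e1]
      · exact good_pb hb
      · rw [h.el_inv pb_mem_nineH]; exact (good_pb hb).inv
    · rw [← e1, h.el_conj (moves_mem_nineH g hg) px_mem_nineH]
      exact (good_px hx).conj _
    · rw [← e1, h.el_conj (moves_mem_nineH g hg) (inv_mem px_mem_nineH), h.el_inv px_mem_nineH]
      exact (good_px hx).inv.conj _
  have he0 : e ^ 3 = 1 := he3 ▸ pow_orderOf_eq_one e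
  have hzero : ∀ (b : Fin 3), b ≠ 0 → ∀ g, g * Y 0 b = Y 0 b * g → g * e = e * g := by
    intro b hb0 g hg
    have hYb : Y 0 b = e ^ b.val := by simp [Y, t_one T]
    rw [hYb] at hg
    obtain rfl | rfl := (by decide : ∀ b : Fin 3, b ≠ 0 → b = 1 ∨ b = 2) b hb0
    · simpa using hg
    · have h1 := ((show Commute g (e ^ (2 : Fin 3).val) from hg).pow_right 2).eq
      rwa [show (e ^ (2 : Fin 3).val) ^ 2 = e by
        rw [← pow_mul]; show e ^ (3 + 1) = e
        rw [pow_succ, he0, one_mul]] at h1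
  rcases sections C Z e he3 heC hZC hZ hZ4 hCe with h672 |
    ⟨N, hZN, hNC, hcop, hsol, hnN, hcases⟩
  · exfalso
    obtain ⟨y, ⟨⟨a, b⟩, rfl⟩, hy1, g, -, hg7, hgy⟩ := exists_seven A C hAp hA9.ge hAC h672
    have hg1 : g ≠ 1 := fun e1 => by rw [e1, orderOf_one] at hg7; omega
    by_cases ha : a = 0
    · subst ha
      have hb0 : b ≠ 0 := fun e1 => hy1 (by subst e1; exact hY0)
      exact hg1 (eq_one_of_comm_seven T (hzero b hb0 g hgy) (hg7 ▸ pow_orderOf_eq_one g))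
    · have := orderOf_dvd_of_pow_eq_one ((hgood a b ha).1 g hgy)
      rw [hg7] at this
      omega
  have hfix : ∀ g ∈ N, g * e = e * g → g ∈ Z := by
    intro g hg hge
    obtain ⟨z, hz, i, rfl⟩ := hCe g (hNC hg) hge
    have hei : e ^ i ∈ N := by simpa using mul_mem (inv_mem (hZN hz)) hg
    have h1 := Subgroup.orderOf_dvd_natCard N hei
    have h3 : orderOf (e ^ i) ∣ 3 := he3 ▸ orderOf_pow_dvd i
    have := Nat.eq_one_of_dvd_coprimes hcop h1 h3
    rw [orderOf_eq_one_iff.1 this, mul_one]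
    exact hz
  haveI : IsMulCommutative A := IsMulCommutative.of_comm (by
    rintro ⟨_, p, rfl⟩ ⟨_, q, rfl⟩
    exact Subtype.ext (show Y _ _ * Y _ _ = Y _ _ * Y _ _ by rw [hYmul, hYmul, add_comm p.1, add_comm p.2]))
  have hAnc : ¬ IsCyclic A := fun hcyc => by
    obtain ⟨g, hg⟩ := hcyc.exists_generator
    have h1 : orderOf g = 9 := by
      rw [orderOf_eq_card_of_forall_mem_zpowers hg, hA9]
    have h2 : g ^ 3 = 1 := Subtype.ext (hA3 g g.2)
    have := orderOf_dvd_of_pow_eq_one h2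
    rw [h1] at this
    omega
  have hNZ : N = Z := by
    refine le_antisymm (CfsgLib.CoprimeAction.le_of_centralizers hAnc
      (hAC.trans hnN) (by
        rw [hA9, show (9 : ℕ) = 3 ^ 2 from rfl]; exact (hcop.symm).pow_left 2) ?_) hZN
    rintro _ ⟨⟨a, b⟩, rfl⟩ hy1 g ⟨hgN, hgy⟩
    replace hgy : g * Y a b = Y a b * g := Subgroup.mem_centralizer_singleton_iff.1 hgy
    change Y a b ≠ 1 at hy1
    by_cases ha : a = 0
    · subst ha
      exact hfix g hgN (hzero b (fun e1 => hy1 (by subst e1; exact hY0)) g hgy)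
    · have hy := hgood a b ha
      have hsq : ∀ k ∈ N, k * Y a b = Y a b * k → k ^ 2 = 1 := fun k hk hky => by
        have h1 := orderOf_dvd_of_pow_eq_one (hy.1 k hky)
        have h2 := Subgroup.orderOf_dvd_natCard N hk
        have h3 : (orderOf k).Coprime 9 :=
          (hcop.coprime_dvd_left h2).pow_right 2
        exact orderOf_dvd_iff_pow_eq_one.1
          (h3.dvd_of_dvd_mul_right (show orderOf k ∣ 2 * 9 from h1))
      by_cases hg1 : g = 1
      · rw [hg1]; exact one_mem _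
      refine hfix g hgN ?_
      have heY : Y a b * e = e * Y a b := by
        have he' : e = Y 0 1 := by simp [Y, t_one T]
        rw [he', hYmul, hYmul, add_comm a, add_comm b]
      set k := e * g * e⁻¹ with hk
      have hkN : k ∈ N := (Subgroup.mem_normalizer_iff.1
        (hnN e (Subgroup.le_normalizer heC)) g).1 hgN
      have hky : k * Y a b = Y a b * k := by
        have hec : Commute (Y a b) e := heY
        exact ((hec.mul_right (show Commute (Y a b) g from hgy.symm)).mul_right hec.inv_right).eq.symm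
      have hgk : g * k = k * g := by
        have h1 := hsq (g * k) (mul_mem hgN hkN)
          ((show Commute g (Y a b) from hgy).mul_left (show Commute k (Y a b) from hky)).eq
        have hg2 := hsq g hgN hgy
        have hk2 := hsq k hkN hky
        rw [pow_two] at h1 hg2 hk2
        have e1 := eq_inv_of_mul_eq_one_left h1
        rw [mul_inv_rev, ← eq_inv_of_mul_eq_one_left hg2, ← eq_inv_of_mul_eq_one_left hk2] at e1
        exact e1
      have hk1 : k ≠ 1 := fun e1 => hg1 (conj_eq_one_iff.1 e1)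
      have := hy.2 g k hgy hky (hsq g hgN hgy) (hsq k hkN hky) hgk hg1 hk1
      exact (mul_inv_eq_iff_eq_mul.1 this.symm).symm
  have hN4 : Nat.card N = 4 := by rw [hNZ, hZ4]
  rw [hN4] at hcases
  rcases hcases with hc | hc | ⟨hc, hA5⟩
  · omega
  · omega
  exfalso
  obtain ⟨-, hfix5, -⟩ := hA5 hNZ
  obtain ⟨i, hi⟩ := hfix5 (Y 1 0) (hnC 1 0) (hA3 _ ⟨(1, 0), rfl⟩) (by
    have he' : e = Y 0 1 := by simp [Y, t_one T]
    rw [he', hYmul, hYmul, add_comm (1 : Fin 3), add_comm (0 : Fin 3)]) (hnZ 1 0)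
  haveI : Fact (Nat.Prime 5) := ⟨by norm_num⟩
  obtain ⟨g, hg⟩ := exists_prime_orderOf_dvd_card' (G := C) 5 (by rw [hc]; norm_num)
  obtain ⟨z, hz, hgz⟩ := hi g g.2
  have hyi : Y 1 0 * e ^ i = Y 1 ⟨i % 3, Nat.mod_lt _ (by norm_num)⟩ := by
    show T.t (cTwo ^ (1 : Fin 3).val) * e ^ (0 : Fin 3).val * e ^ i = T.t (cTwo ^ (1 : Fin 3).val) * e ^ (i % 3)
    rw [Fin.val_zero, pow_zero, mul_one, pow_eq_pow_mod i he0]
  rw [hyi] at hgz
  have h18 := (hgood 1 _ (by decide)).1 _ hgz.symm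
  have hgz' : Commute (g : G) z := (hZ z hz g g.2).symm
  have hz4 : z ^ 4 = 1 := by
    have := pow_card_eq_one' (x := (⟨z, hz⟩ : Z))
    rw [hZ4] at this
    exact congrArg Subtype.val this
  rw [hgz'.mul_pow] at h18
  have h72 : (g : G) ^ 72 = 1 := by
    have h1 := congrArg (· ^ 4) h18
    simp only [one_pow] at h1
    rw [(hgz'.pow_pow 18 18).mul_pow, ← pow_mul, ← pow_mul] at h1
    rwa [show 18 * 4 = 4 * 18 from rfl, pow_mul z, hz4, one_pow, mul_one] at h1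
  have := orderOf_dvd_of_pow_eq_one h72
  rw [Subgroup.orderOf_coe, hg] at this
  omega

end SixAct

end CfsgLib.AltNineLocal
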