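/-
Consequences of the labelled copies of the alternating group of degree six: centraliser arithmetic around
the four group on the first four points.
-/
import Cfsg.Agent.Lib.AltNineLocal.CrossBow
import Cfsg.Agent.Lib.AltNineLocal.CrossPerms
import Cfsg.Agent.Lib.AltNineLocal.SixFacts

set_option autoImplicit false
set_option linter.unusedSectionVars false
set_option linter.style.haveILetI false
set_option maxRecDepth 100000

namespace CfsgLib.AltNineLocal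

open Equiv
open Cross (s0 s1 cy qq)

attribute [local instance 10000] List.decidableBAll List.decidableBEx

namespace Cross

theorem klein_closed : ∀ a ∈ [1, s0, s1, s0 * s1], ∀ b ∈ [1, s0, s1, s0 * s1],
    a * b ∈ [1, s0, s1, s0 * s1] ∧ a⁻¹ = a ∧ a * b = b * a := by decide +kernel

theorem klein_six : ∀ a ∈ [1, s0, s1, s0 * s1], a ∈ six 2 := by decide +kernel

/-- The four group on the first four points. -/
def klein : Subgroup (Perm (Fin 9)) where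
  carrier := {σ | σ ∈ [1, s0, s1, s0 * s1]}
  one_mem' := List.mem_cons_self
  mul_mem' := fun {a b} ha hb => (klein_closed a ha b hb).1
  inv_mem' := fun {a} ha => by
    show a⁻¹ ∈ [1, s0, s1, s0 * s1]
    rw [(klein_closed a ha a ha).2.1]; exact ha

theorem klein_le : klein ≤ six 2 := fun a ha => klein_six a ha

theorem card_klein : Nat.card klein = 4 := by
  have : (klein : Set (Perm (Fin 9))) = ([1, s0, s1, s0 * s1].toFinset : Set _) := by
    ext x; simp [klein]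
  rw [← SetLike.coe_sort_coe, this, Nat.card_coe_set_eq, Set.ncard_coe_finset]
  decide +kernel

end Cross

namespace SixAct

variable {G : Type*} [Group G] {h : Hyp G} (T : SixAct h)
include T

/-- The embedding of one copy of the alternating group of degree six. -/
def hom (k : Fin 3) : ↥(six k) →* G :=
  MonoidHom.mk' (fun σ => T.t σ) fun a b => T.t_mul k _ _ a.2 b.2

theorem hom_injective (k : Fin 3) : Function.Injective (T.hom k) := by
  rw [← MonoidHom.ker_eq_bot_iff, eq_bot_iff]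
  intro σ hσ
  exact Subgroup.mem_bot.2 (Subtype.ext (T.t_ne_one k _ σ.2 (MonoidHom.mem_ker.1 hσ)))

theorem six_inj {k : Fin 3} {σ τ : Perm (Fin 9)} (hσ : σ ∈ six k) (hτ : τ ∈ six k) (e : T.t σ = T.t τ) :
    σ = τ :=
  congrArg Subtype.val (T.hom_injective k (a₁ := ⟨σ, hσ⟩) (a₂ := ⟨τ, hτ⟩) e)

theorem six_inv {k : Fin 3} {σ : Perm (Fin 9)} (hσ : σ ∈ six k) : T.t σ⁻¹ = (T.t σ)⁻¹ :=
  map_inv (T.hom k) ⟨σ, hσ⟩

theorem six_pow {k : Fin 3} {σ : Perm (Fin 9)} (hσ : σ ∈ six k) (n : ℕ) : T.t (σ ^ n) = T.t σ ^ n :=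
  map_pow (T.hom k) ⟨σ, hσ⟩ n

theorem six_comm {k : Fin 3} {σ τ : Perm (Fin 9)} (hσ : σ ∈ six k) (hτ : τ ∈ six k) (e : σ * τ = τ * σ) :
    T.t σ * T.t τ = T.t τ * T.t σ := by
  rw [← T.t_mul k σ τ hσ hτ, ← T.t_mul k τ σ hτ hσ, e]

theorem six_of_comm {k : Fin 3} {σ τ : Perm (Fin 9)} (hσ : σ ∈ six k) (hτ : τ ∈ six k)
    (e : T.t σ * T.t τ = T.t τ * T.t σ) : σ * τ = τ * σ :=
  T.six_inj (mul_mem hσ hτ) (mul_mem hτ hσ) (by rw [T.t_mul k σ τ hσ hτ, T.t_mul k τ σ hτ hσ, e])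

theorem comm_ax {k : Fin 3} {σ : Perm (Fin 9)} (hσ : σ ∈ six k) :
    T.t σ * h.el (ax k) = h.el (ax k) * T.t σ :=
  (T.cent k _).2 ⟨σ, hσ, 0, by rw [pow_zero, one_mul]⟩

omit T in
theorem el_pow {σ : Perm (Fin 9)} (hσ : σ ∈ nineH) : ∀ n : ℕ, h.el (σ ^ n) = h.el σ ^ n
  | 0 => by rw [pow_zero, pow_zero, h.el_one]
  | n + 1 => by rw [pow_succ, pow_succ, h.el_mul (pow_mem hσ n) hσ, el_pow hσ n]

omit T in
theorem orderOf_ax (k : Fin 3) : orderOf (h.el (ax k)) = 3 := by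
  haveI : Fact (Nat.Prime 3) := ⟨Nat.prime_three⟩
  have e3 : ∀ k, ax k ^ 3 = 1 ∧ ax k ≠ 1 := by decide +kernel
  refine orderOf_eq_prime ?_ ?_
  · rw [← el_pow (ax_mem_nineH k), (e3 k).1, h.el_one]
  · intro e
    rw [← h.el_one] at e
    exact (e3 k).2 (h.el_inj (ax_mem_nineH k) (one_mem _) e)

theorem zero_decomp {σ : Perm (Fin 9)} (hσ : σ ∈ six 0) {i : ℕ} (e : h.el (ax 0) ^ i * T.t σ = 1) :
    h.el (ax 0) ^ i = 1 := by
  have hax : ax 1 ∈ six 0 ∧ ax 2 ∈ six 0 := by decide +kernel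
  have ht : T.t σ = (h.el (ax 0) ^ i)⁻¹ := (inv_eq_of_mul_eq_one_right e).symm
  have hcomm : ∀ τ ∈ six 0, σ * τ = τ * σ := by
    intro τ hτ
    refine T.six_of_comm hσ hτ ?_
    rw [ht]
    exact ((Commute.symm (T.comm_ax hτ)).pow_left i).inv_left.eq
  have hn := Cross.six0_central σ hσ (hcomm _ hax.1) (hcomm _ hax.2)
  rw [T.t_el 0 σ hσ hn, ← el_pow (ax_mem_nineH 0), ← h.el_inv (pow_mem (ax_mem_nineH 0) i)] at ht
  have hp := h.el_inj hn (inv_mem (pow_mem (ax_mem_nineH 0) i)) ht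
  have hfix : σ 0 = 0 := hσ.2 0 (by decide)
  have hi : ∀ j : Fin 3, (ax 0 ^ (j : ℕ))⁻¹ 0 = 0 → j = 0 := by decide +kernel
  have h3 : ax 0 ^ 3 = 1 := by decide +kernel
  have hj : i % 3 = 0 := congrArg Fin.val (hi ⟨i % 3, Nat.mod_lt _ (by omega)⟩ (by
    show (ax 0 ^ (i % 3))⁻¹ 0 = 0
    rw [← pow_eq_pow_mod i h3, ← hp, hfix]))
  exact orderOf_dvd_iff_pow_eq_one.1 (by rw [orderOf_ax]; omega)

/-- An element of the centraliser of the first axis of order prime to three lies in the copy. -/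
theorem exists_zero {g : G} (hg : g * h.el (ax 0) = h.el (ax 0) * g)
    (ho : (orderOf g).Coprime 3) : ∃ σ ∈ six 0, T.t σ = g := by
  obtain ⟨σ, hσ, i, rfl⟩ := (T.cent 0 g).1 hg
  refine ⟨σ, hσ, ?_⟩
  have hc : Commute (h.el (ax 0) ^ i) (T.t σ) := (Commute.symm (T.comm_ax hσ)).pow_left i
  obtain ⟨m, hm⟩ : ∃ m, m = orderOf (h.el (ax 0) ^ i * T.t σ) := ⟨_, rfl⟩
  have h1 : (h.el (ax 0) ^ i * T.t σ) ^ m = 1 := by rw [hm]; exact pow_orderOf_eq_one _
  rw [hc.mul_pow, ← pow_mul, ← T.six_pow hσ] at h1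
  have h2 := T.zero_decomp (pow_mem hσ m) h1
  rw [← orderOf_dvd_iff_pow_eq_one, orderOf_ax] at h2
  have h3 : 3 ∣ i := by
    rw [← hm] at ho
    exact Nat.Coprime.dvd_of_dvd_mul_right ho.symm h2
  rw [(orderOf_dvd_iff_pow_eq_one.1 (by rw [orderOf_ax]; exact h3) : h.el (ax 0) ^ i = 1), one_mul]

theorem seven_zero {g : G} (hg : g * h.el (ax 0) = h.el (ax 0) * g) (h7 : g ^ 7 = 1) : g = 1 := by
  have ho : (orderOf g).Coprime 3 :=
    Nat.Coprime.coprime_dvd_left (orderOf_dvd_of_pow_eq_one h7) (by decide)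
  obtain ⟨σ, hσ, rfl⟩ := T.exists_zero hg ho
  rw [← T.six_pow hσ] at h7
  rw [Cross.six0_seven σ hσ (T.t_ne_one 0 _ (pow_mem hσ 7) h7)]
  exact map_one (T.hom 0)

theorem t_cy : T.t cy = T.t qq * h.el (ax 0) * (T.t qq)⁻¹ := by
  have hax : ax 0 ∈ six 2 := by decide +kernel
  obtain ⟨hq, e, -⟩ := Cross.qq_facts
  rw [← T.t_el 2 _ hax (ax_mem_nineH 0), ← e, T.t_mul 2 _ _ (mul_mem hq hax) (inv_mem hq),
    T.t_mul 2 _ _ hq hax, T.six_inv hq]

/-- Pulling the centraliser of the second three-cycle back to that of the axis. -/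
theorem conj_cy {g : G} (hg : g * T.t cy = T.t cy * g) :
    ((T.t qq)⁻¹ * g * T.t qq) * h.el (ax 0) = h.el (ax 0) * ((T.t qq)⁻¹ * g * T.t qq) := by
  rw [T.t_cy] at hg
  calc (T.t qq)⁻¹ * g * T.t qq * h.el (ax 0)
      = (T.t qq)⁻¹ * (g * (T.t qq * h.el (ax 0) * (T.t qq)⁻¹)) * T.t qq := by group
    _ = (T.t qq)⁻¹ * (T.t qq * h.el (ax 0) * (T.t qq)⁻¹ * g) * T.t qq := by rw [hg]
    _ = h.el (ax 0) * ((T.t qq)⁻¹ * g * T.t qq) := by group

theorem seven_cy {g : G} (hg : g * T.t cy = T.t cy * g) (h7 : g ^ 7 = 1) : g = 1 := by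
  have := T.seven_zero (T.conj_cy hg) (by
    rw [show (T.t qq)⁻¹ * g * T.t qq = (T.t qq)⁻¹ * g * ((T.t qq)⁻¹)⁻¹ by rw [inv_inv], conj_pow, h7]
    group)
  calc g = T.t qq * ((T.t qq)⁻¹ * g * T.t qq) * (T.t qq)⁻¹ := by group
    _ = 1 := by rw [this]; group

omit T in
theorem good_ax (hb : Subgroup.centralizer ({h.el pb} : Set G) ≤ Subgroup.normalizer (h.J : Set G))
    {j : ℕ} (hj : j = 1 ∨ j = 2) : Bow.Good (h.el (ax 0) * h.el (ax 2) ^ j) := by
  obtain ⟨⟨p, hp, e⟩, ⟨q, hq, e'⟩⟩ := Cross.block_pb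
  have key : ∀ p ∈ nineH, ∀ j : ℕ, p * pb * p⁻¹ = ax 0 * ax 2 ^ j →
      Bow.Good (h.el (ax 0) * h.el (ax 2) ^ j) := by
    intro p hp j e
    rw [← el_pow (ax_mem_nineH 2), ← h.el_mul (ax_mem_nineH 0) (pow_mem (ax_mem_nineH 2) j), ← e,
      h.el_mul (mul_mem hp pb_mem_nineH) (inv_mem hp), h.el_mul hp pb_mem_nineH, h.el_inv hp]
    exact (Bow.good_pb hb).conj _
  rcases hj with rfl | rfl
  · exact key p hp 1 (by rw [pow_one]; exact e)
  · exact key q hq 2 e'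

theorem good_cy (hb : Subgroup.centralizer ({h.el pb} : Set G) ≤ Subgroup.normalizer (h.J : Set G))
    {j : ℕ} (hj : j = 1 ∨ j = 2) : Bow.Good (T.t cy * h.el (ax 2) ^ j) := by
  have hc : Commute (T.t qq) (h.el (ax 2) ^ j) :=
    Commute.pow_right (show Commute _ _ from T.comm_ax Cross.qq_facts.1) j
  have : T.t cy * h.el (ax 2) ^ j = T.t qq * (h.el (ax 0) * h.el (ax 2) ^ j) * (T.t qq)⁻¹ := by
    rw [T.t_cy, mul_assoc _ (T.t qq)⁻¹ _, hc.inv_left.eq]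
    group
  rw [this]
  exact (good_ax hb hj).conj _

end SixAct

end CfsgLib.AltNineLocal
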