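import Cfsg.Agent.Lib.AltNineLocal.CrossSectionsAlt
import Cfsg.Agent.Lib.ClassicalLinear.Card
import Cfsg.Agent.Lib.Cores.PCore
import Cfsg.Agent.S3331

/-!
Groups with a central subgroup of order four over which an element of order three is self-centralising.
-/

set_option autoImplicit false
set_option linter.style.haveILetI false

namespace CfsgLib.AltNineLocal

open Equiv

namespace Sections

variable {G : Type*} [Group G] [Finite G] {C Z : Subgroup G} {e : G}

/-- The properties of the section `C/Z` when it is the alternating group of degree five. -/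
theorem alt_section (he3 : orderOf e = 3) (heC : e ∈ C) (hZ4 : Nat.card Z = 4)
    (hZ : ∀ z ∈ Z, ∀ g ∈ C, z * g = g * z)
    (ρ : C →* A5) (hρ : Function.Surjective ρ) (hker : ∀ g : C, ρ g = 1 ↔ (g : G) ∈ Z) :
    (∀ K : Subgroup G, Z ≤ K → K ≤ C → (∀ g ∈ C, g ∈ Subgroup.normalizer (K : Set G)) →
        K = Z ∨ K = C) ∧
      (∀ c ∈ Subgroup.normalizer (C : Set G), c ^ 3 = 1 → c * e = e * c →
        c ∈ Subgroup.normalizer (Z : Set G) →
        ∃ i : ℕ, ∀ g ∈ C, ∃ z ∈ Z, (c * e ^ i) * (g * z) = (g * z) * (c * e ^ i)) ∧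
      (∀ g ∈ C, g ^ 4 = 1 → g ^ 2 ∈ Z) := by
  classical
  haveI := Fact.mk Nat.prime_three
  refine ⟨fun K hZK hKC hKn => ?_, fun c hc hc3 hce hcZ => ?_, fun g hg hg4 => ?_⟩
  · haveI : IsSimpleGroup A5 := alternatingGroup.isSimpleGroup (by simp)
    haveI : (K.subgroupOf C).Normal :=
      (Subgroup.normal_subgroupOf_iff_le_normalizer hKC).2 hKn
    rcases (Subgroup.Normal.map (inferInstance : (K.subgroupOf C).Normal) ρ hρ).eq_bot_or_eq_top with
      e | e
    · refine Or.inl (le_antisymm (fun k hk => ?_) hZK)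
      exact (hker ⟨k, hKC hk⟩).1 (Subgroup.mem_bot.1 (e ▸ Subgroup.mem_map_of_mem ρ
        (show (⟨k, hKC hk⟩ : C) ∈ K.subgroupOf C from hk)))
    · refine Or.inr (le_antisymm hKC fun g hg => ?_)
      obtain ⟨k, hk, hkg⟩ : ρ ⟨g, hg⟩ ∈ (K.subgroupOf C).map ρ := by rw [e]; trivial
      have hz : ((k⁻¹ * ⟨g, hg⟩ : C) : G) ∈ Z := (hker _).1 (by
        rw [map_mul, map_inv, hkg, inv_mul_cancel])
      have := mul_mem (show (k : G) ∈ K from hk) (hZK hz)
      rwa [Subgroup.coe_mul, Subgroup.coe_inv, mul_inv_cancel_left] at this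
  · set x₀ : A5 := ρ ⟨e, heC⟩ with hx₀
    have hx₀3 : x₀ ^ 3 = 1 := by
      rw [hx₀, ← map_pow, ← map_one ρ]
      congr 1
      exact Subtype.ext (by simpa using he3 ▸ pow_orderOf_eq_one e)
    have hx₀1 : x₀ ≠ 1 := fun h => by
      have := Subgroup.orderOf_dvd_natCard Z ((hker ⟨e, heC⟩).1 h)
      rw [he3, hZ4] at this
      omega
    obtain ⟨a, ha⟩ := exists_conj_x5 x₀ hx₀3 hx₀1
    let σ : C →* A5 := (MulAut.conj a).toMonoidHom.comp ρ
    have hσ : Function.Surjective σ := (MulAut.conj a).surjective.comp hρ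
    have hσker : ∀ g : C, σ g = 1 ↔ (g : G) ∈ Z := fun g => by
      rw [← hker g]
      exact ⟨fun h => (MulAut.conj a).injective (h.trans (map_one _).symm),
        fun h => (congrArg (MulAut.conj a) h).trans (map_one _)⟩
    have hσe : σ ⟨e, heC⟩ = x5 := by
      show MulAut.conj a x₀ = x5
      rw [MulAut.conj_apply, ha]
    have hcC : ∀ g : C, c * (g : G) * c⁻¹ ∈ C := fun g =>
      (Subgroup.mem_normalizer_iff.1 hc (g : G)).1 g.2
    let ψ : C →* C :=
      { toFun := fun g => ⟨_, hcC g⟩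
        map_one' := Subtype.ext (by simp)
        map_mul' := fun g g' => Subtype.ext (by simp [mul_assoc]) }
    let inv : A5 → C := Function.surjInv hσ
    have hinv : ∀ b, σ (inv b) = b := Function.surjInv_eq hσ
    have hwell : ∀ g g' : C, σ g = σ g' → σ (ψ g) = σ (ψ g') := fun g g' h => by
      have hz : ((g⁻¹ * g' : C) : G) ∈ Z := (hσker _).1 (by rw [map_mul, map_inv, h, inv_mul_cancel])
      have h1 : σ (ψ (g⁻¹ * g')) = 1 :=
        (hσker _).2 ((Subgroup.mem_normalizer_iff.1 hcZ _).1 hz)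
      rw [map_mul, map_inv, map_mul, map_inv, inv_mul_eq_one] at h1
      exact h1
    let f : A5 →* A5 := MonoidHom.mk' (fun b => σ (ψ (inv b))) fun b b' => by
      rw [← map_mul, ← map_mul]
      exact hwell _ _ (by rw [map_mul, hinv, hinv, hinv])
    have hf : ∀ g : C, f (σ g) = σ (ψ g) := fun g => hwell _ _ (hinv _)
    obtain ⟨j, hj⟩ := exists_eq_conj f (by
      rw [← hσe, hf]
      congr 1
      exact Subtype.ext (show c * e * c⁻¹ = e by rw [hce, mul_inv_cancel_right])) fun b => by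
      obtain ⟨g, rfl⟩ := hσ b
      rw [hf, hf, hf]
      congr 1
      refine Subtype.ext ?_
      show c * (c * (c * (g : G) * c⁻¹) * c⁻¹) * c⁻¹ = g
      rw [show c * (c * (c * (g : G) * c⁻¹) * c⁻¹) * c⁻¹ = c ^ 3 * g * (c ^ 3)⁻¹ by
        simp [pow_succ, mul_assoc], hc3, one_mul, inv_one, mul_one]
    refine ⟨2 * j, fun g hg => ?_⟩
    set u := c * e ^ (2 * j) with hu
    have hue : Commute c e := hce
    have hu3 : u ^ 3 = 1 := by
      rw [hu, (hue.pow_right _).mul_pow, hc3, ← pow_mul, mul_comm, pow_mul,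
        show e ^ 3 = 1 from he3 ▸ pow_orderOf_eq_one e, one_pow, one_mul]
    have huZ : u ∈ Subgroup.normalizer (Z : Set G) := mul_mem hcZ (pow_mem
      (Subgroup.mem_normalizer_iff.2 fun z => ⟨fun hz => by
        rwa [← hZ z hz e heC, mul_inv_cancel_right], fun hz => by
        have h1 : e⁻¹ * (e * z * e⁻¹) * e = e * z * e⁻¹ := by
          rw [mul_assoc, hZ _ hz e heC, inv_mul_cancel_left]
        rw [show e⁻¹ * (e * z * e⁻¹) * e = z by group] at h1
        rwa [h1]⟩) _)
    have hug : ∀ k : C, u * (k : G) * u⁻¹ ∈ C := fun k => by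
      have h1 : e ^ (2 * j) * (k : G) * (e ^ (2 * j))⁻¹ ∈ C :=
        mul_mem (mul_mem (pow_mem heC _) k.2) (inv_mem (pow_mem heC _))
      have h2 := (Subgroup.mem_normalizer_iff.1 hc _).1 h1
      rwa [show c * (e ^ (2 * j) * (k : G) * (e ^ (2 * j))⁻¹) * c⁻¹ = u * (k : G) * u⁻¹ by
        rw [hu]; group] at h2
    have hz₀ : g⁻¹ * (u * g * u⁻¹) ∈ Z := by
      refine (hσker (⟨g, hg⟩⁻¹ * ⟨_, hug ⟨g, hg⟩⟩)).1 ?_
      have e1 : (⟨_, hug ⟨g, hg⟩⟩ : C) = ψ ((⟨e, heC⟩ : C) ^ (2 * j) * ⟨g, hg⟩ *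
          ((⟨e, heC⟩ : C) ^ (2 * j))⁻¹) := Subtype.ext (by
        show u * g * u⁻¹ = c * ((e ^ (2 * j)) * g * (e ^ (2 * j))⁻¹) * c⁻¹
        rw [hu]; group)
      have e2 : σ ((⟨e, heC⟩ : C) ^ (2 * j) * ⟨g, hg⟩ * ((⟨e, heC⟩ : C) ^ (2 * j))⁻¹) =
          x5 ^ (2 * j) * σ ⟨g, hg⟩ * (x5 ^ (2 * j))⁻¹ := by
        simp only [map_mul, map_inv, map_pow, hσe]
      rw [map_mul, map_inv, e1, ← hf, e2, hj, inv_mul_eq_one]
      rw [show x5 ^ j * (x5 ^ (2 * j) * σ ⟨g, hg⟩ * (x5 ^ (2 * j))⁻¹) * (x5 ^ j)⁻¹ =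
        (x5 ^ (j + 2 * j)) * σ ⟨g, hg⟩ * (x5 ^ (j + 2 * j))⁻¹ by rw [pow_add]; group,
        show x5 ^ (j + 2 * j) = 1 by
          rw [show j + 2 * j = 3 * j by ring, pow_mul,
            show x5 ^ 3 = 1 by decide +kernel, one_pow], one_mul, inv_one, mul_one]
    haveI : Fintype Z := Fintype.ofFinite Z
    have huz : ∀ z : Z, u * (z : G) * u⁻¹ ∈ Z := fun z =>
      (Subgroup.mem_normalizer_iff.1 huZ _).1 z.2
    have hcoset : ∀ z : Z, u * (g * z) * u⁻¹ = g * (g⁻¹ * (u * g * u⁻¹) * (u * (z : G) * u⁻¹)) :=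
      fun z => by group
    let π : Perm Z := Equiv.ofBijective
      (fun z => (⟨_, mul_mem hz₀ (huz z)⟩ : Z)) (Finite.injective_iff_bijective.1 fun z w h => by
        have h1 := congrArg Subtype.val h
        exact Subtype.ext (mul_left_cancel (mul_right_cancel (mul_left_cancel h1))))
    have hπ : π ^ 3 ^ 1 = 1 := by
      refine Equiv.ext fun z => Subtype.ext ?_
      have hstep : ∀ z : Z, g * (π z : G) = u * (g * z) * u⁻¹ := fun z => (hcoset z).symm
      rw [pow_one, pow_succ, pow_succ, pow_one, Perm.mul_apply, Perm.mul_apply]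
      apply mul_left_cancel (a := g)
      rw [hstep, hstep, hstep]
      show _ = g * (z : G)
      rw [show u * (u * (u * (g * z) * u⁻¹) * u⁻¹) * u⁻¹ = u ^ 3 * (g * (z : G)) * (u ^ 3)⁻¹ by
        simp [pow_succ, mul_assoc], hu3, one_mul, inv_one, mul_one]
    obtain ⟨z, hz⟩ := Perm.exists_fixed_point_of_prime (p := 3) (n := 1)
      (by rw [← Nat.card_eq_fintype_card, hZ4]; decide) hπ
    refine ⟨z, z.2, ?_⟩
    have h1 : u * (g * (z : G)) * u⁻¹ = g * z := by
      rw [hcoset]; exact congrArg (fun w : Z => g * (w : G)) hz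
    exact mul_inv_eq_iff_eq_mul.1 h1
  · have h1 : ρ ⟨g, hg⟩ ^ 4 = 1 := by
      rw [← map_pow, ← map_one ρ]; congr 1; exact Subtype.ext (by simpa using hg4)
    have h2 := sq_of_pow_four _ h1
    rw [← map_pow] at h2
    simpa using (hker _).1 h2

end Sections

/-- The possible structures of a group in which, modulo a central subgroup of order four, an element
of order three is self-centralising. -/
theorem sections {G : Type*} [Group G] [Finite G] (C Z : Subgroup G) (e : G) (he3 : orderOf e = 3)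
    (heC : e ∈ C) (hZC : Z ≤ C) (hZ : ∀ z ∈ Z, ∀ g ∈ C, z * g = g * z) (hZ4 : Nat.card Z = 4)
    (hCe : ∀ g ∈ C, g * e = e * g → ∃ z ∈ Z, ∃ i : ℕ, g = z * e ^ i) :
    Nat.card C = 672 ∨ ∃ N : Subgroup G, Z ≤ N ∧ N ≤ C ∧ (Nat.card N).Coprime 3 ∧ Group.IsSolvable N ∧
      (∀ g ∈ Subgroup.normalizer (C : Set G), g ∈ Subgroup.normalizer (N : Set G)) ∧
      (Nat.card C = 3 * Nat.card N ∨ Nat.card C = 6 * Nat.card N ∨
        (Nat.card C = 60 * Nat.card N ∧ (N = Z →
          (∀ K : Subgroup G, Z ≤ K → K ≤ C → (∀ g ∈ C, g ∈ Subgroup.normalizer (K : Set G)) →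
            K = Z ∨ K = C) ∧
          (∀ c ∈ Subgroup.normalizer (C : Set G), c ^ 3 = 1 → c * e = e * c →
            c ∈ Subgroup.normalizer (Z : Set G) →
            ∃ i : ℕ, ∀ g ∈ C, ∃ z ∈ Z, (c * e ^ i) * (g * z) = (g * z) * (c * e ^ i)) ∧
          (∀ g ∈ C, g ^ 4 = 1 → g ^ 2 ∈ Z)))) := by
  classical
  haveI := Fact.mk Nat.prime_three
  let Z₁ : Subgroup C := Z.subgroupOf C
  haveI : Z₁.Normal := ⟨fun z hz c => by
    have h1 : ((c * z * c⁻¹ : C) : G) = z := by
      simp only [Subgroup.coe_mul, Subgroup.coe_inv]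
      rw [← hZ (z : G) hz (c : G) c.2, mul_inv_cancel_right]
    show ((c * z * c⁻¹ : C) : G) ∈ Z
    rw [h1]; exact hz⟩
  have hZ₁ : Nat.card Z₁ = 4 := by
    rw [Nat.card_congr (Subgroup.subgroupOfEquivOfLe hZC).toEquiv, hZ4]
  let π : C →* C ⧸ Z₁ := QuotientGroup.mk' Z₁
  have hπ : ∀ g : C, π g = 1 ↔ (g : G) ∈ Z := fun g => QuotientGroup.eq_one_iff g
  let e₁ : C := ⟨e, heC⟩
  have heq : orderOf (π e₁) = 3 := by
    refine orderOf_eq_prime ?_ fun h => ?_
    · rw [← map_pow, ← map_one π]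
      congr 1
      exact Subtype.ext (by simpa [e₁] using he3 ▸ pow_orderOf_eq_one e)
    · have := Subgroup.orderOf_dvd_natCard Z ((hπ e₁).1 h)
      rw [show orderOf (e₁ : G) = 3 from he3, hZ4] at this
      omega
  have hX : Subgroup.centralizer (Subgroup.zpowers (π e₁) : Set (C ⧸ Z₁)) =
      Subgroup.zpowers (π e₁) := by
    refine le_antisymm (fun q hq => ?_) (Subgroup.le_centralizer _)
    obtain ⟨g, rfl⟩ := QuotientGroup.mk'_surjective Z₁ q
    have h1 := Subgroup.mem_centralizer_iff.1 hq _ (Subgroup.mem_zpowers (π e₁))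
    change π e₁ * π g = π g * π e₁ at h1
    set z : G := (g : G) * e * (g : G)⁻¹ * e⁻¹ with hz
    have hzZ : z ∈ Z := by
      refine (hπ (g * e₁ * g⁻¹ * e₁⁻¹)).1 ?_
      simp only [map_mul, map_inv]
      rw [← h1]; group
    have h4 : z ^ 4 = 1 := by
      have := pow_card_eq_one' (x := (⟨z, hzZ⟩ : Z))
      rw [hZ4] at this
      exact congrArg Subtype.val this
    have h3 : z ^ 3 = 1 := by
      have he : e ^ 3 = 1 := he3 ▸ pow_orderOf_eq_one e
      have hc : Commute z e := hZ z hzZ e heC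
      have h : (z * e) ^ 3 = 1 := by
        rw [hz, inv_mul_cancel_right, conj_pow, he, mul_one, mul_inv_cancel]
      rwa [hc.mul_pow, he, mul_one] at h
    have hz1 : z = 1 := by rwa [pow_succ, h3, one_mul] at h4
    obtain ⟨w, hw, i, hgi⟩ := hCe g g.2 (by
      rw [hz, mul_inv_eq_one, mul_inv_eq_iff_eq_mul] at hz1; exact hz1)
    have e2 : π g = π e₁ ^ i := by
      rw [← map_pow, ← mul_inv_eq_one, ← map_inv, ← map_mul, hπ]
      simpa [hgi, e₁] using hw
    show π g ∈ _
    rw [e2]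
    exact pow_mem (Subgroup.mem_zpowers _) i
  have hcardC : Nat.card C = Nat.card (C ⧸ Z₁) * 4 := by
    rw [Subgroup.card_eq_card_quotient_mul_card_subgroup Z₁, hZ₁]
  have key : ∀ (Nq : Subgroup (C ⧸ Z₁)) [Nq.Normal], Group.IsSolvable Nq → (Nat.card Nq).Coprime 3 →
      (∀ K : Subgroup ((C ⧸ Z₁) ⧸ Nq), K.Normal → ¬ 3 ∣ Nat.card K → K = ⊥) →
      ∃ N : Subgroup G, Z ≤ N ∧ N ≤ C ∧ (Nat.card N).Coprime 3 ∧ Group.IsSolvable N ∧
        (∀ g ∈ Subgroup.normalizer (C : Set G), g ∈ Subgroup.normalizer (N : Set G)) ∧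
        Nat.card C = Nat.card ((C ⧸ Z₁) ⧸ Nq) * Nat.card N ∧
        ∀ g : C, (g : G) ∈ N ↔ (QuotientGroup.mk' Nq) (π g) = 1 := by
    intro Nq _ hsolv hcop' hQ
    let ρ : C →* (C ⧸ Z₁) ⧸ Nq := (QuotientGroup.mk' Nq).comp π
    have hρ : Function.Surjective ρ :=
      (QuotientGroup.mk'_surjective Nq).comp (QuotientGroup.mk'_surjective Z₁)
    have hquotcard : Nat.card C = Nat.card ((C ⧸ Z₁) ⧸ Nq) * Nat.card ρ.ker := by
      rw [Subgroup.card_eq_card_quotient_mul_card_subgroup ρ.ker,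
        Nat.card_congr (QuotientGroup.quotientKerEquivOfSurjective ρ hρ).toEquiv]
    have hkercard : Nat.card ρ.ker = Nat.card Nq * 4 := by
      have h1 : Nat.card ((C ⧸ Z₁) ⧸ Nq) * Nat.card ρ.ker =
          Nat.card ((C ⧸ Z₁) ⧸ Nq) * (Nat.card Nq * 4) := by
        rw [← hquotcard, hcardC, Subgroup.card_eq_card_quotient_mul_card_subgroup Nq, mul_assoc]
      exact Nat.eq_of_mul_eq_mul_left Nat.card_pos h1
    have hcop₁ : (Nat.card ρ.ker).Coprime 3 := by
      rw [hkercard]; exact hcop'.mul_left (by norm_num)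
    have hcore : Cfsg.pPrimeCore 3 C = ρ.ker := by
      refine le_antisymm ?_ (CfsgLib.Cores.le_pPrimeCore hcop₁)
      rw [← Subgroup.map_eq_bot_iff]
      refine hQ _ (Subgroup.Normal.map inferInstance ρ hρ) fun hd => ?_
      exact CfsgLib.Cores.not_dvd_card_pPrimeCore (G := C) (p := 3)
        (hd.trans (Subgroup.card_map_dvd _ ρ))
    have hsolv₁ : Group.IsSolvable ρ.ker := by
      let f : ρ.ker →* Nq := (π.comp ρ.ker.subtype).codRestrict Nq fun g =>
        (QuotientGroup.eq_one_iff _).1 g.2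
      haveI := hsolv
      haveI : Group.IsSolvable f.ker := Group.isSolvable_of_comm fun a b =>
        Subtype.ext (Subtype.ext (Subtype.ext (hZ _ ((hπ _).1 (congrArg Subtype.val a.2)) _
          ((b : ρ.ker) : C).2)))
      exact Group.isSolvable_of_ker_le_range f.ker.subtype f (le_of_eq f.ker.range_subtype.symm)
    refine ⟨ρ.ker.map C.subtype, fun z hz => ⟨⟨z, hZC hz⟩, ?_, rfl⟩,
      Subgroup.map_subtype_le _, by
        rw [Subgroup.card_map_of_injective C.subtype_injective]; exact hcop₁,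
      Group.isSolvable_of_surjective
        (f := (ρ.ker.equivMapOfInjective _ C.subtype_injective).toMonoidHom)
        (ρ.ker.equivMapOfInjective _ C.subtype_injective).surjective,
      fun g hg => ?_, by rw [Subgroup.card_map_of_injective C.subtype_injective, hquotcard],
      fun g => Subgroup.mem_map_iff_mem C.subtype_injective⟩
    · show ρ _ = 1
      rw [MonoidHom.comp_apply, (hπ _).2 hz, map_one]
    · rw [← hcore]
      exact CfsgLib.Cores.normalizer_le_normalizer_map_subtype C _ hg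
  rcases Cfsg.Agent.S3331.result (Subgroup.zpowers (π e₁)) (by rw [Nat.card_zpowers, heq]) hX with
    ⟨Nq, hNn, hnil, hcop, hquot⟩ | ⟨Nq, hNn, hcomm, hexp, ⟨φ⟩⟩ | ⟨⟨φ⟩⟩
  · haveI := hNn
    haveI := hnil
    obtain ⟨N, hN1, hN2, hN3, hN4, hN5, hN6, -⟩ := key Nq inferInstance hcop fun K hK h => by
      rcases hquot with h3 | ⟨⟨ψ⟩⟩
      · have hd := Subgroup.card_subgroup_dvd_card K
        rw [h3] at hd
        rcases (Nat.dvd_prime Nat.prime_three).1 hd with h' | h'
        · exact Subgroup.card_eq_one.1 h'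
        · exact absurd (dvd_of_eq h'.symm) h
      · haveI := hK.map ψ.toMonoidHom ψ.surjective
        have h' := Sections.perm_three_eq_bot (K := K.map ψ.toMonoidHom)
          (by rwa [Subgroup.card_map_of_injective ψ.injective])
        exact (Subgroup.map_eq_bot_iff_of_injective _ ψ.injective).1 h'
    refine Or.inr ⟨N, hN1, hN2, hN3, hN4, hN5, ?_⟩
    rcases hquot with h3 | ⟨⟨ψ⟩⟩
    · exact Or.inl (by rw [hN6, h3])
    · refine Or.inr (Or.inl ?_)
      rw [hN6, Nat.card_congr ψ.toEquiv, Nat.card_eq_fintype_card, Fintype.card_perm]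
      simp [Nat.factorial]
  · haveI := hNn
    have h2 : IsPGroup 2 Nq := fun n => ⟨1, Subtype.ext (by simpa using hexp n.1 n.2)⟩
    obtain ⟨k, hk⟩ := IsPGroup.iff_card.1 h2
    obtain ⟨N, hN1, hN2, hN3, hN4, hN5, hN6, hN7⟩ := key Nq
      (Group.isSolvable_of_comm fun a b => hcomm.is_comm.comm a b)
      (by rw [hk]; exact Nat.Coprime.pow_left k (by norm_num)) fun K hK h => by
      haveI : IsSimpleGroup Sections.A5 := alternatingGroup.isSimpleGroup (by simp)
      rcases (hK.map φ.toMonoidHom φ.surjective).eq_bot_or_eq_top with h' | h'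
      · exact (Subgroup.map_eq_bot_iff_of_injective _ φ.injective).1 h'
      · refine absurd ?_ h
        rw [← Subgroup.card_map_of_injective (f := φ.toMonoidHom) φ.injective, h',
          Subgroup.card_top, Sections.card_A5]
        decide
    refine Or.inr ⟨N, hN1, hN2, hN3, hN4, hN5, Or.inr (Or.inr
      ⟨by rw [hN6, Nat.card_congr φ.toEquiv, Sections.card_A5], fun hNZ => ?_⟩)⟩
    refine Sections.alt_section he3 heC hZ4 hZ
      (φ.toMonoidHom.comp ((QuotientGroup.mk' Nq).comp π))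
      (φ.surjective.comp
        ((QuotientGroup.mk'_surjective Nq).comp (QuotientGroup.mk'_surjective Z₁)))
      fun g => ?_
    rw [← hNZ, hN7]
    exact ⟨fun h => φ.injective (h.trans (map_one φ).symm),
      fun h => (congrArg φ h).trans (map_one φ)⟩
  · haveI : Fact (Nat.Prime 7) := ⟨by norm_num⟩
    left
    have h7 := CfsgLib.ClassicalLinear.card_PSL_two_of_odd (F := ZMod 7) (ZMod.card 7) (by decide)
    rw [show (7 : ℕ) * (7 ^ 2 - 1) = 336 by norm_num] at h7
    rw [hcardC, Nat.card_congr φ.toEquiv]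
    omega

/-- A three-group of order at least nine normalising a group of order 672 has a nontrivial element
centralising an element of order seven. -/
theorem exists_seven {G : Type*} [Group G] [Finite G] (A C : Subgroup G) (hA : IsPGroup 3 A)
    (h9 : 9 ≤ Nat.card A) (hAC : A ≤ Subgroup.normalizer (C : Set G)) (hC : Nat.card C = 672) :
    ∃ y ∈ A, y ≠ 1 ∧ ∃ g ∈ C, orderOf g = 7 ∧ g * y = y * g := by
  classical
  haveI := Fact.mk Nat.prime_three
  haveI : Fact (Nat.Prime 7) := ⟨by norm_num⟩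
  let X := {P : Subgroup G // P ≤ C ∧ Nat.card P = 7}
  letI : MulAction A X :=
    { smul := fun a P => ⟨P.1.map (MulAut.conj (a : G)).toMonoidHom, by
        refine ⟨?_, by rw [Subgroup.card_map_of_injective (MulAut.conj (a : G)).injective, P.2.2]⟩
        rintro _ ⟨g, hg, rfl⟩
        exact (Subgroup.mem_normalizer_iff.1 (hAC a.2) g).1 (P.2.1 hg)⟩
      one_smul := fun P => Subtype.ext (by
        show P.1.map (MulAut.conj ((1 : A) : G)).toMonoidHom = P.1
        ext g; simp [Subgroup.mem_map_equiv])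
      mul_smul := fun a b P => Subtype.ext (by
        show P.1.map (MulAut.conj ((a * b : A) : G)).toMonoidHom =
          (P.1.map (MulAut.conj (b : G)).toMonoidHom).map (MulAut.conj (a : G)).toMonoidHom
        rw [Subgroup.map_map, Subgroup.coe_mul, map_mul]
        rfl) }
  have hsyl : ∀ S : Sylow 7 C, Nat.card S = 7 := fun S => by
    rw [S.card_eq_multiplicity, hC,
      show (672 : ℕ).factorization 7 = 1 by
        rw [show (672 : ℕ) = 7 * 96 from rfl, Nat.factorization_mul (by norm_num) (by norm_num),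
          Finsupp.add_apply, Nat.Prime.factorization_self (by norm_num),
          Nat.factorization_eq_zero_of_not_dvd (by norm_num)],
      pow_one]
  let toX : Sylow 7 C → X := fun S => ⟨(S : Subgroup C).map C.subtype, Subgroup.map_subtype_le _,
    by rw [Subgroup.card_map_of_injective C.subtype_injective]; exact hsyl S⟩
  have hbij : Function.Bijective toX := by
    refine ⟨fun S T h => Sylow.ext (Subgroup.map_injective C.subtype_injective
      (congrArg Subtype.val h)), fun P => ?_⟩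
    have hc : Nat.card (P.1.subgroupOf C) = 7 := by
      rw [Nat.card_congr (Subgroup.subgroupOfEquivOfLe P.2.1).toEquiv, P.2.2]
    obtain ⟨S, hS⟩ := (IsPGroup.of_card (n := 1) (by rw [hc, pow_one]) :
      IsPGroup 7 (P.1.subgroupOf C)).exists_le_sylow
    refine ⟨S, Subtype.ext ?_⟩
    show (S : Subgroup C).map C.subtype = P.1
    rw [← Subgroup.eq_of_le_of_card_ge hS (by rw [hc]; exact (hsyl S).le),
      Subgroup.subgroupOf_map_subtype, inf_eq_left.2 P.2.1]
  have hX : ¬ 3 ∣ Nat.card X := by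
    rw [← Nat.card_congr (Equiv.ofBijective toX hbij)]
    obtain ⟨S⟩ : Nonempty (Sylow 7 C) := inferInstance
    have hd := S.card_dvd_index
    have hm := card_sylow_modEq_one 7 C
    have hi := (S : Subgroup C).card_mul_index
    rw [show Nat.card (S : Subgroup C) = 7 from hsyl S, hC] at hi
    rw [show (S : Subgroup C).index = 96 by omega] at hd
    have hle := Nat.le_of_dvd (by norm_num) hd
    intro h3
    unfold Nat.ModEq at hm
    interval_cases h : Nat.card (Sylow 7 C) <;> omega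
  obtain ⟨P, hP⟩ := hA.nonempty_fixed_point_of_prime_not_dvd_card X hX
  let φ : A →* MulAut P.1 := (Subgroup.normalizerMonoidHom P.1).comp
    (Subgroup.inclusion (fun a ha => Subgroup.mem_normalizer_iff.2 fun g => by
      have h := congrArg Subtype.val (hP ⟨a, ha⟩)
      change P.1.map (MulAut.conj a).toMonoidHom = P.1 at h
      refine ⟨fun hg => h ▸ ⟨g, hg, rfl⟩, fun hg => ?_⟩
      rw [← h] at hg
      obtain ⟨g', hg', e⟩ := hg
      rwa [← (MulAut.conj a).injective e]))
  haveI : IsCyclic P.1 := isCyclic_of_prime_card P.2.2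
  have hrange : Nat.card φ.range ≤ 3 := by
    obtain ⟨k, hk⟩ := IsPGroup.iff_card.1 (hA.of_surjective φ.rangeRestrict φ.rangeRestrict_surjective)
    have hd := Subgroup.card_subgroup_dvd_card φ.range
    rw [IsCyclic.card_mulAut, P.2.2, Nat.totient_prime (by norm_num), hk] at hd
    rw [hk]
    rcases k with _ | _ | k
    · norm_num
    · norm_num
    · exact absurd ((pow_dvd_pow 3 (by omega : 2 ≤ k + 1 + 1)).trans hd) (by norm_num)
  have hker : φ.ker ≠ ⊥ := fun h => by
    have h1 := φ.ker.card_mul_index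
    rw [h, Subgroup.card_bot, one_mul, ← h, Subgroup.index_ker] at h1
    omega
  obtain ⟨y, hy, hy1⟩ := (Subgroup.bot_or_exists_ne_one φ.ker).resolve_left hker
  obtain ⟨g, hg⟩ := exists_prime_orderOf_dvd_card' (G := P.1) 7 (by rw [P.2.2])
  refine ⟨y, y.2, fun h => hy1 (Subtype.ext h), g, P.2.1 g.2, by rw [Subgroup.orderOf_coe, hg], ?_⟩
  have h : ((φ y g : P.1) : G) = g := by rw [MonoidHom.mem_ker.1 hy]; rfl
  exact (mul_inv_eq_iff_eq_mul.1 (show (y : G) * g * (y : G)⁻¹ = g from h)).symm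

end CfsgLib.AltNineLocal
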