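/-
The centraliser of the four group on the first four points is either small or contains the alternating group
on the last five points, centralised by the three-cycles on the first four.
-/
import Cfsg.Agent.Lib.AltNineLocal.CrossCent
import Cfsg.Agent.Lib.AltNineLocal.CrossSections
import Cfsg.Agent.Lib.AltNineLocal.CrossContra
import Cfsg.Agent.Lib.CoprimeAction.Abelian

set_option autoImplicit false
set_option linter.unusedSectionVars false
set_option linter.style.haveILetI false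
set_option maxRecDepth 100000

namespace CfsgLib.AltNineLocal

open Equiv
open Cross (s0 s1 hh cy qq klein)

attribute [local instance 10000] List.decidableBAll List.decidableBEx

theorem Cross.norm_checks : ∀ σ ∈ [1, s0, s1, s0 * s1],
    (ax 0 * σ * (ax 0)⁻¹ ∈ [1, s0, s1, s0 * s1]) ∧ (cy * σ * cy⁻¹ ∈ [1, s0, s1, s0 * s1]) ∧
    (hh * σ * hh⁻¹ ∈ [1, s0, s1, s0 * s1]) ∧ σ * ax 2 = ax 2 * σ ∧
    (σ * cy = cy * σ → σ = 1) ∧ (σ * ax 0 = ax 0 * σ → σ = 1) ∧ σ * Cross.tau = Cross.tau * σ := by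
  decide +kernel

theorem Cross.bow_checks : ∀ σ ∈ [1, s0, hh, s0 * hh],
    σ ∈ six 2 ∧ σ * s0 = s0 * σ ∧ σ * hh = hh * σ ∧ σ * σ = 1 := by decide +kernel

theorem Cross.six_checks : ax 0 ∈ six 2 ∧ cy ∈ six 2 ∧ cy ^ 3 = 1 ∧ s0 ∈ six 2 ∧ s1 ∈ six 2 ∧
    Cross.tau * cy = cy * Cross.tau ∧ ax 2 ∈ six 0 ∧ hh * hh = 1 := by decide +kernel

theorem Cross.bow_nodup : Function.Injective
    (fun k : Fin 4 => ([1, s0, hh, s0 * hh] : List (Perm (Fin 9)))[k.val]'(by simp)) := by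
  intro a b
  revert a b
  decide +kernel

/-- A subgroup mapped into itself by an element is normalised by it. -/
theorem mem_normalizer_of_maps {G : Type*} [Group G] [Finite G] {Z : Subgroup G} {g : G}
    (hg : ∀ z ∈ Z, g * z * g⁻¹ ∈ Z) : g ∈ Subgroup.normalizer (Z : Set G) := by
  refine Subgroup.mem_normalizer_iff.2 fun z => ⟨hg z, fun hz => ?_⟩
  have : Function.Surjective fun z : Z => (⟨g * z * g⁻¹, hg z z.2⟩ : Z) :=
    Finite.injective_iff_surjective.1 fun a b e =>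
      Subtype.ext (mul_left_cancel (mul_right_cancel (congrArg Subtype.val e)))
  obtain ⟨y, hy⟩ := this ⟨_, hz⟩
  rw [← mul_left_cancel (mul_right_cancel (congrArg Subtype.val hy))]
  exact y.2

theorem normalizer_le_normalizer_centralizer {G : Type*} [Group G] (Z : Subgroup G) :
    Subgroup.normalizer (Z : Set G) ≤
      Subgroup.normalizer (Subgroup.centralizer (Z : Set G) : Set G) := by
  have key : ∀ g ∈ Subgroup.normalizer (Z : Set G), ∀ x ∈ Subgroup.centralizer (Z : Set G),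
      g * x * g⁻¹ ∈ Subgroup.centralizer (Z : Set G) := by
    intro g hg x hx
    refine Subgroup.mem_centralizer_iff.2 fun z hz => ?_
    have h1 : g⁻¹ * z * g ∈ Z := by
      have := (Subgroup.mem_normalizer_iff.1 (inv_mem hg) z).1 hz
      rwa [inv_inv] at this
    have h2 := Subgroup.mem_centralizer_iff.1 hx _ h1
    calc z * (g * x * g⁻¹) = g * (g⁻¹ * z * g * x) * g⁻¹ := by group
      _ = g * (x * (g⁻¹ * z * g)) * g⁻¹ := by rw [h2]
      _ = g * x * g⁻¹ * z := by group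
  refine fun g hg => Subgroup.mem_normalizer_iff.2 fun x => ⟨key g hg x, fun hx => ?_⟩
  have := key _ (inv_mem hg) _ hx
  rwa [show g⁻¹ * (g * x * g⁻¹) * g⁻¹⁻¹ = x by group] at this

namespace SixAct

variable {G : Type*} [Group G] {h : Hyp G} (T : SixAct h)

/-- The four group on the first four points. -/
def four : Subgroup G := ((T.hom 2).comp (Subgroup.inclusion Cross.klein_le)).range

theorem mem_four {g : G} : g ∈ T.four ↔ ∃ σ ∈ klein, T.t σ = g :=
  ⟨fun ⟨σ, e⟩ => ⟨σ, σ.2, e⟩, fun ⟨σ, hσ, e⟩ => ⟨⟨σ, hσ⟩, e⟩⟩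

theorem card_four : Nat.card T.four = 4 := by
  have hinj : Function.Injective ((T.hom 2).comp (Subgroup.inclusion Cross.klein_le)) :=
    (T.hom_injective 2).comp (Subgroup.inclusion_injective Cross.klein_le)
  rw [← Cross.card_klein]
  exact (Nat.card_congr (MonoidHom.ofInjective hinj).toEquiv).symm

theorem norm_four [Finite G] {q : Perm (Fin 9)} (hq : q ∈ six 2)
    (hk : ∀ σ ∈ [1, s0, s1, s0 * s1], q * σ * q⁻¹ ∈ [1, s0, s1, s0 * s1]) :
    T.t q ∈ Subgroup.normalizer (T.four : Set G) := by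
  refine mem_normalizer_of_maps fun z hz => ?_
  obtain ⟨σ, hσ, rfl⟩ := T.mem_four.1 hz
  refine T.mem_four.2 ⟨q * σ * q⁻¹, hk σ hσ, ?_⟩
  rw [T.t_mul 2 _ _ (mul_mem hq (Cross.klein_le hσ)) (inv_mem hq),
    T.t_mul 2 _ _ hq (Cross.klein_le hσ), T.six_inv hq]

theorem fixed_four {q : Perm (Fin 9)} (hq : q ∈ six 2)
    (hfix : ∀ σ ∈ [1, s0, s1, s0 * s1], σ * q = q * σ → σ = 1) {z : G} (hz : z ∈ T.four)
    (hc : z * T.t q = T.t q * z) : z = 1 := by
  obtain ⟨σ, hσ, rfl⟩ := T.mem_four.1 hz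
  rw [hfix σ hσ (T.six_of_comm (Cross.klein_le hσ) hq hc)]
  exact map_one (T.hom 2)

theorem cent_four_eq : Subgroup.centralizer ({T.t s0, T.t s1} : Set G) =
    Subgroup.centralizer (T.four : Set G) := by
  refine le_antisymm (fun g hg => Subgroup.mem_centralizer_iff.2 fun z hz => ?_)
    (Subgroup.centralizer_le (Set.insert_subset_iff.2 ⟨?_, Set.singleton_subset_iff.2 ?_⟩))
  · obtain ⟨σ, hσ, rfl⟩ := T.mem_four.1 hz
    have e0 := Subgroup.mem_centralizer_iff.1 hg _ (Set.mem_insert _ _)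
    have e1 := Subgroup.mem_centralizer_iff.1 hg _ (Set.mem_insert_of_mem _ rfl)
    obtain ⟨-, -, -, hs0, hs1, -⟩ := Cross.six_checks
    replace hσ : σ ∈ [1, s0, s1, s0 * s1] := hσ
    simp only [List.mem_cons, List.not_mem_nil, or_false] at hσ
    rcases hσ with rfl | rfl | rfl | rfl
    · rw [show T.t 1 = 1 from map_one (T.hom 2), one_mul, mul_one]
    · exact e0
    · exact e1
    · rw [T.t_mul 2 _ _ hs0 hs1, mul_assoc, e1, ← mul_assoc, e0, mul_assoc]
  · exact T.mem_four.2 ⟨s0, show s0 ∈ [1, s0, s1, s0 * s1] by simp, rfl⟩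
  · exact T.mem_four.2 ⟨s1, show s1 ∈ [1, s0, s1, s0 * s1] by simp, rfl⟩

omit T in
theorem orderOf_eq_one_of_pow [Finite G] {g : G} {m : ℕ} (hg : g ^ m = 1) {n : ℕ} (hn : orderOf g ∣ n)
    (hc : Nat.Coprime m n) : g = 1 :=
  orderOf_eq_one_iff.1 (Nat.eq_one_of_dvd_coprimes hc (orderOf_dvd_of_pow_eq_one hg) hn)

set_option maxHeartbeats 6400000 in
/-- A big crossing centraliser contains the alternating group on the last five points. -/
theorem small_or_commute [Finite G]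
    (hb : Subgroup.centralizer ({h.el pb} : Set G) ≤ Subgroup.normalizer (h.J : Set G))
    (hx : Subgroup.centralizer ({h.el px} : Set G) ≤ Subgroup.normalizer (h.J : Set G)) :
    Nat.card (Subgroup.centralizer ({T.t s0, T.t s1} : Set G)) ≤ 24 ∨
      ∀ τ ∈ altOn ({4, 5, 6, 7, 8} : Finset (Fin 9)), Commute (T.t cy) (T.t τ) := by
  classical
  haveI := Fact.mk Nat.prime_three
  rw [T.cent_four_eq]
  obtain ⟨hax2, hcy2, hcy3, hs02, hs12, htaucy, hax0, hhh⟩ := Cross.six_checks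
  obtain ⟨hqq, -, hqqe⟩ := Cross.qq_facts
  obtain ⟨C, hCdef⟩ : ∃ C, C = Subgroup.centralizer (T.four : Set G) := ⟨_, rfl⟩
  rw [← hCdef]
  obtain ⟨e, hedef⟩ : ∃ e, e = h.el (ax 2) := ⟨_, rfl⟩
  obtain ⟨c, hcdef⟩ : ∃ c, c = T.t cy := ⟨_, rfl⟩
  obtain ⟨a, hadef⟩ : ∃ a, a = h.el (ax 0) := ⟨_, rfl⟩
  have ha2 : T.t (ax 0) = a := by rw [hadef]; exact T.t_el 2 _ hax2 (ax_mem_nineH 0)
  have he6 : T.t (ax 2) = e := by rw [hedef]; exact T.t_el 0 _ hax0 (ax_mem_nineH 2)
  have he3 : orderOf e = 3 := by rw [hedef]; exact orderOf_ax 2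
  have he0 : e ^ 3 = 1 := he3 ▸ pow_orderOf_eq_one e
  have hc3 : c ^ 3 = 1 := by
    rw [hcdef, ← T.six_pow hcy2, hcy3]; exact map_one (T.hom 2)
  have ha3 : a ^ 3 = 1 := by
    have := pow_orderOf_eq_one (h.el (ax 0))
    rwa [orderOf_ax (h := h) 0, ← hadef] at this
  have he0' : e * e * e = 1 := by rw [← pow_two, ← pow_succ, he0]
  have hte : ∀ σ ∈ six 2, T.t σ * e = e * T.t σ := fun σ hσ => hedef ▸ T.comm_ax hσ
  have hce : c * e = e * c := hcdef ▸ hte cy hcy2
  have hae : a * e = e * a := ha2 ▸ hte _ hax2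
  have hZ : ∀ z ∈ T.four, ∀ g ∈ C, z * g = g * z := fun z hz g hg => by
    rw [hCdef] at hg; exact Subgroup.mem_centralizer_iff.1 hg z hz
  have hZ4 := T.card_four
  have hZC : T.four ≤ C := by
    intro z hz
    rw [hCdef]
    refine Subgroup.mem_centralizer_iff.2 fun y hy => ?_
    obtain ⟨σ, hσ, rfl⟩ := T.mem_four.1 hz
    obtain ⟨ρ, hρ, rfl⟩ := T.mem_four.1 hy
    exact T.six_comm (Cross.klein_le hρ) (Cross.klein_le hσ) (Cross.klein_closed ρ hρ σ hσ).2.2
  have heC : e ∈ C := by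
    rw [hCdef]
    refine Subgroup.mem_centralizer_iff.2 fun z hz => ?_
    obtain ⟨σ, hσ, rfl⟩ := T.mem_four.1 hz
    exact hte σ (Cross.klein_le hσ)
  have hCe : ∀ g ∈ C, g * e = e * g → ∃ z ∈ T.four, ∃ i : ℕ, g = z * e ^ i := by
    intro g hg hge
    rw [hedef] at hge
    obtain ⟨σ, hσ, i, rfl⟩ := (T.cent 2 g).1 hge
    rw [← hedef] at hg ⊢
    have hσC : T.t σ ∈ C := by simpa using mul_mem (inv_mem (pow_mem heC i)) hg
    have hk : ∀ ρ, ρ ∈ six 2 → ρ ∈ klein → σ * ρ = ρ * σ := fun ρ hρ hρk =>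
      T.six_of_comm hσ hρ (hZ _ (T.mem_four.2 ⟨ρ, hρk, rfl⟩) _ hσC).symm
    refine ⟨T.t σ, T.mem_four.2 ⟨σ, Cross.klein_cent σ hσ (hk _ hs02 (show s0 ∈ [1, s0, s1, s0 * s1] by simp))
      (hk _ hs12 (show s1 ∈ [1, s0, s1, s0 * s1] by simp)), rfl⟩, i, ?_⟩
    exact ((show Commute e (T.t σ) from (hte σ hσ).symm).pow_left i).eq
  have hcZ : c ∈ Subgroup.normalizer (T.four : Set G) :=
    hcdef ▸ T.norm_four hcy2 fun σ hσ => (Cross.norm_checks σ hσ).2.1
  have haZ : a ∈ Subgroup.normalizer (T.four : Set G) :=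
    ha2 ▸ T.norm_four hax2 fun σ hσ => (Cross.norm_checks σ hσ).1
  obtain ⟨hhN, -, -, hh2, -⟩ := Cross.basics
  have hhh2 : T.t hh = h.el hh := T.t_el 2 _ hh2 hhN
  obtain ⟨b, hbdef⟩ : ∃ b, b = T.t hh := ⟨_, rfl⟩
  have hbZ : b ∈ Subgroup.normalizer (T.four : Set G) :=
    hbdef ▸ T.norm_four hh2 fun σ hσ => (Cross.norm_checks σ hσ).2.2.1
  have hnC : ∀ g ∈ Subgroup.normalizer (T.four : Set G), g ∈ Subgroup.normalizer (C : Set G) :=
    fun g hg => hCdef ▸ normalizer_le_normalizer_centralizer T.four hg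
  have hcfix : ∀ z ∈ T.four, z * c = c * z → z = 1 := fun z hz hc =>
    T.fixed_four hcy2 (fun σ hσ => (Cross.norm_checks σ hσ).2.2.2.2.1) hz (hcdef ▸ hc)
  have hafix : ∀ z ∈ T.four, z * a = a * z → z = 1 := fun z hz hc =>
    T.fixed_four hax2 (fun σ hσ => (Cross.norm_checks σ hσ).2.2.2.2.2.1) hz (ha2.symm ▸ hc)
  have hgood_c : ∀ j : ℕ, j = 1 ∨ j = 2 → Bow.Good (c * e ^ j) := fun j hj => by
    rw [hcdef, hedef]; exact T.good_cy hb hj
  have hgood_a : ∀ j : ℕ, j = 1 ∨ j = 2 → Bow.Good (a * e ^ j) := fun j hj => by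
    rw [hadef, hedef]; exact good_ax hb hj
  -- the subgroup generated by `c` and `e`
  obtain ⟨A, hAdef⟩ : ∃ A, A = Subgroup.closure ({c, e} : Set G) := ⟨_, rfl⟩
  have hAform : ∀ g ∈ A, ∃ i j : ℕ, g = c ^ i * e ^ j := by
    intro g hg
    rw [hAdef] at hg
    induction hg using Subgroup.closure_induction with
    | mem x hx =>
      rcases hx with rfl | hx
      · exact ⟨1, 0, by simp⟩
      · exact ⟨0, 1, by simp [Set.mem_singleton_iff.1 hx]⟩
    | one => exact ⟨0, 0, by simp⟩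
    | mul x y _ _ hx hy =>
      obtain ⟨i, j, rfl⟩ := hx
      obtain ⟨k, l, rfl⟩ := hy
      refine ⟨i + k, j + l, ?_⟩
      rw [pow_add, pow_add, mul_assoc, ← mul_assoc (e ^ j),
        ((show Commute e c from hce.symm).pow_pow j k).eq]
      simp only [mul_assoc]
    | inv x _ hx =>
      obtain ⟨i, j, rfl⟩ := hx
      refine ⟨2 * i, 2 * j, inv_eq_of_mul_eq_one_right ?_⟩
      rw [mul_assoc, ← mul_assoc (e ^ j), ((show Commute e c from hce.symm).pow_pow j (2 * i)).eq,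
        mul_assoc, ← mul_assoc, ← pow_add, ← pow_add, show i + 2 * i = 3 * i by ring,
        show j + 2 * j = 3 * j by ring, pow_mul, pow_mul, hc3, he0, one_pow, one_pow, one_mul]
  have hred : ∀ g ∈ A, g ≠ 1 → ∀ k, k * g = g * k →
      k * e = e * k ∨ k * c = c * k ∨ ∃ j : ℕ, (j = 1 ∨ j = 2) ∧ k * (c * e ^ j) = c * e ^ j * k := by
    intro g hg hg1 k hk
    obtain ⟨i, j, rfl⟩ := hAform g hg
    rw [pow_eq_pow_mod i hc3, pow_eq_pow_mod j he0] at hk hg1
    have hi := Nat.mod_lt i (show 3 > 0 by norm_num)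
    have hj := Nat.mod_lt j (show 3 > 0 by norm_num)
    revert hk hg1 hi hj
    generalize i % 3 = u
    generalize j % 3 = v
    intro hg1 hk hu hv
    have hsq : (c ^ u * e ^ v) ^ 2 = c ^ (2 * u) * e ^ (2 * v) := by
      rw [((show Commute c e from hce).pow_pow u v).mul_pow, ← pow_mul, ← pow_mul, mul_comm u, mul_comm v]
    have hk2 : k * (c ^ (2 * u) * e ^ (2 * v)) = c ^ (2 * u) * e ^ (2 * v) * k := by
      rw [← hsq]; exact ((show Commute k _ from hk).pow_right 2).eq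
    interval_cases u <;> interval_cases v <;>
      simp only [pow_eq_pow_mod (2 * 2) hc3, pow_eq_pow_mod (2 * 2) he0, show 2 * 2 % 3 = 1 by norm_num,
        show 2 * 1 = 2 by norm_num, show 2 * 0 = 0 by norm_num, pow_zero, pow_one, one_mul, mul_one] at hk hk2 hg1
    · exact absurd rfl hg1
    · exact Or.inl hk
    · exact Or.inl hk2
    · exact Or.inr (Or.inl hk)
    · exact Or.inr (Or.inr ⟨1, Or.inl rfl, by rwa [pow_one]⟩)
    · exact Or.inr (Or.inr ⟨2, Or.inr rfl, hk⟩)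
    · exact Or.inr (Or.inl hk2)
    · exact Or.inr (Or.inr ⟨2, Or.inr rfl, hk2⟩)
    · exact Or.inr (Or.inr ⟨1, Or.inl rfl, by rwa [pow_one]⟩)
  have hA : A ≤ Subgroup.normalizer (C : Set G) := by
    rw [hAdef, Subgroup.closure_le]
    rintro g (rfl | hg)
    · exact hnC _ hcZ
    · rw [Set.mem_singleton_iff.1 hg]; exact Subgroup.le_normalizer heC
  have hA3 : IsPGroup 3 A := fun g => ⟨1, Subtype.ext (by
    obtain ⟨i, j, hij⟩ := hAform g g.2
    show (g : G) ^ 3 ^ 1 = 1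
    rw [pow_one, hij, ((show Commute c e from hce).pow_pow i j).mul_pow, ← pow_mul, ← pow_mul, mul_comm i,
      mul_comm j, pow_mul, pow_mul, hc3, he0, one_pow, one_pow, one_mul])⟩
  have hcA : c ∈ A := hAdef ▸ Subgroup.subset_closure (Set.mem_insert _ _)
  have heA : e ∈ A := hAdef ▸ Subgroup.subset_closure (Set.mem_insert_of_mem _ rfl)
  haveI : IsMulCommutative A := IsMulCommutative.of_comm fun x y => Subtype.ext (by
    obtain ⟨i, j, hij⟩ := hAform x x.2
    obtain ⟨k, l, hkl⟩ := hAform y y.2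
    show (x : G) * y = y * x
    have hec : Commute c e := hce
    rw [hij, hkl]
    exact ((((Commute.refl c).pow_pow i k).mul_right (hec.pow_pow i l)).mul_left
      ((hec.symm.pow_pow j k).mul_right ((Commute.refl e).pow_pow j l))).eq)
  have hcne : ∀ i : ℕ, c ≠ e ^ i := fun i hci => by
    have hk : ¬ ∀ σ ∈ [1, s0, s1, s0 * s1], σ * cy = cy * σ := by decide +kernel
    refine hk fun σ hσ => T.six_of_comm (Cross.klein_le hσ) hcy2 ?_
    rw [← hcdef, hci]
    exact ((show Commute (T.t σ) e from hte σ (Cross.klein_le hσ)).pow_right i).eq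
  have hAnc : ¬ IsCyclic A := fun hcyc => by
    obtain ⟨g, hg⟩ := hcyc.exists_generator
    have hc1 := Subgroup.mem_zpowers_iff.1 (hg ⟨c, hcA⟩)
    obtain ⟨n, hn⟩ := hc1
    obtain ⟨m, hm⟩ := Subgroup.mem_zpowers_iff.1 (hg ⟨e, heA⟩)
    obtain ⟨i, j, hij⟩ := hAform g g.2
    have hg3 : (g : G) ^ 3 = 1 := by
      rw [hij, ((show Commute c e from hce).pow_pow i j).mul_pow, ← pow_mul, ← pow_mul, mul_comm i,
        mul_comm j, pow_mul, pow_mul, hc3, he0, one_pow, one_pow, one_mul]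
    have hme : (g : G) ^ m = e := congrArg Subtype.val hm
    have hnc : (g : G) ^ n = c := congrArg Subtype.val hn
    have hg1 : orderOf (g : G) = 3 := orderOf_eq_prime hg3 fun h1 => by
      rw [h1, one_zpow] at hme
      rw [← hme, orderOf_one] at he3
      omega
    have hz : Subgroup.zpowers e = Subgroup.zpowers (g : G) :=
      Subgroup.eq_of_le_of_card_ge (Subgroup.zpowers_le.2 ⟨m, hme⟩)
        (by rw [Nat.card_zpowers, Nat.card_zpowers, hg1, he3])
    have : c ∈ Subgroup.zpowers e := hz ▸ ⟨n, hnc⟩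
    obtain ⟨k, hk⟩ := (mem_zpowers_iff_mem_range_orderOf.1 this) |> Finset.mem_image.1
    exact hcne k hk.2.symm
  rcases sections C T.four e he3 heC hZC hZ hZ4 hCe with h672 |
    ⟨N, hZN, hNC, hcop, -, hnN, hcases⟩
  · exfalso
    have h9 : 9 ≤ Nat.card A := by
      obtain ⟨n, hn⟩ := hA3.exists_card_eq
      rcases n with _ | _ | n
      · exfalso
        rw [pow_zero, Subgroup.card_eq_one] at hn
        rw [hn, Subgroup.mem_bot] at heA
        rw [heA, orderOf_one] at he3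
        omega
      · exact absurd (isCyclic_of_prime_card (p := 3) (by simpa using hn)) hAnc
      · rw [hn, pow_succ, pow_succ]
        have := Nat.one_le_pow n 3 (by norm_num)
        omega
    obtain ⟨y, hyA, hy1, g, -, hg7, hgy⟩ := exists_seven A C hA3 h9 hA h672
    have h7 : g ^ 7 = 1 := hg7 ▸ pow_orderOf_eq_one g
    have hg1 : g ≠ 1 := fun e1 => by rw [e1, orderOf_one] at hg7; omega
    rcases hred y hyA hy1 g hgy with k | k | ⟨j, hj, k⟩
    · exact hg1 (Bow.eq_one_of_comm_seven T (hedef ▸ k) h7)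
    · exact hg1 (T.seven_cy (hcdef ▸ k) h7)
    · have := orderOf_dvd_of_pow_eq_one ((hgood_c j hj).1 g k)
      rw [hg7] at this
      omega
  have hfix : ∀ g ∈ N, g * e = e * g → g ∈ T.four := by
    intro g hg hge
    obtain ⟨z, hz, i, rfl⟩ := hCe g (hNC hg) hge
    have hei : e ^ i ∈ N := by simpa using mul_mem (inv_mem (hZN hz)) hg
    have := orderOf_eq_one_of_pow (g := e ^ i) (m := 3)
      (by rw [← pow_mul, mul_comm, pow_mul, he0, one_pow]) (Subgroup.orderOf_dvd_natCard N hei) hcop.symm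
    rw [this, mul_one]
    exact hz
  obtain ⟨W, hWdef⟩ : ∃ W, W = N ⊓ Subgroup.centralizer ({c} : Set G) := ⟨_, rfl⟩
  have hmemW : ∀ {g : G}, g ∈ W ↔ g ∈ N ∧ g * c = c * g := fun {g} => by
    rw [hWdef, Subgroup.mem_inf, Subgroup.mem_centralizer_singleton_iff]
  have hWZ : ∀ g ∈ W, g ∈ T.four → g = 1 := fun g hg hgZ => hcfix g hgZ (hmemW.1 hg).2
  have hWe : ∀ g ∈ W, g * e = e * g → g = 1 := fun g hg hge => hWZ g hg (hfix g (hmemW.1 hg).1 hge)
  have heW : ∀ g ∈ W, e * g * e⁻¹ ∈ W := by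
    intro g hg
    obtain ⟨hgN, hgc⟩ := hmemW.1 hg
    refine hmemW.2 ⟨(Subgroup.mem_normalizer_iff.1 (hnN e (Subgroup.le_normalizer heC)) g).1 hgN, ?_⟩
    exact (((show Commute c e from hce).mul_right (show Commute c g from hgc.symm)).mul_right
      (show Commute c e from hce).inv_right).eq.symm
  -- the core is central by the crossing element
  have hNle : N ≤ T.four ⊔ W := by
    have hcop' : (Nat.card A).Coprime (Nat.card N) := by
      obtain ⟨n, hn⟩ := hA3.exists_card_eq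
      rw [hn]; exact hcop.symm.pow_left n
    refine CfsgLib.CoprimeAction.le_of_centralizers hAnc (hA.trans hnN) hcop' ?_
    rintro y hy hy1 g ⟨hgN, hgy⟩
    rcases hred y hy hy1 g (Subgroup.mem_centralizer_singleton_iff.1 hgy) with k | k | ⟨j, hj, k⟩
    · exact Subgroup.mem_sup_left (hfix g hgN k)
    · exact Subgroup.mem_sup_right (hmemW.2 ⟨hgN, k⟩)
    · refine Subgroup.mem_sup_left ?_
      have hy' := hgood_c j hj
      have hsq : ∀ x ∈ N, x * (c * e ^ j) = c * e ^ j * x → x ^ 2 = 1 := fun x hx hxy => by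
        have h1 := orderOf_dvd_of_pow_eq_one (hy'.1 x hxy)
        have h3 : (orderOf x).Coprime 9 :=
          (hcop.coprime_dvd_left (Subgroup.orderOf_dvd_natCard N hx)).pow_right 2
        exact orderOf_dvd_iff_pow_eq_one.1 (h3.dvd_of_dvd_mul_right (show orderOf x ∣ 2 * 9 from h1))
      by_cases hg1 : g = 1
      · rw [hg1]; exact one_mem _
      refine hfix g hgN ?_
      obtain ⟨g', hg'⟩ : ∃ g', g' = e * g * e⁻¹ := ⟨_, rfl⟩
      have hg'N : g' ∈ N := hg' ▸
        (Subgroup.mem_normalizer_iff.1 (hnN e (Subgroup.le_normalizer heC)) g).1 hgN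
      have hec : Commute (c * e ^ j) e := (show Commute c e from hce).mul_left ((Commute.refl e).pow_left j)
      have hg'y : g' * (c * e ^ j) = c * e ^ j * g' := by
        rw [hg']
        exact ((hec.mul_right (show Commute (c * e ^ j) g from k.symm)).mul_right hec.inv_right).eq.symm
      have hcomm : g * g' = g' * g := by
        have h1 := hsq (g * g') (mul_mem hgN hg'N)
          ((show Commute g (c * e ^ j) from k).mul_left (show Commute g' (c * e ^ j) from hg'y)).eq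
        have h2 := hsq g hgN k
        have h3 := hsq g' hg'N hg'y
        rw [pow_two] at h1 h2 h3
        have e1 := eq_inv_of_mul_eq_one_left h1
        rw [mul_inv_rev, ← eq_inv_of_mul_eq_one_left h2, ← eq_inv_of_mul_eq_one_left h3] at e1
        exact e1
      have := hy'.2 g g' k hg'y (hsq g hgN k) (hsq g' hg'N hg'y) hcomm hg1
        (fun e1 => hg1 (conj_eq_one_iff.1 (hg' ▸ e1)))
      rw [hg'] at this
      exact (mul_inv_eq_iff_eq_mul.1 this.symm).symm
  have hNle' : ∀ g ∈ N, ∃ z ∈ T.four, ∃ n' ∈ W, g = z * n' := by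
    let K : Subgroup G :=
      { carrier := {g | ∃ z ∈ T.four, ∃ n' ∈ W, g = z * n'}
        one_mem' := ⟨1, one_mem _, 1, one_mem _, (one_mul _).symm⟩
        mul_mem' := by
          rintro _ _ ⟨z, hz, u, hu, rfl⟩ ⟨z', hz', u', hu', rfl⟩
          refine ⟨z * z', mul_mem hz hz', u * u', mul_mem hu hu', ?_⟩
          rw [show z * u * (z' * u') = z * (u * z') * u' by group, ← hZ z' hz' u (hNC (hmemW.1 hu).1)]
          group
        inv_mem' := by
          rintro _ ⟨z, hz, u, hu, rfl⟩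
          refine ⟨z⁻¹, inv_mem hz, u⁻¹, inv_mem hu, ?_⟩
          rw [mul_inv_rev, hZ _ (inv_mem hz) _ (inv_mem (hNC (hmemW.1 hu).1))] }
    intro g hg
    exact (sup_le (show T.four ≤ K from fun z hz => ⟨z, hz, 1, one_mem _, (mul_one z).symm⟩)
      (show W ≤ K from fun u hu => ⟨1, one_mem _, u, hu, (one_mul u).symm⟩)) (hNle hg)
  have hsurj : ∀ w ∈ W, ∃ n ∈ W, n⁻¹ * (e * n * e⁻¹) = w := by
    intro w hw
    have hmem : ∀ n : W, (n : G)⁻¹ * (e * n * e⁻¹) ∈ W := fun n => mul_mem (inv_mem n.2) (heW n n.2)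
    let ψ : W → W := fun n => ⟨_, hmem n⟩
    obtain ⟨n, hn⟩ := (Finite.injective_iff_surjective (f := ψ)).1 (fun x y exy => Subtype.ext (by
        have hxy : (x : G)⁻¹ * (e * x * e⁻¹) = (y : G)⁻¹ * (e * y * e⁻¹) := congrArg Subtype.val exy
        refine mul_inv_eq_one.1 (hWe ((y : G) * (x : G)⁻¹) (mul_mem y.2 (inv_mem x.2)) ?_) |>.symm
        calc (y : G) * (x : G)⁻¹ * e = (y : G) * ((x : G)⁻¹ * (e * x * e⁻¹)) * e * (x : G)⁻¹ := by group
          _ = (y : G) * ((y : G)⁻¹ * (e * y * e⁻¹)) * e * (x : G)⁻¹ := by rw [hxy]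
          _ = e * ((y : G) * (x : G)⁻¹) := by group)) ⟨w, hw⟩
    exact ⟨n, n.2, congrArg Subtype.val hn⟩
  by_cases hW1 : ∃ w ∈ W, w ≠ 1
  · exfalso
    obtain ⟨w, hw, hw1⟩ := hW1
    obtain ⟨q, hqdef⟩ : ∃ q, q = T.t qq := ⟨_, rfl⟩
    have hqe : q * e = e * q := hqdef ▸ hte qq hqq
    have hq : ∀ g ∈ W, ∃ σ ∈ six 0, T.t σ = q⁻¹ * g * q := by
      intro g hg
      refine T.exists_zero ?_ ?_
      · rw [hqdef]; exact T.conj_cy (hcdef ▸ (hmemW.1 hg).2)
      · rw [show q⁻¹ * g * q = MulAut.conj q⁻¹ g by simp [MulAut.conj_apply],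
          MulEquiv.orderOf_eq]
        exact hcop.coprime_dvd_left (Subgroup.orderOf_dvd_natCard N (hmemW.1 hg).1)
    have hconj : ∀ {σ : Perm (Fin 9)}, σ ∈ six 0 → ax 2 * σ * (ax 2)⁻¹ ∈ six 0 ∧
        T.t (ax 2 * σ * (ax 2)⁻¹) = e * T.t σ * e⁻¹ := fun {σ} hσ =>
      ⟨mul_mem (mul_mem hax0 hσ) (inv_mem hax0), by rw [hedef]; exact T.t_conj 0 σ _ hσ (ax_mem_nineH 2)⟩
    have hqc : ∀ g : G, q⁻¹ * (e * g * e⁻¹) * q = e * (q⁻¹ * g * q) * e⁻¹ := fun g => by
      have h1 : q⁻¹ * e = e * q⁻¹ := ((show Commute q e from hqe).inv_left).eq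
      have h2 : e⁻¹ * q = q * e⁻¹ := ((show Commute q e from hqe).inv_right).eq.symm
      calc q⁻¹ * (e * g * e⁻¹) * q = q⁻¹ * e * g * (e⁻¹ * q) := by group
        _ = e * q⁻¹ * g * (q * e⁻¹) := by rw [h1, h2]
        _ = e * (q⁻¹ * g * q) * e⁻¹ := by group
    have hsq2 : ∀ σ ∈ six 0, ax 2 ^ 2 * σ * (ax 2 ^ 2)⁻¹ = ax 2 * (ax 2 * σ * (ax 2)⁻¹) * (ax 2)⁻¹ :=
      fun σ _ => by rw [pow_two]; group
    have hok : ∀ g ∈ W, ∀ σ ∈ six 0, T.t σ = q⁻¹ * g * q → Cross.Ok σ := by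
      intro g hg σ hσ hg'
      by_cases hσ1 : σ = 1
      · exact Or.inl hσ1
      have hg1 : g ≠ 1 := fun e1 => hσ1 (T.t_ne_one 0 σ hσ (by rw [hg', e1]; group))
      refine Or.inr ⟨fun hcm => hg1 (hWe g hg ?_), fun h3 => hg1 ?_, ?_⟩
      · have h1 := T.six_comm hσ hax0 hcm
        rw [hg', he6] at h1
        calc g * e = q * (q⁻¹ * g * q * e) * q⁻¹ := by
              rw [show q⁻¹ * g * q * e = q⁻¹ * g * (q * e) by group, hqe]; group
          _ = q * (e * (q⁻¹ * g * q)) * q⁻¹ := by rw [h1]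
          _ = e * g := by
              rw [show q * (e * (q⁻¹ * g * q)) = q * e * (q⁻¹ * g * q) by group, hqe]; group
      · refine orderOf_eq_one_of_pow (m := 3) ?_ (Subgroup.orderOf_dvd_natCard N (hmemW.1 hg).1) hcop.symm
        have h1 : (q⁻¹ * g * q) ^ 3 = 1 := by
          rw [← hg', ← T.six_pow hσ, h3]; exact map_one (T.hom 0)
        calc g ^ 3 = (q * (q⁻¹ * g * q) * q⁻¹) ^ 3 := by group
          _ = 1 := by rw [conj_pow, h1]; group
      · obtain ⟨n, -, hn⟩ := hsurj g hg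
        obtain ⟨s1', t1'⟩ := hconj hσ
        obtain ⟨s2', t2'⟩ := hconj s1'
        rw [hsq2 σ hσ]
        refine T.t_ne_one 0 _ (mul_mem (mul_mem hσ s1') s2') ?_
        rw [T.t_mul 0 _ _ (mul_mem hσ s1') s2', T.t_mul 0 _ _ hσ s1', t2', t1', hg', ← hqc, ← hqc, ← hn]
        have : e ^ 3 = 1 := he0
        calc q⁻¹ * (n⁻¹ * (e * n * e⁻¹)) * q * (q⁻¹ * (e * (n⁻¹ * (e * n * e⁻¹)) * e⁻¹) * q) *
              (q⁻¹ * (e * (e * (n⁻¹ * (e * n * e⁻¹)) * e⁻¹) * e⁻¹) * q)
            = q⁻¹ * (n⁻¹ * (e * e * e) * n * (e * e * e)⁻¹) * q := by group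
          _ = 1 := by rw [he0']; group
    have hinv : ∀ g ∈ W, g * g = 1 := by
      intro g hg
      obtain ⟨σ, hσ, hg'⟩ := hq g hg
      have h2 : T.t (σ * σ) = q⁻¹ * (g * g) * q := by rw [T.t_mul 0 _ _ hσ hσ, hg']; group
      have h3 := Cross.ok_sq σ hσ (hok g hg σ hσ hg') (hok _ (mul_mem hg hg) _ (mul_mem hσ hσ) h2)
      rw [h3, show T.t 1 = 1 from map_one (T.hom 0)] at h2
      calc g * g = q * (q⁻¹ * (g * g) * q) * q⁻¹ := by group
        _ = 1 := by rw [← h2]; group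
    have horb : ∀ g ∈ W, g ≠ 1 → g = w ∨ g = e * w * e⁻¹ ∨ g = e * (e * w * e⁻¹) * e⁻¹ := by
      intro g hg hg1
      obtain ⟨σ, hσ, hσe⟩ := hq w hw
      obtain ⟨ρ, hρ, hρe⟩ := hq g hg
      have hσ1 : σ ≠ 1 := fun e1 => hw1 (by
        rw [e1, show T.t 1 = 1 from map_one (T.hom 0)] at hσe
        calc w = q * (q⁻¹ * w * q) * q⁻¹ := by group
          _ = 1 := by rw [← hσe]; group)
      have hρ1 : ρ ≠ 1 := fun e1 => hg1 (by
        rw [e1, show T.t 1 = 1 from map_one (T.hom 0)] at hρe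
        calc g = q * (q⁻¹ * g * q) * q⁻¹ := by group
          _ = 1 := by rw [← hρe]; group)
      have hii : ∀ x ∈ W, ∀ π ∈ six 0, T.t π = q⁻¹ * x * q → π * π = 1 := fun x hx π hπ hπe =>
        T.t_ne_one 0 _ (mul_mem hπ hπ) (by
          rw [T.t_mul 0 _ _ hπ hπ, hπe, show q⁻¹ * x * q * (q⁻¹ * x * q) = q⁻¹ * (x * x) * q by group,
            hinv x hx]
          group)
      have hcm : σ * ρ = ρ * σ := by
        have e1 := hii _ (mul_mem hw hg) (σ * ρ) (mul_mem hσ hρ)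
          (by rw [T.t_mul 0 _ _ hσ hρ, hσe, hρe]; group)
        have e2 := eq_inv_of_mul_eq_one_left e1
        rw [mul_inv_rev, ← eq_inv_of_mul_eq_one_left (hii w hw σ hσ hσe),
          ← eq_inv_of_mul_eq_one_left (hii g hg ρ hρ hρe)] at e2
        exact e2
      have hback : ∀ x y : G, q⁻¹ * x * q = q⁻¹ * y * q → x = y := fun x y e1 =>
        mul_left_cancel (mul_right_cancel e1)
      obtain ⟨s1', t1'⟩ := hconj hσ
      rcases Cross.ok_orbit σ ρ hσ hρ (hok w hw σ hσ hσe) (hii w hw σ hσ hσe) hσ1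
        (hok g hg ρ hρ hρe) (hii g hg ρ hρ hρe) hρ1 hcm with e1 | e1 | e1
      · exact Or.inl (hback _ _ (by rw [← hρe, e1, hσe]))
      · exact Or.inr (Or.inl (hback _ _ (by rw [← hρe, e1, t1', hσe, hqc])))
      · exact Or.inr (Or.inr (hback _ _ (by
          rw [← hρe, e1, hsq2 σ hσ, (hconj s1').2, t1', hσe, hqc, hqc])))
    -- the crossing element centralises it
    have hb1 : b * b = 1 := by
      rw [hbdef, ← T.t_mul 2 _ _ hh2 hh2, hhh]; exact map_one (T.hom 2)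
    have hbe : b * e = e * b := hbdef ▸ hte hh hh2
    have hbW : ∀ g ∈ W, b * g * b⁻¹ ∈ W := by
      intro g hg
      obtain ⟨n, hn, rfl⟩ := hsurj g hg
      have hNn : b * n * b⁻¹ ∈ N :=
        (Subgroup.mem_normalizer_iff.1 (hnN b (hnC b hbZ)) n).1 (hmemW.1 hn).1
      obtain ⟨z, hz, n', hn', hzn⟩ := hNle' _ hNn
      have hbe' : b * e * b⁻¹ = e := by rw [hbe]; group
      have hze : z * e = e * z := hZ z hz e heC
      have hzn' : z * n' = n' * z := hZ z hz n' (hNC (hmemW.1 hn').1)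
      have : b * (n⁻¹ * (e * n * e⁻¹)) * b⁻¹ = n'⁻¹ * (e * n' * e⁻¹) := by
        calc b * (n⁻¹ * (e * n * e⁻¹)) * b⁻¹
            = (b * n * b⁻¹)⁻¹ * ((b * e * b⁻¹) * (b * n * b⁻¹) * (b * e * b⁻¹)⁻¹) := by group
          _ = (z * n')⁻¹ * (e * (z * n') * e⁻¹) := by rw [hbe', hzn]
          _ = n'⁻¹ * (z⁻¹ * (e * z)) * n' * e⁻¹ := by group
          _ = n'⁻¹ * (z⁻¹ * (z * e)) * n' * e⁻¹ := by rw [hze]
          _ = n'⁻¹ * (e * n' * e⁻¹) := by group
      rw [this]
      exact mul_mem (inv_mem hn') (heW n' hn')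
    have hbw : b * w = w * b := by
      have hcy : ∀ x : G, b * (e * x * e⁻¹) * b⁻¹ = e * (b * x * b⁻¹) * e⁻¹ := fun x => by
        have h2 : e⁻¹ * b⁻¹ = b⁻¹ * e⁻¹ := by rw [← mul_inv_rev, ← mul_inv_rev, hbe]
        calc b * (e * x * e⁻¹) * b⁻¹ = b * e * x * (e⁻¹ * b⁻¹) := by group
          _ = e * b * x * (b⁻¹ * e⁻¹) := by rw [hbe, h2]
          _ = e * (b * x * b⁻¹) * e⁻¹ := by group
      have hb2 : b * (b * w * b⁻¹) * b⁻¹ = w := by
        calc b * (b * w * b⁻¹) * b⁻¹ = b * b * w * (b * b)⁻¹ := by group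
          _ = w := by rw [hb1]; group
      have hne1 : ∀ {x : G}, x ∈ W → e * x * e⁻¹ = x → x = 1 := fun {x} hx e1 =>
        hWe x hx (mul_inv_eq_iff_eq_mul.1 e1).symm
      rcases horb _ (hbW w hw) (fun e1 => hw1 (conj_eq_one_iff.1 e1)) with e1 | e1 | e1
      · exact mul_inv_eq_iff_eq_mul.1 e1
      · exfalso
        rw [e1, hcy, e1] at hb2
        refine hw1 (hne1 hw ?_)
        calc e * w * e⁻¹ = e * (e * (e * w * e⁻¹) * e⁻¹) * e⁻¹ := by rw [hb2]
          _ = (e * e * e) * w * (e * e * e)⁻¹ := by group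
          _ = w := by rw [he0']; group
      · exfalso
        rw [e1, hcy, hcy, e1] at hb2
        refine hw1 (hne1 hw ?_)
        calc e * w * e⁻¹ = (e * e * e) * (e * w * e⁻¹) * (e * e * e)⁻¹ := by rw [he0']; group
          _ = e * (e * (e * (e * w * e⁻¹) * e⁻¹) * e⁻¹) * e⁻¹ := by group
          _ = w := hb2
    have hWb : ∀ g ∈ W, b * g = g * b := by
      intro g hg
      by_cases hg1 : g = 1
      · rw [hg1, mul_one, one_mul]
      have hcm : Commute b e := hbe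
      have hbw' : Commute b w := hbw
      rcases horb g hg hg1 with rfl | rfl | rfl
      · exact hbw
      · exact ((hcm.mul_right hbw').mul_right hcm.inv_right).eq
      · exact ((hcm.mul_right ((hcm.mul_right hbw').mul_right hcm.inv_right)).mul_right hcm.inv_right).eq
    -- too large a centraliser for the second four group
    have hbow := T.card_bow_le hb hx
    obtain ⟨B, hBdef⟩ : ∃ B, B = Subgroup.centralizer
        ({T.t (dbl 0 1 2 3), h.el (dbl 0 1 4 5)} : Set G) := ⟨_, rfl⟩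
    rw [← hBdef] at hbow
    have hmemB : ∀ {g : G}, g * T.t s0 = T.t s0 * g → g * b = b * g → g ∈ B := by
      intro g g0 g1
      rw [hBdef]
      refine Subgroup.mem_centralizer_iff.2 fun m hm => ?_
      rcases hm with rfl | hm
      · exact g0.symm
      · rw [Set.mem_singleton_iff.1 hm]
        show h.el hh * g = g * h.el hh
        rw [← hhh2, ← hbdef]
        exact g1.symm
    obtain ⟨f, hf⟩ : ∃ f : Fin 4 → Perm (Fin 9),
        f = fun k : Fin 4 => ([1, s0, hh, s0 * hh] : List (Perm (Fin 9)))[k.val]'(by simp) := ⟨_, rfl⟩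
    have hfi : Function.Injective f := hf ▸ Cross.bow_nodup
    have hf2 : ∀ k, f k ∈ six 2 ∧ f k * s0 = s0 * f k ∧ f k * hh = hh * f k ∧ f k * f k = 1 := fun k => by
      rw [hf]; exact Cross.bow_checks _ (List.getElem_mem _)
    let el4 : Fin 4 → W := ![1, ⟨w, hw⟩, ⟨_, heW w hw⟩, ⟨_, heW _ (heW w hw)⟩]
    have hne : ∀ x ∈ W, x ≠ 1 → e * x * e⁻¹ ≠ x := fun x hx hx1 e1 =>
      hx1 (hWe x hx (mul_inv_eq_iff_eq_mul.1 e1).symm)
    have hel4 : Function.Injective el4 := by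
      have n1 : e * w * e⁻¹ ≠ 1 := fun e1 => hw1 (conj_eq_one_iff.1 e1)
      have n2 : e * (e * w * e⁻¹) * e⁻¹ ≠ 1 := fun e1 => n1 (conj_eq_one_iff.1 e1)
      have n3 := hne w hw hw1
      have n4 := hne _ (heW w hw) n1
      have n5 : e * (e * w * e⁻¹) * e⁻¹ ≠ w := fun e1 => n3 (by
        calc e * w * e⁻¹ = e * (e * (e * w * e⁻¹) * e⁻¹) * e⁻¹ := by rw [e1]
          _ = (e * e * e) * w * (e * e * e)⁻¹ := by group
          _ = w := by rw [he0']; group)
      intro i j hij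
      have h' : (el4 i : G) = el4 j := congrArg Subtype.val hij
      fin_cases i <;> fin_cases j
      all_goals first
        | rfl
        | exact absurd h' hw1
        | exact absurd h'.symm hw1
        | exact absurd h' n1
        | exact absurd h'.symm n1
        | exact absurd h' n2
        | exact absurd h'.symm n2
        | exact absurd h' n3
        | exact absurd h'.symm n3
        | exact absurd h' n4
        | exact absurd h'.symm n4
        | exact absurd h' n5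
        | exact absurd h'.symm n5
    let φ : W × Fin 4 × Fin 3 → B := fun p =>
      ⟨(p.1 : G) * T.t (f p.2.1) * e ^ (p.2.2 : ℕ), by
        refine mul_mem (mul_mem ?_ ?_) (pow_mem ?_ _)
        · refine hmemB ?_ (hWb _ p.1.2).symm
          exact (hZ _ (T.mem_four.2 ⟨s0, show s0 ∈ [1, s0, s1, s0 * s1] by simp, rfl⟩) _
            (hNC (hmemW.1 p.1.2).1)).symm
        · exact hmemB (T.six_comm (hf2 _).1 hs02 (hf2 _).2.1) (hbdef ▸ T.six_comm (hf2 _).1 hh2 (hf2 _).2.2.1)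
        · exact hmemB (hte _ hs02).symm (hbe.symm)⟩
    have hφ : Function.Injective φ := by
      rintro ⟨x, k, i⟩ ⟨y, l, j⟩ hxy
      have h1 : (x : G) * T.t (f k) * e ^ (i : ℕ) = (y : G) * T.t (f l) * e ^ (j : ℕ) :=
        congrArg Subtype.val hxy
      have hfe : ∀ k, Commute (T.t (f k)) e := fun k => hte _ (hf2 k).1
      obtain ⟨u, hu⟩ : ∃ u, u = (y : G)⁻¹ * x := ⟨_, rfl⟩
      have hu1 : u = T.t (f l) * e ^ (j : ℕ) * (e ^ (i : ℕ))⁻¹ * (T.t (f k))⁻¹ := by
        rw [hu]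
        calc (y : G)⁻¹ * x = (y : G)⁻¹ * ((x : G) * T.t (f k) * e ^ (i : ℕ)) * (e ^ (i : ℕ))⁻¹ * (T.t (f k))⁻¹ := by group
          _ = _ := by rw [h1]; group
      have hue : u * e = e * u := by
        rw [hu1]
        exact ((((hfe l).mul_left ((Commute.refl e).pow_left _)).mul_left
          ((Commute.refl e).pow_left _).inv_left).mul_left (hfe k).inv_left).eq
      have hxy' : u = 1 := hWe u (hu ▸ mul_mem (inv_mem y.2) x.2) hue
      have hxy2 : x = y := Subtype.ext (inv_mul_eq_one.1 (hu ▸ hxy')).symm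
      subst hxy2
      replace h1 : T.t (f k) * e ^ (i : ℕ) = T.t (f l) * e ^ (j : ℕ) := by
        rw [mul_assoc, mul_assoc] at h1; exact mul_left_cancel h1
      have hcub : ∀ (k : Fin 4) (i : ℕ), (T.t (f k) * e ^ i) ^ 3 = T.t (f k) := fun k i => by
        rw [((hfe k).pow_right i).mul_pow, ← pow_mul, mul_comm i, pow_mul, he0, one_pow, mul_one,
          ← T.six_pow (hf2 k).1, pow_succ, pow_two, (hf2 k).2.2.2, one_mul]
      have h3 := congrArg (· ^ 3) h1
      simp only [hcub] at h3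
      have hkl : k = l := hfi (T.six_inj (hf2 k).1 (hf2 l).1 h3)
      subst hkl
      have hij : (i : ℕ) % 3 = (j : ℕ) % 3 := by
        have := pow_eq_pow_iff_modEq.1 (mul_left_cancel h1)
        rwa [he3] at this
      rw [Nat.mod_eq_of_lt i.2, Nat.mod_eq_of_lt j.2] at hij
      rw [Fin.ext hij]
    have hc4 := Nat.card_le_card_of_injective el4 hel4
    have hc48 := Nat.card_le_card_of_injective φ hφ
    rw [Nat.card_prod, Nat.card_prod, Nat.card_fin, Nat.card_fin] at hc48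
    rw [Nat.card_fin] at hc4
    have : 4 * (4 * 3) ≤ Nat.card W * (4 * 3) := Nat.mul_le_mul_right _ hc4
    omega
  push Not at hW1
  have hNZ : N = T.four :=
    le_antisymm (hNle.trans (sup_le le_rfl fun g hg => by rw [hW1 g hg]; exact one_mem _)) hZN
  rw [hNZ, hZ4] at hcases
  rcases hcases with hc | hc | ⟨hc, hA5⟩
  · exact Or.inl (by omega)
  · exact Or.inl (by omega)
  obtain ⟨hsimple, hfix5, hfour⟩ := hA5 rfl
  right
  have hsplit : ∀ x, x ∈ Subgroup.normalizer (T.four : Set G) → x ^ 3 = 1 → x * e = e * x →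
      (∀ j : ℕ, j = 1 ∨ j = 2 → Bow.Good (x * e ^ j)) →
      ∀ g ∈ C, ∃ z ∈ T.four, g * z * x = x * (g * z) := by
    intro x hxZ hx3 hxe hgood g hg
    obtain ⟨i, hi⟩ := hfix5 x (hnC x hxZ) hx3 hxe hxZ
    have hi0 : i % 3 = 0 := by
      by_contra hne
      haveI : Fact (Nat.Prime 5) := ⟨by norm_num⟩
      obtain ⟨f, hf⟩ := exists_prime_orderOf_dvd_card' (G := C) 5 (by rw [hc]; norm_num)
      obtain ⟨z, hz, hfz⟩ := hi f f.2
      rw [pow_eq_pow_mod i he0] at hfz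
      have h18 := (hgood (i % 3) (by omega)).1 _ hfz.symm
      have hgz : Commute (f : G) z := (hZ z hz f f.2).symm
      have hz4 : z ^ 4 = 1 := by
        have := pow_card_eq_one' (x := (⟨z, hz⟩ : T.four))
        rw [hZ4] at this
        exact congrArg Subtype.val this
      rw [hgz.mul_pow] at h18
      have h72 : (f : G) ^ 72 = 1 := by
        have h1 := congrArg (· ^ 4) h18
        simp only [one_pow] at h1
        rw [(hgz.pow_pow 18 18).mul_pow, ← pow_mul, ← pow_mul] at h1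
        rwa [show 18 * 4 = 4 * 18 from rfl, pow_mul z, hz4, one_pow, mul_one] at h1
      have := orderOf_dvd_of_pow_eq_one h72
      rw [Subgroup.orderOf_coe, hf] at this
      omega
    obtain ⟨z, hz, he⟩ := hi g hg
    rw [pow_eq_pow_mod i he0, hi0, pow_zero, mul_one] at he
    exact ⟨z, hz, he.symm⟩
  have hsc := hsplit c hcZ hc3 hce hgood_c
  have hsa := hsplit a haZ ha3 hae hgood_a
  obtain ⟨W0, hW0def⟩ : ∃ W0, W0 = C ⊓ Subgroup.centralizer ({c} : Set G) := ⟨_, rfl⟩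
  have hmem0 : ∀ {g : G}, g ∈ W0 ↔ g ∈ C ∧ g * c = c * g := fun {g} => by
    rw [hW0def, Subgroup.mem_inf, Subgroup.mem_centralizer_singleton_iff]
  have heW0 : e ∈ W0 := hmem0.2 ⟨heC, hce.symm⟩
  have he4 : e ∉ T.four := fun hm => by
    have h4 := Subgroup.orderOf_dvd_natCard T.four hm
    rw [he3, hZ4] at h4
    omega
  have htop : ∀ M : Subgroup G, M ≤ W0 → e ∈ M → (∀ g ∈ W0, ∀ m ∈ M, g * m * g⁻¹ ∈ M) → W0 ≤ M := by
    intro M hM heM hnorm
    let K : Subgroup G :=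
      { carrier := {g | g ∈ C ∧ ∃ z ∈ T.four, g * z ∈ M}
        one_mem' := ⟨one_mem _, 1, one_mem _, by rw [one_mul]; exact one_mem _⟩
        mul_mem' := by
          rintro x y ⟨hx, z, hz, hxz⟩ ⟨hy, z', hz', hyz⟩
          refine ⟨mul_mem hx hy, z * z', mul_mem hz hz', ?_⟩
          rw [show x * y * (z * z') = x * (y * z) * z' by group, ← hZ z hz y hy,
            show x * (z * y) * z' = x * z * (y * z') by group]
          exact mul_mem hxz hyz
        inv_mem' := by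
          rintro x ⟨hx, z, hz, hxz⟩
          refine ⟨inv_mem hx, z⁻¹, inv_mem hz, ?_⟩
          have := inv_mem hxz
          rwa [mul_inv_rev, hZ _ (inv_mem hz) _ (inv_mem hx)] at this }
    have hKn : ∀ g ∈ C, g ∈ Subgroup.normalizer (K : Set G) := by
      intro g hg
      refine mem_normalizer_of_maps fun k hk => ?_
      obtain ⟨hkC, z, hz, hkz⟩ := hk
      obtain ⟨y, hy, hgy⟩ := hsc g hg
      refine ⟨mul_mem (mul_mem hg hkC) (inv_mem hg), z, hz, ?_⟩
      have h0 : g * y ∈ W0 := hmem0.2 ⟨mul_mem hg (hZC hy), hgy⟩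
      have hyk : y * (k * z) = k * z * y := hZ y hy _ (mul_mem hkC (hZC hz))
      have hzg : z * g⁻¹ = g⁻¹ * z := hZ z hz _ (inv_mem hg)
      have := hnorm _ h0 _ hkz
      rw [show g * y * (k * z) * (g * y)⁻¹ = g * (y * (k * z)) * y⁻¹ * g⁻¹ by group, hyk,
        show g * (k * z * y) * y⁻¹ * g⁻¹ = g * k * (z * g⁻¹) by group, hzg] at this
      rwa [show g * k * g⁻¹ * z = g * k * (g⁻¹ * z) by group]
    rcases hsimple K (fun z hz => ⟨hZC hz, z⁻¹, inv_mem hz, by rw [mul_inv_cancel]; exact one_mem _⟩)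
      (fun g hg => hg.1) hKn with hK | hK
    · exact absurd (hK ▸ (show e ∈ K from ⟨heC, 1, one_mem _, by rw [mul_one]; exact heM⟩)) he4
    · intro g hg
      obtain ⟨-, z, hz, hgz⟩ : g ∈ K := hK.symm ▸ (hmem0.1 hg).1
      have hz0 : z ∈ W0 := by simpa using mul_mem (inv_mem hg) (hM hgz)
      rw [hcfix z hz (hmem0.1 hz0).2, mul_one] at hgz
      exact hgz
  have hW0a : ∀ g ∈ W0, g * a = a * g := by
    have := htop (W0 ⊓ Subgroup.centralizer ({a} : Set G)) inf_le_left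
      ⟨heW0, Subgroup.mem_centralizer_singleton_iff.2 hae.symm⟩ (by
        rintro g hg m ⟨hm, hma⟩
        have hm' : m ∈ W0 := hm
        refine ⟨(show g * m * g⁻¹ ∈ W0 from mul_mem (mul_mem hg hm') (inv_mem hg)), Subgroup.mem_centralizer_singleton_iff.2 ?_⟩
        obtain ⟨z, hz, hgz⟩ := hsa g (hmem0.1 hg).1
        have hzm : z * m = m * z := hZ z hz m (hmem0.1 hm).1
        have hma' : Commute m a := Subgroup.mem_centralizer_singleton_iff.1 hma
        rw [show g * m * g⁻¹ = g * z * m * (g * z)⁻¹ by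
          rw [show g * z * m = g * (z * m) by group, hzm]; group]
        exact (((show Commute (g * z) a from hgz).mul_left hma').mul_left
          (show Commute (g * z) a from hgz).inv_left).eq)
    exact fun g hg => Subgroup.mem_centralizer_singleton_iff.1 (this hg).2
  obtain ⟨I, hIdef⟩ : ∃ I, I = (T.hom 0).range := ⟨_, rfl⟩
  have hW0I : W0 ≤ I := by
    refine le_trans (htop (W0 ⊓ I) inf_le_left ⟨heW0, hIdef ▸ ⟨⟨ax 2, hax0⟩, he6⟩⟩ ?_) inf_le_right
    rintro g hg m ⟨hm, hmI⟩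
    have hm' : m ∈ W0 := hm
    refine ⟨(show g * m * g⁻¹ ∈ W0 from mul_mem (mul_mem hg hm') (inv_mem hg)), ?_⟩
    obtain ⟨σ, hσ, i, rfl⟩ := (T.cent 0 g).1 (hadef ▸ hW0a g hg)
    rw [hIdef] at hmI ⊢
    obtain ⟨ρ, rfl⟩ := hmI
    obtain ⟨π, hπ⟩ : ∃ π : six 0, π = (⟨σ, hσ⟩ : six 0) * ρ * (⟨σ, hσ⟩ : six 0)⁻¹ := ⟨_, rfl⟩
    refine ⟨π, ?_⟩
    have hA : Commute (h.el (ax 0) ^ i) (T.hom 0 π) := (Commute.symm (T.comm_ax π.2)).pow_left i
    rw [hπ] at hA ⊢
    have hr : T.hom 0 (⟨σ, hσ⟩ * ρ * ⟨σ, hσ⟩⁻¹) = T.t σ * T.hom 0 ρ * (T.t σ)⁻¹ := by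
      rw [map_mul, map_mul, map_inv]; rfl
    rw [hr] at hA ⊢
    calc T.t σ * T.hom 0 ρ * (T.t σ)⁻¹
        = h.el (ax 0) ^ i * (T.t σ * T.hom 0 ρ * (T.t σ)⁻¹) * (h.el (ax 0) ^ i)⁻¹ := by
          rw [hA.eq]; group
      _ = h.el (ax 0) ^ i * T.t σ * T.hom 0 ρ * (h.el (ax 0) ^ i * T.t σ)⁻¹ := by group
  obtain ⟨S, hSdef⟩ : ∃ S, S = (W0.comap (T.hom 0)).map (six 0).subtype := ⟨_, rfl⟩
  have hmemS : ∀ {σ}, σ ∈ S ↔ σ ∈ six 0 ∧ T.t σ ∈ W0 := fun {σ} => by
    rw [hSdef]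
    exact ⟨fun ⟨x, hx, hxe⟩ => hxe ▸ ⟨x.2, hx⟩, fun hσ => ⟨⟨σ, hσ.1⟩, hσ.2, rfl⟩⟩
  have hScard : Nat.card S = 60 := by
    have h60 : Nat.card W0 = 60 := by
      have hbij : Function.Bijective (fun p : T.four × W0 =>
          (⟨(p.1 : G) * p.2, mul_mem (hZC p.1.2) (hmem0.1 p.2.2).1⟩ : C)) := by
        constructor
        · rintro ⟨z, u⟩ ⟨z', u'⟩ huv
          have h1 : (z : G) * u = z' * u' := congrArg Subtype.val huv
          have h2 : (z' : G)⁻¹ * z = u' * (u : G)⁻¹ := by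
            rw [eq_mul_inv_iff_mul_eq, mul_assoc, h1, inv_mul_cancel_left]
          have h3 : (z' : G)⁻¹ * z ∈ W0 := h2 ▸ mul_mem u'.2 (inv_mem u.2)
          have h4 := hcfix _ (mul_mem (inv_mem z'.2) z.2) (hmem0.1 h3).2
          have hz : z = z' := Subtype.ext (inv_mul_eq_one.1 h4).symm
          subst hz
          exact Prod.ext rfl (Subtype.ext (mul_left_cancel h1))
        · intro g
          obtain ⟨z, hz, hgz⟩ := hsc g g.2
          refine ⟨(⟨z⁻¹, inv_mem hz⟩, ⟨g * z, hmem0.2 ⟨mul_mem g.2 (hZC hz), hgz⟩⟩), Subtype.ext ?_⟩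
          show z⁻¹ * ((g : G) * z) = g
          rw [← hZ z hz g g.2, inv_mul_cancel_left]
      have := Nat.card_eq_of_bijective _ hbij
      rw [Nat.card_prod, hZ4, hc] at this
      omega
    rw [← h60]
    refine Nat.card_eq_of_bijective (fun σ => ⟨T.t σ, (hmemS.1 σ.2).2⟩) ⟨fun x y exy => ?_, fun g => ?_⟩
    · exact Subtype.ext (T.six_inj (hmemS.1 x.2).1 (hmemS.1 y.2).1 (congrArg Subtype.val exy))
    · have hgI := hW0I g.2
      rw [hIdef] at hgI
      obtain ⟨σ, hσ⟩ := hgI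
      refine ⟨⟨σ, hmemS.2 ⟨σ.2, ?_⟩⟩, Subtype.ext hσ⟩
      have : T.t (σ : Perm (Fin 9)) = g := hσ
      rw [this]; exact g.2
  obtain ⟨-, htauN, htau0, -⟩ := Cross.basics
  have he5 : ax 2 ∈ S := hmemS.2 ⟨hax0, he6.symm ▸ heW0⟩
  have htau : Cross.tau ∈ S := by
    refine hmemS.2 ⟨htau0, ?_⟩
    rw [T.t_el 0 _ htau0 htauN]
    refine hmem0.2 ⟨?_, hcdef ▸ T.crossCommute hcy2 htauN htaucy⟩
    rw [hCdef]
    refine Subgroup.mem_centralizer_iff.2 fun z hz => ?_
    obtain ⟨σ, hσ, rfl⟩ := T.mem_four.1 hz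
    exact (T.crossCommute (Cross.klein_le hσ) htauN (Cross.norm_checks σ hσ).2.2.2.2.2.2.symm).symm
  have hle : S ≤ altOn ({4, 5, 6, 7, 8} : Finset (Fin 9)) := by
    intro σ hσ
    have hσ0 := (hmemS.1 hσ).1
    refine ⟨hσ0.1, fun i hi => ?_⟩
    have h3 : σ 3 = 3 := by
      by_contra hne
      obtain ⟨v, hv, hbad⟩ := Cross.six0_words σ hσ0 hne
      have hvS : v ∈ S := by
        simp only [List.mem_cons, List.not_mem_nil, or_false] at hv
        rcases hv with rfl | rfl | rfl | rfl | rfl | rfl | rfl | rfl <;>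
          (repeat' first | exact hσ | exact he5 | exact htau | apply mul_mem)
      obtain ⟨hv6, hvW⟩ := hmemS.1 hvS
      rcases hbad with ⟨h4, h2⟩ | ⟨hcm, hnot⟩
      · refine h2 (T.t_ne_one 0 _ (pow_mem hv6 2) ?_)
        rw [T.six_pow hv6]
        refine hcfix _ (hfour _ (hmem0.1 hvW).1 ?_) (hmem0.1 (pow_mem hvW 2)).2
        rw [← T.six_pow hv6, h4]; exact map_one (T.hom 0)
      · refine hnot ?_
        obtain ⟨z, hz, i, hzi⟩ := hCe _ (hmem0.1 hvW).1 (he6 ▸ T.six_comm hv6 hax0 hcm)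
        have hzW : z ∈ W0 := by
          have := mul_mem hvW (inv_mem (pow_mem heW0 i))
          rwa [hzi, mul_inv_cancel_right] at this
        rw [hcfix z hz (hmem0.1 hzW).2, one_mul, pow_eq_pow_mod i he0, ← he6, ← T.six_pow hax0] at hzi
        rw [T.six_inj hv6 (pow_mem hax0 _) hzi]
        have := Nat.mod_lt i (show 3 > 0 by norm_num)
        interval_cases (i % 3) <;> simp
    have : ∀ i : Fin 9, i ∉ ({4, 5, 6, 7, 8} : Finset (Fin 9)) → i = 3 ∨ i ∉ offBlock 0 := by decide +kernel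
    rcases this i hi with rfl | hi'
    · exact h3
    · exact hσ0.2 i hi'
  have hSeq : S = altOn ({4, 5, 6, 7, 8} : Finset (Fin 9)) :=
    Subgroup.eq_of_le_of_card_ge hle (hScard ▸ Cross.altOn_five_card)
  intro τ hτ
  rw [← hSeq] at hτ
  show T.t cy * T.t τ = T.t τ * T.t cy
  rw [← hcdef]
  exact ((hmem0.1 (hmemS.1 hτ).2).2).symm

end SixAct

end CfsgLib.AltNineLocal
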