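/-
The alternating groups on the first four and on the last five points commute.
-/
import Cfsg.Agent.Lib.AltNineLocal.CrossFive
import Cfsg.Agent.Lib.AltNineLocal.Hom

set_option autoImplicit false
set_option linter.unusedSectionVars false
set_option maxRecDepth 100000

namespace CfsgLib.AltNineLocal

open Equiv

attribute [local instance 10000] List.decidableBAll List.decidableBEx

theorem Cross.word_013 : cyc 0 1 3 ∈ [ax 0 * Cross.cy, Cross.cy * ax 0, ax 0 * (Cross.cy * Cross.cy),
    Cross.cy * Cross.cy * ax 0, ax 0 * ax 0 * Cross.cy, Cross.cy * (ax 0 * ax 0),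
    ax 0 * ax 0 * (Cross.cy * Cross.cy), Cross.cy * Cross.cy * (ax 0 * ax 0),
    ax 0 * Cross.cy * (ax 0 * ax 0), ax 0 * ax 0 * Cross.cy * ax 0] := by decide +kernel

namespace SixAct

variable {G : Type*} [Group G] {h : Hyp G} (T : SixAct h)

/-- **The crossing lemma.** -/
theorem cross [Finite G]
    (hb : Subgroup.centralizer ({h.el pb} : Set G) ≤ Subgroup.normalizer (h.J : Set G))
    (hx : Subgroup.centralizer ({h.el px} : Set G) ≤ Subgroup.normalizer (h.J : Set G)) :
    ∀ σ τ, σ ∈ altOn ({0, 1, 2, 3} : Finset (Fin 9)) → τ ∈ altOn ({4, 5, 6, 7, 8} : Finset (Fin 9)) →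
      Commute (T.t σ) (T.t τ) := by
  rcases T.small_or_commute hb hx with hV | hcy
  · exact (T.false_of_small hb hV (T.card_bow_le hb hx)).elim
  intro σ τ hσ hτ
  have hτ0 : τ ∈ six 0 := altOn_mono (by decide +kernel) hτ
  let K : Subgroup (Perm (Fin 9)) :=
    { carrier := {ρ | ρ ∈ six 2 ∧ Commute (T.t ρ) (T.t τ)}
      one_mem' := ⟨one_mem _, by rw [show T.t 1 = 1 from map_one (T.hom 2)]; exact Commute.one_left _⟩
      mul_mem' := fun {a b} ha hb => ⟨mul_mem ha.1 hb.1, by
        rw [T.t_mul 2 a b ha.1 hb.1]; exact ha.2.mul_left hb.2⟩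
      inv_mem' := fun {a} ha => ⟨inv_mem ha.1, by rw [T.six_inv ha.1]; exact ha.2.inv_left⟩ }
  have hcyK : Cross.cy ∈ K := ⟨Cross.six_checks.2.1, hcy τ hτ⟩
  have hax : ax 0 ∈ K := by
    refine ⟨Cross.six_checks.1, ?_⟩
    rw [T.t_el 2 _ Cross.six_checks.1 (ax_mem_nineH 0)]
    exact (T.comm_ax hτ0).symm
  have h013 : cyc 0 1 3 ∈ K := by
    have hw := Cross.word_013
    simp only [List.mem_cons, List.not_mem_nil, or_false] at hw
    rcases hw with e | e | e | e | e | e | e | e | e | e <;> rw [e] <;>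
      (repeat' first | with_reducible exact hax | with_reducible exact hcyK | with_reducible apply mul_mem)
  have hle := altOn_le (K := K) [2, 3] (by decide) (by
    intro i hi
    simp only [List.mem_cons, List.not_mem_nil, or_false] at hi
    rcases hi with rfl | rfl
    · exact hax
    · exact h013)
  exact (hle (by
    rw [show ({0, 1} ∪ [2, 3].toFinset : Finset (Fin 9)) = {0, 1, 2, 3} by decide +kernel]
    exact hσ)).2

end SixAct

end CfsgLib.AltNineLocal
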