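/-
A subgroup isomorphic to the alternating group of degree nine containing the centralisers of its
elements of order three contains the centralisers of its involutions of smallest support.
-/
import Cfsg.Agent.Lib.AltNineLocal.GlobalTFacts
import Cfsg.Agent.Lib.CoreFree.OddCommCriterion
import Cfsg.Agent.Lib.Involutions.BrauerSuzuki
import Cfsg.Agent.Lib.CoprimeAction.Abelian
import Cfsg.Agent.Lib.ClassicalLinear.Card
import Cfsg.Agent.S3331

set_option autoImplicit false

namespace CfsgLib.AltNineLocal.GlobalT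

open Equiv

variable {G : Type*} [Group G]

section

variable {f : A9 →* G} (hf : Function.Injective f)
  (hC : ∀ s : A9, orderOf s = 3 → Subgroup.centralizer ({f s} : Set G) ≤ f.range)
include hC

theorem mem_range_of_commute {s : A9} (h3 : s * s * s = 1) (h1 : s ≠ 1) {g : G}
    (hg : g * f s = f s * g) : g ∈ f.range :=
  hC s (haveI : Fact (Nat.Prime 3) := ⟨by norm_num⟩
    orderOf_eq_prime (by rw [pow_succ, pow_two]; exact h3) h1)
    (Subgroup.mem_centralizer_singleton_iff.2 hg)

include hf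

theorem comm_of_map {σ τ : A9} (h : f σ * f τ = f τ * f σ) : σ * τ = τ * σ :=
  hf (by rwa [map_mul, map_mul])

/-- The four-group `{1, t, v, t v}`. -/
theorem exists_four : ∃ W : Subgroup G, (∀ w ∈ W, w * w = 1) ∧
    (∀ w, w ∈ W ↔ ∃ σ : A9, (σ = 1 ∨ σ = T0 ∨ σ = V0 ∨ σ = T0 * V0) ∧ f σ = w) := by
  have hmul : ∀ σ τ : A9, (σ = 1 ∨ σ = T0 ∨ σ = V0 ∨ σ = T0 * V0) →
      (τ = 1 ∨ τ = T0 ∨ τ = V0 ∨ τ = T0 * V0) →
      (σ * τ = 1 ∨ σ * τ = T0 ∨ σ * τ = V0 ∨ σ * τ = T0 * V0) := by
    intro σ τ hσ hτ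
    rcases hσ with rfl | rfl | rfl | rfl <;> rcases hτ with rfl | rfl | rfl | rfl <;>
      decide +kernel
  have hsq : ∀ σ : A9, (σ = 1 ∨ σ = T0 ∨ σ = V0 ∨ σ = T0 * V0) → σ * σ = 1 := by
    intro σ hσ
    rcases hσ with rfl | rfl | rfl | rfl <;> decide +kernel
  refine ⟨{ carrier := {w | ∃ σ : A9, (σ = 1 ∨ σ = T0 ∨ σ = V0 ∨ σ = T0 * V0) ∧ f σ = w}
            one_mem' := ⟨1, Or.inl rfl, map_one f⟩
            mul_mem' := ?_
            inv_mem' := ?_ }, ?_, fun w => Iff.rfl⟩
  · rintro a b ⟨σ, hσ, rfl⟩ ⟨τ, hτ, rfl⟩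
    exact ⟨σ * τ, hmul σ τ hσ hτ, map_mul f σ τ⟩
  · rintro a ⟨σ, hσ, rfl⟩
    exact ⟨σ, hσ, by rw [← map_inv, inv_eq_of_mul_eq_one_right (hsq σ hσ)]⟩
  · rintro w ⟨σ, hσ, rfl⟩
    rw [← map_mul, hsq σ hσ, map_one]

/-- The centraliser of the four-group lies in the range. -/
theorem centralizer_four [Finite G] {g : G} (hgt : g * f T0 = f T0 * g)
    (hgv : g * f V0 = f V0 * g) : g ∈ f.range := by
  classical
  set K := Subgroup.centralizer ({f T0, f V0} : Set G) with hKdef
  have hKmem : ∀ {k : G}, k ∈ K ↔ k * f T0 = f T0 * k ∧ k * f V0 = f V0 * k := by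
    intro k
    rw [hKdef, Subgroup.mem_centralizer_iff]
    exact ⟨fun h => ⟨(h _ (by simp)).symm, (h _ (by simp)).symm⟩, fun h => by
      rintro y (rfl | rfl)
      exacts [h.1.symm, h.2.symm]⟩
  have hKf : ∀ σ : A9, σ * T0 = T0 * σ → σ * V0 = V0 * σ → f σ ∈ K := fun σ a b =>
    hKmem.2 ⟨by rw [← map_mul, a, map_mul], by rw [← map_mul, b, map_mul]⟩
  obtain ⟨W, hW2, hW⟩ := exists_four hf hC
  have hWcomm : ∀ w ∈ W, ∀ k : K, (k : G) * w = w * k := by
    intro w hw k
    obtain ⟨σ, hσ, rfl⟩ := (hW w).1 hw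
    obtain ⟨a, b⟩ := hKmem.1 k.2
    rcases hσ with rfl | rfl | rfl | rfl
    · rw [map_one, mul_one, one_mul]
    · exact a
    · exact b
    · rw [map_mul]
      exact ((show Commute (k : G) (f T0) from a).mul_right (show Commute (k : G) (f V0) from b)).eq
  have hWK : W ≤ K := by
    intro w hw
    obtain ⟨σ, hσ, rfl⟩ := (hW w).1 hw
    refine hKf σ ?_ ?_ <;> rcases hσ with rfl | rfl | rfl | rfl <;> decide +kernel
  haveI hWn : (W.subgroupOf K).Normal := ⟨fun w hw k => by
    rw [Subgroup.mem_subgroupOf] at hw ⊢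
    rw [Subgroup.coe_mul, Subgroup.coe_mul, Subgroup.coe_inv, hWcomm _ hw k, mul_inv_cancel_right]
    exact hw⟩
  let eK : K := ⟨f E0, hKf E0 basic.2.1.2.2.1 basic.2.1.2.2.2⟩
  let e : K ⧸ W.subgroupOf K := QuotientGroup.mk eK
  have hcube : e * e * e = 1 := by
    show (QuotientGroup.mk (eK * eK * eK) : K ⧸ W.subgroupOf K) = 1
    rw [show eK * eK * eK = 1 from Subtype.ext (by
      show f E0 * f E0 * f E0 = 1
      rw [← map_mul, ← map_mul, basic.2.1.1, map_one])]
    rfl
  have he1 : e ≠ 1 := fun h => by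
    have h' := (QuotientGroup.eq_one_iff (N := W.subgroupOf K) eK).1 h
    obtain ⟨σ, hσ, e'⟩ := (hW _).1 (Subgroup.mem_subgroupOf.1 h')
    obtain rfl : σ = E0 := hf e'
    revert hσ; decide +kernel
  haveI : Fact (Nat.Prime 3) := ⟨by norm_num⟩
  have hord : orderOf e = 3 := orderOf_eq_prime (by rw [pow_succ, pow_two]; exact hcube) he1
  have hself : Subgroup.centralizer (Subgroup.zpowers e : Set (K ⧸ W.subgroupOf K)) =
      Subgroup.zpowers e := by
    refine le_antisymm (fun q hq => ?_) ?_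
    · obtain ⟨k, rfl⟩ := QuotientGroup.mk_surjective q
      have h := Subgroup.mem_centralizer_iff.1 hq e (Subgroup.mem_zpowers e)
      have hmem : ((k : G) * f E0)⁻¹ * (f E0 * k) ∈ W := by
        have := (QuotientGroup.eq (s := W.subgroupOf K) (a := k * eK) (b := eK * k)).1 h.symm
        exact Subgroup.mem_subgroupOf.1 this
      -- a central involution cannot be absorbed
      set w := ((k : G) * f E0)⁻¹ * (f E0 * k) with hw
      have hkw : (k : G)⁻¹ * f E0 * k = f E0 * w := by rw [hw]; group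
      have hwc : f E0 * w = w * f E0 := hWcomm w hmem ⟨f E0, eK.2⟩
      have hw1 : w = 1 := by
        have h3 : f E0 * f E0 * f E0 = 1 := by rw [← map_mul, ← map_mul, basic.2.1.1, map_one]
        have hc : (f E0 * w) * (f E0 * w) * (f E0 * w) = 1 := by
          rw [← hkw, show (k : G)⁻¹ * f E0 * k * ((k : G)⁻¹ * f E0 * k) *
            ((k : G)⁻¹ * f E0 * k) = (k : G)⁻¹ * (f E0 * f E0 * f E0) * k by group, h3]
          group
        calc w = (f E0 * f E0 * f E0) * ((w * w) * w) := by rw [h3, hW2 w hmem, one_mul, one_mul]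
          _ = f E0 * f E0 * (f E0 * w) * w * w := by group
          _ = f E0 * f E0 * (w * f E0) * w * w := by rw [hwc]
          _ = f E0 * (f E0 * w) * (f E0 * w) * w := by group
          _ = f E0 * (w * f E0) * (f E0 * w) * w := by rw [hwc]
          _ = (f E0 * w) * (f E0 * (f E0 * w)) * w := by group
          _ = (f E0 * w) * (f E0 * (w * f E0)) * w := by rw [hwc]
          _ = (f E0 * w) * (f E0 * w) * (f E0 * w) := by group
          _ = 1 := hc
      have hk : (k : G) * f E0 = f E0 * k :=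
        inv_mul_eq_one.1 (show ((k : G) * f E0)⁻¹ * (f E0 * k) = 1 from hw1)
      obtain ⟨σ, hσ⟩ := mem_range_of_commute hC basic.2.1.1 basic.2.1.2.1 hk
      obtain ⟨a, b⟩ := hKmem.1 k.2
      rw [← hσ] at a b hk
      obtain ⟨w', hw', hσ'⟩ := cent_V_E (comm_of_map hf hC a) (comm_of_map hf hC b)
        (comm_of_map hf hC hk)
      have hwW : f w' ∈ W := (hW _).2 ⟨w', hw', rfl⟩
      have hkey : ∀ j : ℕ, (k : G) = f w' * (f E0) ^ j →
          (QuotientGroup.mk k : K ⧸ W.subgroupOf K) ∈ Subgroup.zpowers e := by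
        intro j hj
        have : k = (⟨f w', hWK hwW⟩ : K) * eK ^ j := Subtype.ext (by
          rw [Subgroup.coe_mul, Subgroup.coe_pow]; exact hj)
        rw [this, QuotientGroup.mk_mul, (QuotientGroup.eq_one_iff _).2
          (Subgroup.mem_subgroupOf.2 hwW), one_mul, QuotientGroup.mk_pow]
        exact pow_mem (Subgroup.mem_zpowers e) j
      rcases hσ' with rfl | rfl | rfl
      · exact hkey 0 (by rw [pow_zero, mul_one]; exact hσ.symm)
      · exact hkey 1 (by rw [pow_one, ← map_mul]; exact hσ.symm)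
      · exact hkey 2 (by rw [pow_two, ← map_mul, ← map_mul]; exact hσ.symm)
    · intro q hq
      rw [Subgroup.mem_centralizer_iff]
      intro y hy
      obtain ⟨i, rfl⟩ := Subgroup.mem_zpowers_iff.1 hq
      obtain ⟨j, rfl⟩ := Subgroup.mem_zpowers_iff.1 hy
      rw [← zpow_add, ← zpow_add, add_comm]
  -- the alternating group of degree five inside
  have hψK : ∀ a, f (psi a) ∈ K := fun a =>
    hKf _ (psi_commute a T0 T0_high) (psi_commute a V0 V0_high)
  let ι : alternatingGroup (Fin 5) →* K ⧸ W.subgroupOf K :=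
    (QuotientGroup.mk' (W.subgroupOf K)).comp
      ((f.comp psi).codRestrict K hψK)
  have hι : Function.Injective ι := by
    rw [← MonoidHom.ker_eq_bot_iff, Subgroup.eq_bot_iff_forall]
    intro a ha
    have h' := (QuotientGroup.eq_one_iff (N := W.subgroupOf K) _).1 ha
    obtain ⟨σ, hσ, e'⟩ := (hW _).1 (Subgroup.mem_subgroupOf.1 h')
    obtain rfl : σ = psi a := hf e'
    have h0 := psi_apply_low a (i := 0) (by decide)
    rcases hσ with e | e | e | e
    · exact psi_injective (e.trans (map_one psi).symm)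
    all_goals
      rw [e] at h0
      exact absurd h0 (by decide +kernel)
  haveI h5s : IsSimpleGroup (alternatingGroup (Fin 5)) :=
    alternatingGroup.isSimpleGroup (by simp)
  have h5c : Nat.card (alternatingGroup (Fin 5)) = 60 := by
    rw [nat_card_alternatingGroup, Nat.card_eq_fintype_card, Fintype.card_fin]; rfl
  have h5nc : ¬ ∀ a b : alternatingGroup (Fin 5), a * b = b * a := by
    intro h
    have h' := h ⟨swap 0 1 * swap 1 2, Perm.mem_alternatingGroup.2 (by decide +kernel)⟩
      ⟨swap 1 2 * swap 2 3, Perm.mem_alternatingGroup.2 (by decide +kernel)⟩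
    revert h'; decide +kernel
  have hdisj : ∀ (N : Subgroup (K ⧸ W.subgroupOf K)), N.Normal → Group.IsSolvable N →
      ∀ a, ι a ∈ N → a = 1 := by
    intro N hN hsol a ha
    haveI := hN
    rcases (Subgroup.Normal.comap hN ι).eq_bot_or_eq_top with h | h
    · exact Subgroup.mem_bot.1 (h ▸ ha)
    · exfalso
      haveI := hsol
      have hall : ∀ a, ι a ∈ N := fun a => by
        have : a ∈ N.comap ι := h ▸ Subgroup.mem_top a
        exact this
      haveI : Group.IsSolvable (alternatingGroup (Fin 5)) :=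
        Group.isSolvable_of_isSolvable_injective (f := ι.codRestrict N hall)
          fun x y e => hι (congrArg Subtype.val e)
      exact h5nc (IsSimpleGroup.comm_iff_isSolvable.2 inferInstance)
  rcases Cfsg.Agent.S3331.result (Subgroup.zpowers e) (by rw [Nat.card_zpowers, hord]) hself with
    ⟨N, hN, hnil, -, hq⟩ | ⟨N, hN, hab, hexp, ⟨eQ⟩⟩ | ⟨eP⟩
  · exfalso
    haveI := hN
    haveI := hnil
    have hinj : Function.Injective ((QuotientGroup.mk' N).comp ι) := by
      rw [← MonoidHom.ker_eq_bot_iff, Subgroup.eq_bot_iff_forall]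
      exact fun a ha => hdisj N hN inferInstance a ((QuotientGroup.eq_one_iff _).1 ha)
    have hle := Nat.card_le_card_of_injective _ hinj
    rcases hq with hq | ⟨⟨eq⟩⟩
    · omega
    · rw [Nat.card_congr eq.toEquiv, Nat.card_eq_fintype_card (α := Perm (Fin 3)),
        Fintype.card_perm, Fintype.card_fin, h5c] at hle
      revert hle; decide
  swap
  · exfalso
    have h := (Subgroup.card_dvd_of_injective ι hι)
    obtain ⟨eP⟩ := eP
    rw [h5c, Nat.card_congr eP.toEquiv] at h
    haveI : Fact (Nat.Prime 7) := ⟨by norm_num⟩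
    have h2 := CfsgLib.ClassicalLinear.card_PSL_two_of_odd (F := ZMod 7) (ZMod.card 7) (by decide)
    have h3 := Nat.le_of_dvd Nat.card_pos h
    rw [Nat.dvd_iff_mod_eq_zero] at h
    omega
  haveI := hN
  haveI := hab
  set Q := (K ⧸ W.subgroupOf K) ⧸ N with hQdef
  let π : K →* Q := (QuotientGroup.mk' N).comp (QuotientGroup.mk' (W.subgroupOf K))
  have hπsurj : Function.Surjective π :=
    (QuotientGroup.mk'_surjective N).comp (QuotientGroup.mk'_surjective _)
  have hQc : Nat.card Q = 60 := by rw [Nat.card_congr eQ.toEquiv, h5c]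
  haveI hQs : IsSimpleGroup Q := eQ.symm.isSimpleGroup_congr.1 h5s
  have hinjQ : Function.Injective ((QuotientGroup.mk' N).comp ι) := by
    rw [← MonoidHom.ker_eq_bot_iff, Subgroup.eq_bot_iff_forall]
    exact fun a ha => hdisj N hN (CfsgLib.CoprimeAction.isSolvable_of_isMulCommutative N) a ((QuotientGroup.eq_one_iff _).1 ha)
  have hsurjQ := ((Nat.bijective_iff_injective_and_card _).2 ⟨hinjQ, by rw [h5c, hQc]⟩).2
  have hker4 : ∀ m ∈ π.ker, m ^ 4 = 1 := by
    intro m hm
    have h1 : (QuotientGroup.mk m : K ⧸ W.subgroupOf K) ^ 2 = 1 :=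
      hexp _ ((QuotientGroup.eq_one_iff _).1 hm)
    rw [← QuotientGroup.mk_pow, QuotientGroup.eq_one_iff, Subgroup.mem_subgroupOf] at h1
    refine Subtype.ext ?_
    show (m : G) ^ 4 = 1
    rw [show 4 = 2 * 2 by norm_num, pow_mul, pow_two ((m : G) ^ 2)]
    exact hW2 _ h1
  set R := π.ker.map K.subtype with hRdef
  have hp2 : IsPGroup 2 R := by
    rintro ⟨r, m, hm, rfl⟩
    refine ⟨2, Subtype.ext ?_⟩
    show (m : G) ^ 2 ^ 2 = 1
    rw [show (2 : ℕ) ^ 2 = 4 by norm_num]
    exact congrArg Subtype.val (hker4 m hm)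
  haveI : Fact (Nat.Prime 2) := ⟨by norm_num⟩
  haveI : Group.IsNilpotent R := hp2.isNilpotent
  have hcop : (Nat.card R).Coprime 3 := by
    obtain ⟨i, hi⟩ := hp2.exists_card_eq
    rw [hi]
    exact Nat.Coprime.pow_left i (by norm_num)
  have hE : f E0 ∈ Subgroup.normalizer (R : Set G) := by
    refine Subgroup.mem_normalizer_fintype fun r hr => ?_
    obtain ⟨m, hm, rfl⟩ := hr
    exact ⟨eK * m * eK⁻¹, π.normal_ker.conj_mem m hm eK, rfl⟩
  have hCK : ∀ k : G, k ∈ K → f C0 * k * (f C0)⁻¹ ∈ K ∧ (f C0)⁻¹ * k * f C0 ∈ K := by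
    intro k hk
    obtain ⟨a, b⟩ := hKmem.1 hk
    obtain ⟨-, -, c1, c2, c3⟩ := basic.2.2.1
    have a' : f C0 * f T0 * (f C0)⁻¹ = f V0 := by rw [← map_mul, ← map_inv, ← map_mul, c1]
    have b' : f C0 * f V0 * (f C0)⁻¹ = f T0 * f V0 := by
      rw [← map_mul, ← map_inv, ← map_mul, c2, map_mul]
    have c' : f C0 * (f T0 * f V0) * (f C0)⁻¹ = f T0 := by
      rw [← map_mul, ← map_mul, ← map_inv, ← map_mul, c3]
    have ab : k * (f T0 * f V0) = f T0 * f V0 * k :=
      ((show Commute k (f T0) from a).mul_right (show Commute k (f V0) from b)).eq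
    have conj : ∀ x y : G, k * x = x * k → f C0 * x * (f C0)⁻¹ = y →
        f C0 * k * (f C0)⁻¹ * y = y * (f C0 * k * (f C0)⁻¹) := by
      intro x y h1 h2
      rw [← h2]
      calc f C0 * k * (f C0)⁻¹ * (f C0 * x * (f C0)⁻¹) = f C0 * (k * x) * (f C0)⁻¹ := by group
        _ = _ := by rw [h1]; group
    have conj' : ∀ x y : G, k * y = y * k → f C0 * x * (f C0)⁻¹ = y →
        (f C0)⁻¹ * k * f C0 * x = x * ((f C0)⁻¹ * k * f C0) := by
      intro x y h1 h2
      rw [← h2] at h1
      calc (f C0)⁻¹ * k * f C0 * x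
          = (f C0)⁻¹ * (k * (f C0 * x * (f C0)⁻¹)) * f C0 := by group
        _ = _ := by rw [h1]; group
    exact ⟨hKmem.2 ⟨conj _ _ ab c', conj _ _ a a'⟩, hKmem.2 ⟨conj' _ _ b a', conj' _ _ ab b'⟩⟩
  have hC0 : f C0 ∈ Subgroup.normalizer (R : Set G) := by
    refine Subgroup.mem_normalizer_fintype fun r hr => ?_
    obtain ⟨m, hm, rfl⟩ := hr
    let cj : K →* K :=
      { toFun := fun k => ⟨f C0 * k * (f C0)⁻¹, (hCK k k.2).1⟩
        map_one' := Subtype.ext (by show f C0 * 1 * (f C0)⁻¹ = 1; group)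
        map_mul' := fun x y => Subtype.ext (by
          show f C0 * ((x : G) * y) * (f C0)⁻¹ = f C0 * x * (f C0)⁻¹ * (f C0 * y * (f C0)⁻¹)
          group) }
    let S : Subgroup Q := π.ker.map (π.comp cj)
    have hSn : S.Normal := by
      refine Subgroup.Normal.map π.normal_ker _ (hπsurj.comp fun k => ?_)
      refine ⟨⟨(f C0)⁻¹ * k * f C0, (hCK k k.2).2⟩, Subtype.ext ?_⟩
      show f C0 * ((f C0)⁻¹ * k * f C0) * (f C0)⁻¹ = k
      group
    rcases hSn.eq_bot_or_eq_top with h | h
    · have : π (cj m) ∈ S := ⟨m, hm, rfl⟩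
      rw [h, Subgroup.mem_bot] at this
      exact ⟨cj m, this, rfl⟩
    · exfalso
      obtain ⟨q, hq⟩ := exists_prime_orderOf_dvd_card' (G := Q) 3 (by rw [hQc]; norm_num)
      obtain ⟨m', hm', rfl⟩ : q ∈ S := h ▸ Subgroup.mem_top q
      have h4 : orderOf ((π.comp cj) m') ∣ 4 :=
        orderOf_dvd_of_pow_eq_one (by rw [← map_pow, hker4 m' hm', map_one])
      rw [hq] at h4
      omega
  have hcl : ∀ z ∈ Subgroup.closure ({f C0, f E0} : Set G), z ≠ 1 →
      R ⊓ Subgroup.centralizer ({z} : Set G) ≤ f.range := by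
    intro z hz hz1 r hr
    rw [show ({f C0, f E0} : Set G) = f '' {C0, E0} by rw [Set.image_pair],
      ← MonoidHom.map_closure] at hz
    obtain ⟨s, hs, rfl⟩ := hz
    have hcomm : ∀ a ∈ Subgroup.closure ({C0, E0} : Set A9),
        ∀ b ∈ Subgroup.closure ({C0, E0} : Set A9), Commute a b := by
      intro a ha b hb
      have h1 : ∀ c, Commute c C0 → Commute c E0 →
          ∀ b ∈ Subgroup.closure ({C0, E0} : Set A9), Commute c b := fun c hc hc' b hb => by
        refine Subgroup.closure_induction (fun x hx => ?_) (Commute.one_right c)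
          (fun _ _ _ _ p q => p.mul_right q) (fun _ _ p => p.inv_right) hb
        rcases hx with rfl | rfl
        exacts [hc, hc']
      exact h1 a (h1 C0 (Commute.refl _) basic.2.2.1.2.1 a ha).symm
        (h1 E0 (show Commute C0 E0 from basic.2.2.1.2.1).symm (Commute.refl _) a ha).symm b hb
    have h3 : s * s * s = 1 := by
      refine Subgroup.closure_induction (p := fun x _ => x * x * x = 1) (fun x hx => ?_)
        (by simp) (fun a b ha hb p q => ?_) (fun a _ p => ?_) hs
      · rcases hx with rfl | rfl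
        exacts [basic.2.2.1.1, basic.2.1.1]
      · rw [← pow_two, ← pow_succ, (hcomm a ha b hb).mul_pow, pow_succ, pow_two, pow_succ, pow_two,
          p, q, one_mul]
      · rw [← mul_inv_rev, ← mul_inv_rev, ← mul_assoc, p, inv_one]
    exact mem_range_of_commute hC h3 (fun e => hz1 (by rw [e, map_one]))
      (Subgroup.mem_centralizer_singleton_iff.1 hr.2)
  have hR : R ≤ f.range := by
    refine CfsgLib.CoprimeAction.le_of_centralizers_of_isSolvable (p := 3) (by norm_num)
      (x := f C0) (y := f E0) ?_ ?_ ?_ ?_ ?_ hC0 hE hcop inferInstance hcl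
    · rw [pow_succ, pow_two, ← map_mul, ← map_mul, basic.2.2.1.1, map_one]
    · rw [pow_succ, pow_two, ← map_mul, ← map_mul, basic.2.1.1, map_one]
    · rw [← map_mul, ← map_mul, basic.2.2.1.2.1]
    · intro i h
      have h' : C0 * E0 ^ i = 1 := hf (by rw [map_mul, map_pow, h, map_one])
      have h3 : E0 ^ 3 = 1 := by rw [pow_succ, pow_two, basic.2.1.1]
      rw [← Nat.mod_add_div i 3, pow_add, pow_mul, h3, one_pow, mul_one] at h'
      exact C0_ne_pow ⟨i % 3, by omega⟩ h'
    · exact fun h => basic.2.1.2.1 (hf (h.trans (map_one f).symm))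
  let k : K := ⟨g, hKmem.2 ⟨hgt, hgv⟩⟩
  obtain ⟨a, ha⟩ := hsurjQ (π k)
  let b : K := ((f.comp psi).codRestrict K hψK) a
  have hm : k * b⁻¹ ∈ π.ker := by
    rw [MonoidHom.mem_ker, map_mul, map_inv, show π b = π k from ha, mul_inv_cancel]
  have h1 : g * (f (psi a))⁻¹ ∈ f.range := hR ⟨k * b⁻¹, hm, rfl⟩
  have h2 := f.range.mul_mem h1 ⟨psi a, rfl⟩
  rwa [inv_mul_cancel_right] at h2

/-- An element of `C(t)` mapping `v` into the four-group lies in the range. -/
theorem range_of_conj_four [Finite G] {g : G} (hgt : g * f T0 = f T0 * g)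
    (hgv : g * f V0 * g⁻¹ = f V0 ∨ g * f V0 * g⁻¹ = f T0 * f V0) : g ∈ f.range := by
  obtain ⟨-, -, -, ⟨-, -, -, s1, s2⟩, -⟩ := basic
  rcases hgv with h | h
  · exact centralizer_four hf hC hgt (mul_inv_eq_iff_eq_mul.1 h)
  · have hs1 : f S0 * f T0 = f T0 * f S0 := by rw [← map_mul, s1, map_mul]
    have hs2 : f S0 * f V0 * (f S0)⁻¹ = f T0 * f V0 := by
      rw [← map_mul, ← map_inv, ← map_mul, s2, map_mul]
    have h' := centralizer_four hf hC (g := (f S0)⁻¹ * g)
      (((show Commute (f S0) (f T0) from hs1).inv_left.mul_left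
        (show Commute g (f T0) from hgt))).eq (by
        refine mul_inv_eq_iff_eq_mul.1 ?_
        calc (f S0)⁻¹ * g * f V0 * ((f S0)⁻¹ * g)⁻¹
            = (f S0)⁻¹ * (g * f V0 * g⁻¹) * f S0 := by group
          _ = f V0 := by rw [h, ← hs2]; group)
    have := f.range.mul_mem (⟨S0, rfl⟩ : f S0 ∈ f.range) h'
    rwa [mul_inv_cancel_left] at this

/-- Elements of order three commuting with `t` are conjugate to `e`. -/
theorem conj_e [Finite G] {y : G} (hyt : y * f T0 = f T0 * y) (hy3 : y * y * y = 1) (hy1 : y ≠ 1) :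
    ∃ d : G, d * y * d⁻¹ = f E0 := by
  classical
  haveI : Fact (Nat.Prime 3) := ⟨by norm_num⟩
  obtain ⟨-, ⟨e3, e1, eT, -⟩, -, ⟨rE, rT, -⟩, -⟩ := basic
  set C := Subgroup.centralizer ({f T0} : Set G)
  have hmemC : ∀ {g : G}, g ∈ C ↔ g * f T0 = f T0 * g := Subgroup.mem_centralizer_singleton_iff
  let eC : C := ⟨f E0, hmemC.2 (by rw [← map_mul, eT, map_mul])⟩
  let yC : C := ⟨y, hmemC.2 hyt⟩
  have he : orderOf eC = 3 := orderOf_eq_prime (by
    refine Subtype.ext ?_
    show (f E0) ^ 3 = 1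
    rw [pow_succ, pow_two, ← map_mul, ← map_mul, e3, map_one])
    fun h => e1 (hf ((congrArg Subtype.val h).trans (map_one f).symm))
  have hyo : orderOf yC = 3 := orderOf_eq_prime (Subtype.ext (by
    show y ^ 3 = 1
    rw [pow_succ, pow_two, hy3])) fun h => hy1 (congrArg Subtype.val h)
  obtain ⟨P, hP⟩ := (IsPGroup.of_card (p := 3) (G := Subgroup.zpowers eC) (n := 1)
    (by rw [Nat.card_zpowers, he, pow_one])).exists_le_sylow
  have hPe : ∀ x ∈ (P : Subgroup C), x ∈ Subgroup.zpowers eC := by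
    by_contra hno
    push Not at hno
    obtain ⟨x, hx, hxn⟩ := hno
    let E' : Subgroup (P : Subgroup C) := (Subgroup.zpowers eC).subgroupOf P
    have hlt : E' < ⊤ := lt_top_iff_ne_top.2 fun h => hxn (by
      have : (⟨x, hx⟩ : (P : Subgroup C)) ∈ E' := h ▸ Subgroup.mem_top _
      exact this)
    haveI : Group.IsNilpotent (P : Subgroup C) := P.isPGroup'.isNilpotent
    obtain ⟨n, hn, hnE⟩ := SetLike.exists_of_lt (Group.normalizerCondition_of_isNilpotent E' hlt)
    let eP : (P : Subgroup C) := ⟨eC, hP (Subgroup.mem_zpowers eC)⟩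
    have hne := (Subgroup.mem_normalizer_iff.1 hn eP).1 (Subgroup.mem_zpowers eC)
    have hpow : ∃ i : ℤ, eC ^ i = (n : C) * eC * (n : C)⁻¹ := Subgroup.mem_zpowers_iff.1 hne
    obtain ⟨i, hi⟩ := hpow
    obtain ⟨j, hj⟩ := IsPGroup.iff_orderOf.1 P.isPGroup' n
    have hoddn : Odd (orderOf (n : C)) := by
      rw [Subgroup.orderOf_coe, hj]; exact (by decide : Odd 3).pow
    have hcases : eC ^ i = eC ∨ eC ^ i = eC⁻¹ ∨ eC ^ i = 1 := by
      rw [← zpow_mod_orderOf, he]
      rcases (show i % (3 : ℕ) = 0 ∨ i % (3 : ℕ) = 1 ∨ i % (3 : ℕ) = 2 by omega) with h | h | h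
      · rw [h]; exact Or.inr (Or.inr (zpow_zero _))
      · rw [h]; exact Or.inl (zpow_one _)
      · rw [h]; refine Or.inr (Or.inl (eq_inv_of_mul_eq_one_left ?_))
        rw [← zpow_add_one, show (2 : ℤ) + 1 = ((3 : ℕ) : ℤ) by norm_num, zpow_natCast, ← he,
          pow_orderOf_eq_one]
    have hsq : (n : C) ^ 2 * eC = eC * (n : C) ^ 2 := by
      rcases hcases with h | h | h <;> rw [h] at hi
      · exact (((show Commute (n : C) eC from (eq_mul_inv_iff_mul_eq.1 hi).symm)).pow_left 2).eq
      · refine mul_inv_eq_iff_eq_mul.1 ?_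
        rw [pow_two, show (n : C) * n * eC * ((n : C) * n)⁻¹ =
          (n : C) * ((n : C) * eC * (n : C)⁻¹) * (n : C)⁻¹ by group, ← hi,
          show (n : C) * eC⁻¹ * (n : C)⁻¹ = ((n : C) * eC * (n : C)⁻¹)⁻¹ by group, ← hi, inv_inv]
      · exfalso
        have h1 : eC = 1 := by
          rw [show eC = (n : C)⁻¹ * ((n : C) * eC * (n : C)⁻¹) * n by group, ← hi]; group
        rw [h1, orderOf_one] at he; omega
    obtain ⟨m, hm⟩ := exists_pow_eq_self_of_coprime (x := (n : C)) (n := 2)
      (Nat.coprime_two_left.2 hoddn)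
    have hcomm : Commute (n : C) eC := hm ▸ (show Commute ((n : C) ^ 2) eC from hsq).pow_left m
    obtain ⟨σ, hσ⟩ := mem_range_of_commute hC e3 e1 (g := ((n : C) : G))
      (congrArg Subtype.val hcomm.eq)
    have hσo : Odd (orderOf σ) := by
      rw [← orderOf_injective f hf, hσ, Subgroup.orderOf_coe]
      exact hoddn
    have a := hmemC.1 (n : C).2
    have b : ((n : C) : G) * f E0 = f E0 * (n : C) := congrArg Subtype.val hcomm.eq
    rw [← hσ] at a b
    refine hnE ?_
    show (n : C) ∈ Subgroup.zpowers eC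
    rcases odd_T_E (comm_of_map hf hC a) (comm_of_map hf hC b) hσo with h | h | h
    · rw [show (n : C) = 1 from Subtype.ext (by rw [← hσ, h, map_one]; rfl)]
      exact one_mem _
    · rw [show (n : C) = eC from Subtype.ext (by rw [← hσ, h])]
      exact Subgroup.mem_zpowers _
    · rw [show (n : C) = eC * eC from Subtype.ext (by rw [← hσ, h, map_mul]; rfl)]
      exact mul_mem (Subgroup.mem_zpowers _) (Subgroup.mem_zpowers _)
  obtain ⟨Q, hQ⟩ := (IsPGroup.of_card (p := 3) (G := Subgroup.zpowers yC) (n := 1)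
    (by rw [Nat.card_zpowers, hyo, pow_one])).exists_le_sylow
  obtain ⟨c, hc⟩ := MulAction.exists_smul_eq C Q P
  have hmem : c * yC * c⁻¹ ∈ Subgroup.zpowers eC := by
    refine hPe _ ?_
    rw [← hc, Sylow.smul_def, Sylow.pointwise_smul_def]
    exact ⟨yC, hQ (Subgroup.mem_zpowers yC), rfl⟩
  obtain ⟨i, hi⟩ := Subgroup.mem_zpowers_iff.1 hmem
  have hv : ((c : G) * y * (c : G)⁻¹) = (f E0) ^ i := by
    have := congrArg Subtype.val hi
    rw [Subgroup.coe_zpow] at this
    exact this.symm
  have hfe : (f E0) ^ (3 : ℕ) = 1 := by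
    rw [pow_succ, pow_two, ← map_mul, ← map_mul, e3, map_one]
  rw [← Int.emod_add_mul_ediv i 3, zpow_add, zpow_mul,
    show (3 : ℤ) = ((3 : ℕ) : ℤ) by norm_num, zpow_natCast, hfe, one_zpow, mul_one] at hv
  rcases (show i % (3 : ℕ) = 0 ∨ i % (3 : ℕ) = 1 ∨ i % (3 : ℕ) = 2 by omega) with h | h | h <;>
    rw [h] at hv
  · exfalso
    rw [zpow_zero] at hv
    exact hy1 (by rw [show y = (c : G)⁻¹ * ((c : G) * y * (c : G)⁻¹) * c by group, hv]; group)
  · exact ⟨c, by rw [hv, zpow_one]⟩
  · refine ⟨f R0 * c, ?_⟩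
    rw [show f R0 * (c : G) * y * (f R0 * (c : G))⁻¹ =
      f R0 * ((c : G) * y * (c : G)⁻¹) * (f R0)⁻¹ by group, hv, ← map_inv,
      show (2 : ℤ) = ((2 : ℕ) : ℤ) by norm_num, zpow_natCast, ← map_pow, ← map_mul, ← map_mul]
    refine congrArg f ?_
    decide +kernel

/-- The two classes of involutions are not fused. -/
theorem not_fused [Finite G] (g : G) : g * f U0 * g⁻¹ ≠ f T0 := by
  intro hg
  obtain ⟨-, ⟨-, -, -, -⟩, -, -, ⟨-, pU, p3, p1, fE, f5, f1⟩⟩ := basic
  obtain ⟨d, hd⟩ := conj_e hf hC (y := g * f P0 * g⁻¹)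
    (by
      rw [← hg, show g * f P0 * g⁻¹ * (g * f U0 * g⁻¹) = g * (f P0 * f U0) * g⁻¹ by group,
        ← map_mul, pU, map_mul]
      group)
    (by
      rw [show g * f P0 * g⁻¹ * (g * f P0 * g⁻¹) * (g * f P0 * g⁻¹) =
        g * (f P0 * f P0 * f P0) * g⁻¹ by group, ← map_mul, ← map_mul, p3, map_one, mul_one,
        mul_inv_cancel])
    (fun h => p1 (hf (by
      rw [map_one, show f P0 = g⁻¹ * (g * f P0 * g⁻¹) * g by group, h]; group)))
  have hh : d * g * f P0 * (d * g)⁻¹ = f E0 := by rw [← hd]; group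
  have hcomm : (d * g)⁻¹ * f F0 * (d * g) * f P0 = f P0 * ((d * g)⁻¹ * f F0 * (d * g)) := by
    have e' : f F0 * f E0 = f E0 * f F0 := by rw [← map_mul, fE, map_mul]
    rw [show f P0 = (d * g)⁻¹ * f E0 * (d * g) by rw [← hh]; group]
    calc _ = (d * g)⁻¹ * (f F0 * f E0) * (d * g) := by group
      _ = _ := by rw [e']; group
  obtain ⟨σ, hσ⟩ := mem_range_of_commute hC p3 p1 hcomm
  refine no_five σ (hf ?_) (fun h => f1 (hf ?_)) (comm_of_map hf hC (by rw [hσ]; exact hcomm))
  · rw [map_pow, hσ, map_one,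
      show (d * g)⁻¹ * f F0 * (d * g) = (d * g)⁻¹ * f F0 * ((d * g)⁻¹)⁻¹ by rw [inv_inv],
      conj_pow, ← map_pow, f5, map_one]
    group
  · rw [h, map_one] at hσ
    rw [map_one, show f F0 = (d * g) * ((d * g)⁻¹ * f F0 * (d * g)) * (d * g)⁻¹ by group, ← hσ]
    group

theorem support_of_conj [Finite G] {σ : A9} (h2 : σ * σ = 1) (h1 : σ ≠ 1)
    (h : ∃ g : G, g * f T0 * g⁻¹ = f σ) : (σ : Perm (Fin 9)).support.card = 4 := by
  obtain ⟨g, hg⟩ := h
  rcases involution_types σ h2 h1 with ⟨x, rfl⟩ | ⟨x, rfl⟩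
  · show ((x : Perm (Fin 9)) * (T0 : Perm (Fin 9)) * (x : Perm (Fin 9))⁻¹).support.card = 4
    rw [Perm.card_support_conj]
    decide +kernel
  · refine absurd ?_ (not_fused hf hC (g⁻¹ * f x))
    rw [show g⁻¹ * f x * f U0 * (g⁻¹ * f x)⁻¹ = g⁻¹ * (f x * f U0 * (f x)⁻¹) * g by group,
      ← map_mul, ← map_inv, ← map_mul, ← hg]
    group

/-- The centraliser of the distinguished involution lies in the range. -/
theorem centralizer_T0_le [Finite G] : Subgroup.centralizer ({f T0} : Set G) ≤ f.range := by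
  classical
  obtain ⟨⟨tT, tne, vV, vne, vt, tv⟩, -, ⟨-, -, c1, c2, c3⟩, -, -⟩ := basic
  set C := Subgroup.centralizer ({f T0} : Set G) with hCdef
  have hmemC : ∀ {g : G}, g ∈ C ↔ g * f T0 = f T0 * g := Subgroup.mem_centralizer_singleton_iff
  set t : G := f T0 with ht
  set v : G := f V0 with hv
  have htt : t * t = 1 := by rw [ht, ← map_mul, tT, map_one]
  let tC : C := ⟨t, hmemC.2 rfl⟩
  have hzt : ∀ z ∈ Subgroup.zpowers tC, (z : G) = 1 ∨ (z : G) = t := by
    intro z hz
    obtain ⟨i, rfl⟩ := Subgroup.mem_zpowers_iff.1 hz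
    rcases Int.even_or_odd i with ⟨j, rfl⟩ | ⟨j, rfl⟩
    · left
      rw [Subgroup.coe_zpow, zpow_add, ← Commute.mul_zpow (Commute.refl _)]
      show (t * t) ^ j = 1
      rw [htt, one_zpow]
    · right
      rw [Subgroup.coe_zpow, zpow_add, two_mul, zpow_add, ← Commute.mul_zpow (Commute.refl _),
        zpow_one]
      show (t * t) ^ j * t = t
      rw [htt, one_zpow, one_mul]
  haveI hzn : (Subgroup.zpowers tC).Normal := ⟨fun z hz k => by
    obtain ⟨i, rfl⟩ := Subgroup.mem_zpowers_iff.1 hz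
    have h : Commute k tC := Subtype.ext (hmemC.1 k.2)
    rw [(h.zpow_right i).eq, mul_inv_cancel_right]
    exact Subgroup.zpow_mem _ (Subgroup.mem_zpowers _) i⟩
  have hfC : ∀ σ : A9, σ * T0 = T0 * σ → f σ ∈ C := fun σ h =>
    hmemC.2 (by rw [ht, ← map_mul, h, map_mul])
  let mk : C →* C ⧸ Subgroup.zpowers tC := QuotientGroup.mk' _
  have hmkeq : ∀ a b : C, mk a = mk b → (a : G) = b ∨ (a : G) * t = b := by
    intro a b h
    rcases hzt _ (QuotientGroup.eq.1 h) with e | e <;>
      rw [Subgroup.coe_mul, Subgroup.coe_inv] at e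
    · exact Or.inl (inv_mul_eq_one.1 e)
    · exact Or.inr (by rw [← e, mul_inv_cancel_left])
  let vC : C := ⟨v, hfC V0 tv.symm⟩
  set vq := mk vC with hvq
  have hv2 : orderOf vq = 2 := orderOf_eq_prime
    (by
      rw [hvq, ← map_pow, show vC ^ 2 = 1 from Subtype.ext (by
        show v ^ 2 = 1
        rw [hv, pow_two, ← map_mul, vV, map_one]), map_one])
    fun h => by
      rcases hmkeq vC 1 (h.trans (map_one mk).symm) with e | e
      · exact vne (hf (e.trans (map_one f).symm))
      · refine vt (hf ?_)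
        show v = t
        calc v = v * t * t := by rw [mul_assoc, htt, mul_one]
          _ = t := by rw [show v * t = 1 from e, one_mul]
  -- an element mapping `v` to an element commuting with it modulo `t`
  have hnorm : ∀ a : C, Commute vq (mk a) → (a : G) ∈ f.range := by
    intro a h
    rcases hmkeq (a * vC) (vC * a) (by rw [map_mul, map_mul]; exact h.eq.symm) with e | e
    · exact centralizer_four hf hC (hmemC.1 a.2) e
    · refine range_of_conj_four hf hC (hmemC.1 a.2) (Or.inr (mul_inv_eq_iff_eq_mul.2 ?_))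
      show (a : G) * v = t * v * a
      have e' : v * (a : G) = (a : G) * v * t := e.symm
      calc (a : G) * v = (a : G) * v * t * t := by rw [mul_assoc _ t, htt, mul_one]
        _ = v * a * t := by rw [← e']
        _ = v * t * a := by rw [mul_assoc, hmemC.1 a.2, mul_assoc]
        _ = t * v * a := by rw [show v * t = t * v by rw [ht, hv, ← map_mul, ← tv, map_mul]]
  -- the image of `v` commutes with none of its other conjugates
  have hiso : ∀ q : C ⧸ Subgroup.zpowers tC, Commute vq (q * vq * q⁻¹) → q * vq * q⁻¹ = vq := by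
    intro q hq
    obtain ⟨g, rfl⟩ : ∃ g : C, mk g = q := QuotientGroup.mk'_surjective _ q
    rw [show mk g * vq * (mk g)⁻¹ = mk (g * vC * g⁻¹) by rw [map_mul, map_mul, map_inv]] at hq ⊢
    obtain ⟨σ, hσ⟩ := hnorm _ hq
    have hσ' : f σ = (g : G) * v * (g : G)⁻¹ := hσ
    have hgt : (g : G) * t = t * g := hmemC.1 g.2
    have hσT : σ * T0 = T0 * σ := comm_of_map hf hC (by
      rw [hσ']; exact hmemC.1 (g * vC * g⁻¹).2)
    have hσ2 : σ * σ = 1 := hf (by
      rw [map_mul, hσ', map_one, show (g : G) * v * (g : G)⁻¹ * ((g : G) * v * (g : G)⁻¹) =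
        (g : G) * (v * v) * (g : G)⁻¹ by group, hv, ← map_mul, vV, map_one]
      group)
    have hσ1 : σ ≠ 1 := fun h => vne (hf (by
      rw [h, map_one] at hσ'
      rw [map_one, show f V0 = (g : G)⁻¹ * ((g : G) * v * (g : G)⁻¹) * g by rw [hv]; group, ← hσ']
      group))
    have hσt : f (σ * T0) = (g : G) * (v * t) * (g : G)⁻¹ := by
      rw [map_mul, hσ', ← ht]
      calc (g : G) * v * (g : G)⁻¹ * t = (g : G) * v * ((g : G)⁻¹ * t) := by group
        _ = (g : G) * v * (t * (g : G)⁻¹) := by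
          rw [((show Commute (g : G) t from hgt).inv_left).eq]
        _ = _ := by group
    have hσT1 : σ * T0 ≠ 1 := fun h => vt (hf (by
      rw [h, map_one] at hσt
      show v = t
      calc v = (g : G)⁻¹ * ((g : G) * (v * t) * (g : G)⁻¹) * g * t := by
            rw [show (g : G)⁻¹ * ((g : G) * (v * t) * (g : G)⁻¹) * g * t = v * (t * t) by group,
              htt, mul_one]
        _ = t := by rw [← hσt]; group))
    have hs1 : (σ : Perm (Fin 9)).support.card = 4 := support_of_conj hf hC hσ2 hσ1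
      ⟨(g : G) * f C0, by
        rw [hσ', hv, show f V0 = f C0 * t * (f C0)⁻¹ by
          rw [ht, ← map_mul, ← map_inv, ← map_mul, c1], ← ht]
        group⟩
    have hs2 : ((σ * T0 : A9) : Perm (Fin 9)).support.card = 4 := support_of_conj hf hC
      (by
        rw [show σ * T0 * (σ * T0) = σ * (T0 * σ) * T0 by group, ← hσT]
        rw [show σ * (σ * T0) * T0 = σ * σ * (T0 * T0) by group, hσ2, tT, one_mul])
      hσT1 ⟨(g : G) * (f C0)⁻¹, by
        rw [hσt, show v * t = (f C0)⁻¹ * t * f C0 by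
          rw [hv, ht, ← map_mul, ← map_inv, ← map_mul, ← map_mul, ← tv]
          exact congrArg f (eq_inv_mul_iff_mul_eq.2 (mul_inv_eq_iff_eq_mul.1 c3) |>.trans
            (mul_assoc _ _ _).symm), ← ht]
        group⟩
    rcases double_cases hσT hσ2 hs1 hs2 with h | ⟨y, y3, y1, yT, yσ, ycyc⟩
    · rcases h with h | h | h | h
      · exact absurd h hσ1
      · exact absurd (by rw [h, tT]) hσT1
      · exact congrArg mk (Subtype.ext (by
          show (g : G) * v * (g : G)⁻¹ = v
          rw [← hσ', h]))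
      · rw [show g * vC * g⁻¹ = tC * vC from Subtype.ext (by
          show (g : G) * v * (g : G)⁻¹ = t * v
          rw [← hσ', h, map_mul]), map_mul,
          show mk tC = 1 from (QuotientGroup.eq_one_iff _).2 (Subgroup.mem_zpowers _), one_mul]
    · -- transport the three-cycle
      set z : G := (g : G)⁻¹ * f y * g with hz
      have hyσ' : f y * f σ = f σ * f y := by rw [← map_mul, yσ, map_mul]
      have hyT' : f y * t = t * f y := by rw [ht, ← map_mul, yT, map_mul]
      have hzt' : z * t = t * z :=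
        (((show Commute (g : G) t from hgt).inv_left.mul_left
          (show Commute (f y) t from hyT')).mul_left (show Commute (g : G) t from hgt)).eq
      have hzv : z * v = v * z := by
        rw [show v = (g : G)⁻¹ * f σ * g by rw [hσ']; group, hz]
        calc _ = (g : G)⁻¹ * (f y * f σ) * g := by group
          _ = _ := by rw [hyσ']; group
      obtain ⟨s, hs⟩ := centralizer_four hf hC hzt' hzv
      have hs3 : s * s * s = 1 := hf (by
        rw [map_mul, map_mul, hs, hz, map_one,
          show (g : G)⁻¹ * f y * g * ((g : G)⁻¹ * f y * g) * ((g : G)⁻¹ * f y * g) =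
            (g : G)⁻¹ * (f y * f y * f y) * g by group, ← map_mul, ← map_mul, y3, map_one]
        group)
      have hs1' : s ≠ 1 := fun h => y1 (hf (by
        rw [h, map_one, hz] at hs
        rw [map_one, show f y = (g : G) * ((g : G)⁻¹ * f y * g) * (g : G)⁻¹ by group, ← hs]
        group))
      have hsT : s * T0 = T0 * s := comm_of_map hf hC (by rw [hs]; exact hzt')
      haveI : Fact (Nat.Prime 3) := ⟨by norm_num⟩
      have hso : Odd (orderOf s) := by
        rw [orderOf_eq_prime (by rw [pow_succ, pow_two]; exact hs3) hs1']; decide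
      obtain ⟨x1, hx1⟩ := conj_E0 hs3 hs1' (fix_of_odd hsT hso)
      obtain ⟨x2, hx2⟩ := conj_three ycyc
      have hgr : (g : G) ∈ f.range := by
        have hE : (f x2)⁻¹ * g * f x1 * f E0 = f E0 * ((f x2)⁻¹ * g * f x1) := by
          have a1 : f x1 * f E0 * (f x1)⁻¹ = z := by
            rw [← map_mul, ← map_inv, ← map_mul, hx1, hs]
          have a2 : f x2 * f E0 * (f x2)⁻¹ = f y := by rw [← map_mul, ← map_inv, ← map_mul, hx2]
          have a3 : (g : G) * z = f y * g := by rw [hz]; group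
          calc (f x2)⁻¹ * g * f x1 * f E0
              = (f x2)⁻¹ * ((g : G) * (f x1 * f E0 * (f x1)⁻¹)) * f x1 := by group
            _ = (f x2)⁻¹ * (f y * g) * f x1 := by rw [a1, a3]
            _ = (f x2)⁻¹ * (f x2 * f E0 * (f x2)⁻¹ * g) * f x1 := by rw [a2]
            _ = _ := by group
        have h := mem_range_of_commute hC basic.2.1.1 basic.2.1.2.1 hE
        have := f.range.mul_mem (f.range.mul_mem (⟨x2, rfl⟩ : f x2 ∈ f.range) h)
          (f.range.inv_mem (⟨x1, rfl⟩ : f x1 ∈ f.range))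
        rwa [show f x2 * ((f x2)⁻¹ * g * f x1) * (f x1)⁻¹ = (g : G) by group] at this
      obtain ⟨γ, hγ⟩ := hgr
      have hσγ : σ = γ * V0 * γ⁻¹ := hf (by rw [map_mul, map_mul, map_inv, hγ, hσ', hv])
      rcases conj_V (σ := γ) (comm_of_map hf hC (by rw [hγ]; exact hgt)) with e | e
      · exact congrArg mk (Subtype.ext (by
          show (g : G) * v * (g : G)⁻¹ = v
          rw [← hσ', hσγ, e]))
      · rw [show g * vC * g⁻¹ = tC * vC from Subtype.ext (by
          show (g : G) * v * (g : G)⁻¹ = t * v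
          rw [← hσ', hσγ, e, map_mul]), map_mul,
          show mk tC = 1 from (QuotientGroup.eq_one_iff _).2 (Subgroup.mem_zpowers _), one_mul]
  have hzs := fun q => CfsgLib.Involutions.zstar_theorem hv2
    (CfsgLib.CoreFree.oddComm_of_commuting_eq hv2 hiso) q
  set O := Cfsg.oddCore (C ⧸ Subgroup.zpowers tC) with hO
  have hoddO : Odd (Nat.card O) := CfsgLib.Cores.odd_card_oddCore
  let j : alternatingGroup (Fin 5) →* C ⧸ Subgroup.zpowers tC :=
    mk.comp ((f.comp psi).codRestrict C fun a => hfC _ (psi_commute a T0 T0_high))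
  have hj : ∀ a, j a ∈ O → a = 1 := by
    haveI : IsSimpleGroup (alternatingGroup (Fin 5)) := alternatingGroup.isSimpleGroup (by simp)
    have hinj : ∀ a, j a = 1 → a = 1 := by
      intro a ha
      rcases hmkeq _ 1 (ha.trans (map_one mk).symm) with e | e
      · exact psi_injective (hf (by rw [map_one, map_one]; exact e))
      · have e' : psi a = T0 := hf (by
          show f (psi a) = t
          calc f (psi a) = f (psi a) * t * t := by rw [mul_assoc, htt, mul_one]
            _ = t := by rw [show f (psi a) * t = 1 from e, one_mul])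
        have h0 := psi_apply_low a (i := 0) (by decide)
        rw [e'] at h0
        exact absurd h0 (by decide +kernel)
    intro a ha
    rcases (Subgroup.Normal.comap (H := O) inferInstance j).eq_bot_or_eq_top with h | h
    · exact Subgroup.mem_bot.1 (h ▸ ha)
    · exfalso
      have hall : ∀ a, j a ∈ O := fun a => by
        have : a ∈ O.comap j := h ▸ Subgroup.mem_top a
        exact this
      have hd := Subgroup.card_dvd_of_injective (j.codRestrict O hall) fun x y e =>
        inv_mul_eq_one.1 (hinj (x⁻¹ * y) (by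
          rw [map_mul, map_inv, show j x = j y from congrArg Subtype.val e, inv_mul_cancel]))
      rw [nat_card_alternatingGroup, Nat.card_eq_fintype_card (α := Fin 5), Fintype.card_fin,
        show Nat.factorial 5 / 2 = 60 from rfl] at hd
      rw [Nat.odd_iff] at hoddO
      omega
  -- an element of the odd core with a representative in the range is trivial
  have hOR : ∀ a : C, mk a ∈ O → (a : G) ∈ f.range → mk a = 1 := by
    intro a ha har
    obtain ⟨σ, hσ⟩ := har
    set m := orderOf (⟨mk a, ha⟩ : O) with hm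
    have hmodd : Odd m := hoddO.of_dvd_nat (orderOf_dvd_natCard _)
    have ham : mk (a ^ m) = 1 := by
      rw [map_pow, hm, ← Subgroup.orderOf_coe, pow_orderOf_eq_one]
    have ha2 : (a : G) ^ (2 * m) = 1 := by
      rcases hmkeq (a ^ m) 1 (ham.trans (map_one mk).symm) with e | e <;>
        rw [Subgroup.coe_pow, Subgroup.coe_one] at e
      · rw [mul_comm, pow_mul, e, one_pow]
      · rw [mul_comm, pow_mul, eq_inv_of_mul_eq_one_left e, pow_two, ← mul_inv_rev, htt, inv_one]
    have hσT : σ * T0 = T0 * σ := comm_of_map hf hC (by rw [hσ]; exact hmemC.1 a.2)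
    set τ := σ ^ (m + 1) with hτ
    have hτodd : Odd (orderOf τ) := by
      refine hmodd.of_dvd_nat (orderOf_dvd_of_pow_eq_one (hf ?_))
      obtain ⟨r, hr⟩ := hmodd
      rw [hτ, ← pow_mul, map_pow, hσ, map_one, show (m + 1) * m = 2 * m * (r + 1) by rw [hr]; ring,
        pow_mul, ha2, one_pow]
    obtain ⟨b, hb⟩ := mem_psi_range (fix_of_odd
      ((show Commute σ T0 from hσT).pow_left (m + 1)).eq hτodd)
    have hjb : j b = mk a := by
      show mk _ = mk a
      rw [show ((f.comp psi).codRestrict C fun a => hfC _ (psi_commute a T0 T0_high)) b =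
        a ^ (m + 1) from Subtype.ext (by
          show f (psi b) = ((a ^ (m + 1) : C) : G)
          rw [hb, map_pow, hσ, Subgroup.coe_pow]), pow_succ, map_mul, ham, one_mul]
    rw [← hjb, hj b (hjb ▸ ha), map_one]
  -- elements of order three act without fixed points
  have hfix3 : ∀ s : A9, s * s * s = 1 → s ≠ 1 → ∀ hs : s * T0 = T0 * s, ∀ x ∈ O,
      Commute (mk ⟨f s, hfC s hs⟩) x → x = 1 := by
    intro s h3 h1 hs x hx hc
    obtain ⟨a, rfl⟩ : ∃ a : C, mk a = x := QuotientGroup.mk'_surjective _ x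
    refine hOR a hx ?_
    rcases hmkeq (a * ⟨f s, hfC s hs⟩) (⟨f s, hfC s hs⟩ * a)
      (by rw [map_mul, map_mul]; exact hc.eq.symm) with e | e
    · exact mem_range_of_commute hC h3 h1 e
    · exfalso
      have e' : (a : G) * f s * t = f s * a := e
      have hst : f s * t = t * f s := by rw [ht, ← map_mul, hs, map_mul]
      have h3' : f s * f s * f s = 1 := by rw [← map_mul, ← map_mul, h3, map_one]
      have hconj : (a : G)⁻¹ * f s * a = f s * t := by
        rw [mul_assoc, ← e', mul_assoc, inv_mul_cancel_left]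
      have hcube : (f s * t) * (f s * t) * (f s * t) = 1 := by
        rw [← hconj, show (a : G)⁻¹ * f s * a * ((a : G)⁻¹ * f s * a) * ((a : G)⁻¹ * f s * a) =
          (a : G)⁻¹ * (f s * f s * f s) * a by group, h3']
        group
      refine tne (hf ?_)
      rw [map_one, ← ht]
      calc t = t * t * t := by rw [htt, one_mul]
        _ = f s * f s * f s * (t * t * t) := by rw [h3', one_mul]
        _ = f s * f s * (f s * t) * t * t := by group
        _ = f s * f s * (t * f s) * t * t := by rw [hst]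
        _ = f s * (f s * t) * (f s * t) * t := by group
        _ = f s * (t * f s) * (f s * t) * t := by rw [hst]
        _ = (f s * t) * (f s * (f s * t)) * t := by group
        _ = (f s * t) * (f s * (t * f s)) * t := by rw [hst]
        _ = (f s * t) * (f s * t) * (f s * t) := by group
        _ = 1 := hcube
  -- `v` inverts the core
  let φ : O →* O := (MulAut.conjNormal vq).toMonoidHom
  have hφv : ∀ x : O, (φ x : C ⧸ Subgroup.zpowers tC) = vq * x * vq⁻¹ := fun x =>
    MulAut.conjNormal_apply vq x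
  have hφfpf : MonoidHom.FixedPointFree φ := by
    intro x hx
    have hc : Commute vq (x : C ⧸ Subgroup.zpowers tC) := mul_inv_eq_iff_eq_mul.1
      ((hφv x).symm.trans (congrArg Subtype.val hx))
    obtain ⟨a, ha⟩ : ∃ a : C, mk a = (x : C ⧸ Subgroup.zpowers tC) :=
      QuotientGroup.mk'_surjective _ _
    refine Subtype.ext ?_
    rw [← ha]
    exact hOR a (ha ▸ x.2) (hnorm a (ha ▸ hc))
  have hφ2 : Function.Involutive φ := fun x => Subtype.ext (by
    rw [hφv, hφv]
    have e := pow_orderOf_eq_one vq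
    rw [hv2, pow_two] at e
    calc _ = (vq * vq) * (x : C ⧸ Subgroup.zpowers tC) * (vq * vq)⁻¹ := by group
      _ = _ := by rw [e]; group)
  letI : CommGroup O :=
    { (inferInstance : Group O) with
      mul_comm := fun x y => (MonoidHom.FixedPointFree.commute_all_of_involutive hφfpf hφ2 x y).eq }
  have hd4 : ∀ (q : Fin 9 → Prop) [DecidablePred q] (e : Fin 4 ≃ Subtype q),
      (hq : ∀ i, q i → 4 ≤ i.val) → ∀ d : alternatingGroup (Fin 4), d * d = 1 → ∀ x ∈ O,
        Commute (mk ⟨f (psi4 e d), hfC _ (psi4_T0 e hq d)⟩) x := by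
    intro q _ e hq d hd x hx
    let ρ : alternatingGroup (Fin 4) →* MulAut O := (MulAut.conjNormal (H := O)).comp
      (mk.comp ((f.comp (psi4 e)).codRestrict C fun d => hfC _ (psi4_T0 e hq d)))
    have hfpf : ∀ y : alternatingGroup (Fin 4), y * y * y = 1 → y ≠ 1 → ∀ x : O,
        ρ y x = x → x = 1 := by
      intro y h3 h1 x hx
      refine Subtype.ext (hfix3 (psi4 e y) ?_ ?_ (psi4_T0 e hq y) x x.2 ?_)
      · rw [← map_mul, ← map_mul, h3, map_one]
      · exact fun h => h1 (psi4_injective e (h.trans (map_one _).symm))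
      · exact mul_inv_eq_iff_eq_mul.1 ((MulAut.conjNormal_apply _ x).symm.trans
          (congrArg Subtype.val hx))
    have h := four_trivial hoddO ρ hfpf hd ⟨x, hx⟩
    exact mul_inv_eq_iff_eq_mul.1 ((MulAut.conjNormal_apply _ (⟨x, hx⟩ : O)).symm.trans
      (congrArg Subtype.val h))
  have hObot : ∀ x ∈ O, x = 1 := by
    obtain ⟨d, d', hd, hd', hdd⟩ := E0_eq
    intro x hx
    have h1 := hd4 _ e4 (fun i hi => hi.1) d hd x hx
    have h2 := hd4 _ e4' (fun i hi => hi.1) d' hd' x hx
    refine hfix3 E0 basic.2.1.1 basic.2.1.2.1 basic.2.1.2.2.1 x hx ?_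
    have h3 := h1.mul_left h2
    rw [← map_mul] at h3
    have he : ∀ (a b : C), a = b → Commute (mk b) x → Commute (mk a) x := fun a b e h => e ▸ h
    refine he _ _ (Subtype.ext ?_) h3
    show f E0 = f (psi4 e4 d) * f (psi4 e4' d')
    rw [← map_mul, hdd]
  intro g hg
  refine hnorm ⟨g, hg⟩ ?_
  have h := hObot _ (hzs (mk ⟨g, hg⟩))
  exact mul_inv_eq_iff_eq_mul.1 (mul_inv_eq_one.1 h)

end

end CfsgLib.AltNineLocal.GlobalT

namespace CfsgLib.AltNineLocal

/-- The centraliser of a double transposition of the range lies in the range. -/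
theorem centralizer_double_le {G : Type*} [Group G] [Finite G]
    (f : alternatingGroup (Fin 9) →* G) (hf : Function.Injective f)
    (hC : ∀ s : alternatingGroup (Fin 9), orderOf s = 3 →
      Subgroup.centralizer ({f s} : Set G) ≤ f.range)
    (s : alternatingGroup (Fin 9)) (hs : (s : Equiv.Perm (Fin 9)) = dbl 0 1 2 3) :
    Subgroup.centralizer ({f s} : Set G) ≤ f.range := by
  obtain rfl : s = GlobalT.T0 := Subtype.ext hs
  exact GlobalT.centralizer_T0_le hf hC

end CfsgLib.AltNineLocal
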