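/-
A subgroup of type Alt(9) which contains the centralisers of its elements of order three and of the
double transposition is the whole group.
-/
import Cfsg.Agent.Lib.AltNineLocal.Model
import Cfsg.Agent.Lib.CoprimeAction.Abelian
import Cfsg.Agent.Lib.Involutions.Basic
import Cfsg.Agent.Lib.ClassicalLinear.Card
import Cfsg.Agent.S3331
import Mathlib.GroupTheory.SpecificGroups.Alternating.Centralizer

set_option autoImplicit false
set_option linter.style.haveILetI false

namespace CfsgLib.AltNineLocal.GlobalU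

open Equiv Equiv.Perm

/-- The alternating group of degree nine. -/
abbrev A9 : Type := ↥(alternatingGroup (Fin 9))

/-- The product of four transpositions. -/
def uP : Perm (Fin 9) := dbl 0 1 2 3 * dbl 4 5 6 7

/-- An element of weight two commuting with `uP`. -/
def eP : Perm (Fin 9) := cyc 0 2 4 * cyc 1 3 5

theorem mem_alt {σ : Perm (Fin 9)} (h : sign σ = 1) : σ ∈ alternatingGroup (Fin 9) :=
  mem_alternatingGroup.2 h

/-- `uP` as an even permutation. -/
def uA : A9 := ⟨uP, mem_alt (by decide)⟩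

/-- `eP` as an even permutation. -/
def eA : A9 := ⟨eP, mem_alt (by decide)⟩

/-- The double transposition as an even permutation. -/
def tA : A9 := ⟨dbl 0 1 2 3, mem_alt (by decide)⟩

theorem uA_mul_eA : uA * eA = eA * uA := Subtype.ext (show uP * eP = eP * uP by decide)

theorem cycleType_two_or_three {p : ℕ} [hp : Fact p.Prime] {σ : Perm (Fin 9)} (h : orderOf σ = p) :
    ∃ n, p * (n + 1) = σ.support.card ∧ σ.cycleType = Multiset.replicate (n + 1) p := by
  obtain ⟨n, hn⟩ := cycleType_prime_order (h.symm ▸ hp.out)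
  rw [h] at hn
  refine ⟨n, ?_, hn⟩
  rw [← sum_cycleType, hn, Multiset.sum_replicate, smul_eq_mul, mul_comm]

theorem orderOf_dbl : orderOf (dbl 0 1 2 3) = 2 := orderOf_eq_prime (by decide) (by decide)

theorem orderOf_uP : orderOf uP = 2 := orderOf_eq_prime (by decide) (by decide)

theorem orderOf_eP : orderOf eP = 3 := orderOf_eq_prime (by decide) (by decide)

theorem orderOf_eA : orderOf eA = 3 := by
  rw [← Subgroup.orderOf_coe]; exact orderOf_eP

theorem orderOf_tA : orderOf tA = 2 := by
  rw [← Subgroup.orderOf_coe]; exact orderOf_dbl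

theorem type_dbl : (dbl 0 1 2 3).cycleType = Multiset.replicate 2 2 := by
  haveI := Fact.mk Nat.prime_two
  obtain ⟨n, hn, h⟩ := cycleType_two_or_three orderOf_dbl
  have h4 : (dbl 0 1 2 3).support.card = 4 := by decide
  rw [h, show n + 1 = 2 by omega]

theorem type_uP : uP.cycleType = Multiset.replicate 4 2 := by
  haveI := Fact.mk Nat.prime_two
  obtain ⟨n, hn, h⟩ := cycleType_two_or_three orderOf_uP
  have h8 : uP.support.card = 8 := by decide
  rw [h, show n + 1 = 4 by omega]

/-- Every element of order three commutes with an odd permutation. -/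
theorem exists_odd_three {σ : Perm (Fin 9)} (h : orderOf σ = 3) :
    ∃ o : Perm (Fin 9), sign o = -1 ∧ o * σ = σ * o := by
  haveI := Fact.mk Nat.prime_three
  have hex : ∀ n, n < 3 → ∃ r o : Perm (Fin 9), orderOf r = 3 ∧ r.support.card = 3 * (n + 1) ∧
      sign o = -1 ∧ o * r = r * o := by
    intro n hn
    interval_cases n
    · exact ⟨cyc 0 1 2, swap 3 4, orderOf_eq_prime (by decide) (by decide), by decide, by decide,
        by decide⟩
    · exact ⟨cyc 0 1 2 * cyc 3 4 5, swap 0 3 * swap 1 4 * swap 2 5,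
        orderOf_eq_prime (by decide) (by decide), by decide, by decide, by decide⟩
    · exact ⟨cyc 0 1 2 * cyc 3 4 5 * cyc 6 7 8, swap 0 3 * swap 1 4 * swap 2 5,
        orderOf_eq_prime (by decide) (by decide), by decide, by decide, by decide⟩
  obtain ⟨n, hn, ht⟩ := cycleType_two_or_three h
  have h9 : σ.support.card ≤ 9 := by simpa using σ.support.card_le_univ
  obtain ⟨r, o, hr, hrc, ho, hor⟩ := hex n (by omega)
  obtain ⟨m, hm, hmt⟩ := cycleType_two_or_three hr
  have hc : IsConj r σ := isConj_iff_cycleType_eq.2 (by rw [hmt, ht, show m = n by omega])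
  obtain ⟨c, hc⟩ := isConj_iff.1 hc
  refine ⟨c * o * c⁻¹, by simp [ho], ?_⟩
  rw [← hc]
  calc c * o * c⁻¹ * (c * r * c⁻¹) = c * (o * r) * c⁻¹ := by group
    _ = c * (r * o) * c⁻¹ := by rw [hor]
    _ = c * r * c⁻¹ * (c * o * c⁻¹) := by group

/-- Conjugacy in the alternating group from conjugacy in the symmetric group. -/
theorem exists_conj_alt {s s' : A9} {o : Perm (Fin 9)} (ho : sign o = -1)
    (hos : o * (s : Perm (Fin 9)) = (s : Perm (Fin 9)) * o)
    (h : (s : Perm (Fin 9)).cycleType = (s' : Perm (Fin 9)).cycleType) :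
    ∃ a : A9, a * s * a⁻¹ = s' := by
  obtain ⟨c, hc⟩ := isConj_iff.1 (isConj_iff_cycleType_eq.2 h)
  rcases Int.units_eq_one_or (sign c) with h1 | h1
  · exact ⟨⟨c, mem_alt h1⟩, Subtype.ext hc⟩
  · refine ⟨⟨c * o, mem_alt (by rw [map_mul, h1, ho]; rfl)⟩, Subtype.ext ?_⟩
    show c * o * (s : Perm (Fin 9)) * (c * o)⁻¹ = _
    rw [mul_assoc c o, hos, ← hc]; group

/-- The centraliser in the alternating group has index two. -/
theorem two_mul_card_centralizer {s : A9} {o : Perm (Fin 9)} (ho : sign o = -1)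
    (hos : o * (s : Perm (Fin 9)) = (s : Perm (Fin 9)) * o) :
    2 * Nat.card (Subgroup.centralizer ({s} : Set A9)) =
      Nat.card (Subgroup.centralizer ({(s : Perm (Fin 9))} : Set (Perm (Fin 9)))) := by
  set C := Subgroup.centralizer ({(s : Perm (Fin 9))} : Set (Perm (Fin 9))) with hC
  set φ : ↥C →* ℤˣ := sign.comp C.subtype
  have hφ : Function.Surjective φ := by
    intro x
    rcases Int.units_eq_one_or x with rfl | rfl
    · exact ⟨1, map_one _⟩
    · exact ⟨⟨o, Subgroup.mem_centralizer_singleton_iff.2 hos⟩, ho⟩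
  have hcu : Nat.card ℤˣ = 2 := by rw [Nat.card_eq_fintype_card]; rfl
  have hi : φ.ker.index = 2 := by
    rw [Subgroup.index_ker, MonoidHom.range_eq_top.2 hφ, Subgroup.card_top, hcu]
  have he : Nat.card (Subgroup.centralizer ({s} : Set A9)) = Nat.card φ.ker :=
    Nat.card_congr
      { toFun := fun a => ⟨⟨((a : A9) : Perm (Fin 9)), Subgroup.mem_centralizer_singleton_iff.2
            (congrArg Subtype.val (Subgroup.mem_centralizer_singleton_iff.1 a.2))⟩,
          mem_alternatingGroup.1 (a : A9).2⟩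
        invFun := fun b => ⟨⟨(b : ↥C), mem_alt b.2⟩, Subgroup.mem_centralizer_singleton_iff.2
            (Subtype.ext (Subgroup.mem_centralizer_singleton_iff.1 (b : ↥C).2))⟩
        left_inv := fun a => rfl
        right_inv := fun b => rfl }
  rw [he, ← φ.ker.card_mul_index, hi, mul_comm]

theorem card_centralizer_uA : Nat.card (Subgroup.centralizer ({uA} : Set A9)) = 192 := by
  have h := two_mul_card_centralizer (s := uA) (o := swap 0 1) (by decide) (by decide)
  rw [nat_card_centralizer] at h
  have e : ((uA : A9) : Perm (Fin 9)).cycleType = Multiset.replicate 4 2 := type_uP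
  rw [e] at h
  simp [Nat.factorial] at h
  omega

/-- Elements of order three with conjugate images are conjugate. -/
theorem type_eq_of_card {s s' : A9} (hs : orderOf s = 3) (hs' : orderOf s' = 3)
    (h : Nat.card (Subgroup.centralizer ({s} : Set A9)) =
      Nat.card (Subgroup.centralizer ({s'} : Set A9))) :
    (s : Perm (Fin 9)).cycleType = (s' : Perm (Fin 9)).cycleType := by
  haveI := Fact.mk Nat.prime_three
  rw [← Subgroup.orderOf_coe] at hs hs'
  obtain ⟨o, ho, hos⟩ := exists_odd_three hs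
  obtain ⟨o', ho', hos'⟩ := exists_odd_three hs'
  have e := two_mul_card_centralizer ho hos
  have e' := two_mul_card_centralizer ho' hos'
  rw [nat_card_centralizer] at e e'
  obtain ⟨n, hn, ht⟩ := cycleType_two_or_three hs
  obtain ⟨m, hm, hmt⟩ := cycleType_two_or_three hs'
  have b1 : (s : Perm (Fin 9)).support.card ≤ 9 := by simpa using (s : Perm (Fin 9)).support.card_le_univ
  have b2 : (s' : Perm (Fin 9)).support.card ≤ 9 := by
    simpa using (s' : Perm (Fin 9)).support.card_le_univ
  rw [ht] at e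
  rw [hmt] at e'
  rw [h] at e
  have hnb : n < 3 := by omega
  have hmb : m < 3 := by omega
  rw [ht, hmt]
  interval_cases n <;> interval_cases m <;>
    first
      | rfl
      | (simp [Nat.factorial] at e e'
         omega)

/-- An element commuting with `uP` and `eP` in the alternating group. -/
theorem comm_cases {σ : Perm (Fin 9)} (hs : sign σ = 1) (hu : σ * uP = uP * σ)
    (he : σ * eP = eP * σ) : ∃ i < 3, ∃ j < 2, σ = eP ^ i * uP ^ j := by
  have h0 : eP (σ 0) ≠ σ 0 := by
    intro h
    have h2 : σ (eP 0) = eP (σ 0) := Perm.ext_iff.1 he 0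
    rw [h] at h2
    exact absurd (σ.injective h2) (by decide)
  have key : ∀ a : Fin 9, eP a ≠ a → ∃ i, i < 3 ∧ ∃ j, j < 2 ∧ (eP ^ i * uP ^ j) 0 = a := by
    decide
  obtain ⟨i, hi, j, hj, hij⟩ := key _ h0
  refine ⟨i, hi, j, hj, ?_⟩
  set g := eP ^ i * uP ^ j with hg
  have hue : Commute uP eP := (by decide : uP * eP = eP * uP)
  have hgu : Commute g uP := (hue.symm.pow_left i).mul_left ((Commute.refl uP).pow_left j)
  have hge : Commute g eP := ((Commute.refl eP).pow_left i).mul_left (hue.pow_left j)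
  have hgs : sign g = 1 := by
    rw [hg, map_mul, map_pow, map_pow, show sign eP = 1 by decide, show sign uP = 1 by decide]
    simp
  set ρ := g⁻¹ * σ with hρ
  have r0 : ρ 0 = 0 := by
    rw [hρ, Perm.mul_apply, ← hij]; simp
  have cu : ∀ x, ρ (uP x) = uP (ρ x) := fun x =>
    Perm.ext_iff.1 ((hgu.inv_left.mul_left hu).eq : ρ * uP = uP * ρ) x
  have ce : ∀ x, ρ (eP x) = eP (ρ x) := fun x =>
    Perm.ext_iff.1 ((hge.inv_left.mul_left he).eq : ρ * eP = eP * ρ) x
  have r1 : ρ 1 = 1 := by rw [show (1 : Fin 9) = uP 0 by decide, cu, r0]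
  have r2 : ρ 2 = 2 := by rw [show (2 : Fin 9) = eP 0 by decide, ce, r0]
  have r3 : ρ 3 = 3 := by rw [show (3 : Fin 9) = eP 1 by decide, ce, r1]
  have r4 : ρ 4 = 4 := by rw [show (4 : Fin 9) = eP 2 by decide, ce, r2]
  have r5 : ρ 5 = 5 := by rw [show (5 : Fin 9) = eP 3 by decide, ce, r3]
  have r8 : ρ 8 = 8 := by
    have h8 : uP (ρ 8) = ρ 8 := by rw [← cu, show uP 8 = 8 by decide]
    exact (by decide : ∀ x : Fin 9, uP x = x → x = 8) _ h8
  have r6 : ρ 6 = 6 ∨ ρ 6 = 7 := by
    rcases (by decide : ∀ x : Fin 9, x = 0 ∨ x = 1 ∨ x = 2 ∨ x = 3 ∨ x = 4 ∨ x = 5 ∨ x = 6 ∨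
      x = 7 ∨ x = 8) (ρ 6) with h | h | h | h | h | h | h | h | h
    · exact absurd (ρ.injective (h.trans r0.symm)) (by decide)
    · exact absurd (ρ.injective (h.trans r1.symm)) (by decide)
    · exact absurd (ρ.injective (h.trans r2.symm)) (by decide)
    · exact absurd (ρ.injective (h.trans r3.symm)) (by decide)
    · exact absurd (ρ.injective (h.trans r4.symm)) (by decide)
    · exact absurd (ρ.injective (h.trans r5.symm)) (by decide)
    · exact Or.inl h
    · exact Or.inr h
    · exact absurd (ρ.injective (h.trans r8.symm)) (by decide)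
  rcases r6 with r6 | r6
  · have r7 : ρ 7 = 7 := by rw [show (7 : Fin 9) = uP 6 by decide, cu, r6]
    have : ρ = 1 := by
      ext x; fin_cases x <;> simp_all
    rw [hρ, inv_mul_eq_one] at this
    exact this.symm
  · have r7 : ρ 7 = 6 := by rw [show (7 : Fin 9) = uP 6 by decide, cu, r6]; decide
    have e67 : ρ = swap 6 7 := by
      ext x; fin_cases x <;> simp_all [Equiv.swap_apply_def]
    have h1 : sign ρ = 1 := by rw [hρ, map_mul, map_inv, hgs, hs]; simp
    rw [e67] at h1
    exact absurd h1 (by decide)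

/-- Conjugates of the double transposition and of `uA` are separated. -/
theorem exists_conj_rep {r : A9} (hr : orderOf r = 2) :
    (∃ a : A9, a * tA * a⁻¹ = r) ∨ ∃ a : A9, a * uA * a⁻¹ = r := by
  haveI := Fact.mk Nat.prime_two
  obtain ⟨n, hn, h⟩ := cycleType_two_or_three ((Subgroup.orderOf_coe r).trans hr)
  have hev := mem_alternatingGroup.1 r.2
  have h9 : (r : Perm (Fin 9)).support.card ≤ 9 := by
    simpa using (r : Perm (Fin 9)).support.card_le_univ
  rw [sign_of_cycleType, h] at hev
  have hnb : n < 4 := by omega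
  interval_cases n
  · exact absurd hev (by decide)
  · exact Or.inl (exists_conj_alt (s := tA) (o := swap 0 1) (by decide) (by decide)
      (type_dbl.trans h.symm))
  · exact absurd hev (by decide)
  · exact Or.inr (exists_conj_alt (s := uA) (o := swap 0 1) (by decide) (by decide)
      (type_uP.trans h.symm))

/-- The elements of a four group. -/
theorem mem_closure_cases {a₁ a₂ a₃ : A9} (hmul : a₁ * a₂ = a₂ * a₁) (h12 : a₁ * a₂ = a₃)
    (hs1 : a₁ ^ 2 = 1) (hs2 : a₂ ^ 2 = 1) {G : Type*} [Group G] {f : A9 →* G} {z : G}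
    (hz : z ∈ Subgroup.closure ({f a₁, f a₂} : Set G)) :
    ∃ a : A9, f a = z ∧ (a = 1 ∨ a = a₁ ∨ a = a₂ ∨ a = a₃) := by
  have hcom : Commute (f a₁) (f a₂) := (show Commute a₁ a₂ from hmul).map f
  obtain ⟨i, j, hij⟩ : ∃ i j : ℤ, f a₁ ^ i * f a₂ ^ j = z := by
    induction hz using Subgroup.closure_induction with
    | mem w hw =>
      rcases hw with rfl | rfl
      · exact ⟨1, 0, by simp⟩
      · exact ⟨0, 1, by simp⟩
    | one => exact ⟨0, 0, by simp⟩
    | mul v w _ _ hv hw =>
      obtain ⟨i, j, rfl⟩ := hv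
      obtain ⟨k, l, rfl⟩ := hw
      refine ⟨i + k, j + l, ?_⟩
      rw [zpow_add, zpow_add]
      exact Commute.mul_mul_mul_comm (hcom.zpow_zpow k j) _ _
    | inv v _ hv =>
      obtain ⟨i, j, rfl⟩ := hv
      refine ⟨-i, -j, ?_⟩
      rw [zpow_neg, zpow_neg, ← mul_inv_rev, (hcom.zpow_zpow i j).eq]
  have key : ∀ a : A9, a ^ 2 = 1 → ∀ k : ℤ, a ^ k = 1 ∨ a ^ k = a := by
    intro a ha k
    have ha' : a ^ (2 : ℤ) = 1 := by rw [zpow_two, ← pow_two, ha]
    rcases Int.even_or_odd' k with ⟨l, rfl | rfl⟩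
    · left; rw [zpow_mul, ha', one_zpow]
    · right; rw [zpow_add, zpow_mul, ha', one_zpow, one_mul, zpow_one]
  refine ⟨a₁ ^ i * a₂ ^ j, ?_, ?_⟩
  · rw [map_mul, map_zpow, map_zpow]; exact hij
  · rcases key a₁ hs1 i with h | h <;> rcases key a₂ hs2 j with h' | h' <;> rw [h, h']
    · exact Or.inl (one_mul 1)
    · exact Or.inr (Or.inr (Or.inl (one_mul a₂)))
    · exact Or.inr (Or.inl (mul_one a₁))
    · exact Or.inr (Or.inr (Or.inr h12))

section Main

variable {G : Type*} [Group G] [Finite G] {f : A9 →* G} (hf : Function.Injective f)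
  (hC : ∀ s : A9, orderOf s = 3 → Subgroup.centralizer ({f s} : Set G) ≤ f.range)

include hf hC

omit [Finite G] in
/-- An element fusing two images of elements of order three lies in the subgroup. -/
theorem mem_range_of_three {s s' : A9} (hs : orderOf s = 3) {g : G}
    (h : g * f s * g⁻¹ = f s') : g ∈ f.range := by
  have hs' : orderOf s' = 3 := by
    rw [← orderOf_injective f hf s', ← h]
    exact ((MulAut.conj g).orderOf_eq (f s)).trans ((orderOf_injective f hf s).trans hs)
  have hcard : ∀ r : A9, orderOf r = 3 →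
      Nat.card (Subgroup.centralizer ({r} : Set A9)) =
        Nat.card (Subgroup.centralizer ({f r} : Set G)) := by
    intro r hr
    have e : Subgroup.centralizer ({f r} : Set G) =
        (Subgroup.centralizer ({r} : Set A9)).map f := by
      refine le_antisymm (fun x hx => ?_) ?_
      · obtain ⟨a, rfl⟩ := hC r hr hx
        refine Subgroup.mem_map_of_mem _ (Subgroup.mem_centralizer_singleton_iff.2 (hf ?_))
        rw [map_mul, map_mul]
        exact Subgroup.mem_centralizer_singleton_iff.1 hx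
      · rintro x ⟨a, ha, rfl⟩
        rw [Subgroup.mem_centralizer_singleton_iff, ← map_mul, ← map_mul,
          Subgroup.mem_centralizer_singleton_iff.1 ha]
    rw [e, Subgroup.card_map_of_injective hf]
  have hG : Nat.card (Subgroup.centralizer ({f s} : Set G)) =
      Nat.card (Subgroup.centralizer ({f s'} : Set G)) := by
    rw [← Subgroup.card_map_of_injective (f := (MulAut.conj g).toMonoidHom)
      (K := Subgroup.centralizer ({f s} : Set G)) (by exact (MulAut.conj g).injective)]
    congr 2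
    ext x
    rw [Subgroup.mem_map_equiv, Subgroup.mem_centralizer_singleton_iff,
      Subgroup.mem_centralizer_singleton_iff, ← h, MulAut.conj_symm_apply]
    constructor
    · intro e
      calc x * (g * f s * g⁻¹) = g * (g⁻¹ * x * g * f s) * g⁻¹ := by group
        _ = g * (f s * (g⁻¹ * x * g)) * g⁻¹ := by rw [e]
        _ = g * f s * g⁻¹ * x := by group
    · intro e
      calc g⁻¹ * x * g * f s = g⁻¹ * (x * (g * f s * g⁻¹)) * g := by group
        _ = g⁻¹ * (g * f s * g⁻¹ * x) * g := by rw [e]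
        _ = f s * (g⁻¹ * x * g) := by group
  have ht := type_eq_of_card hs hs' (by rw [hcard s hs, hcard s' hs', hG])
  obtain ⟨o, ho, hos⟩ := exists_odd_three ((Subgroup.orderOf_coe s).trans hs)
  obtain ⟨a, ha⟩ := exists_conj_alt ho hos ht
  have hmem : (f a)⁻¹ * g ∈ Subgroup.centralizer ({f s} : Set G) := by
    rw [Subgroup.mem_centralizer_singleton_iff]
    calc (f a)⁻¹ * g * f s = (f a)⁻¹ * (g * f s * g⁻¹) * g := by group
      _ = (f a)⁻¹ * f (a * s * a⁻¹) * g := by rw [h, ha]
      _ = f s * ((f a)⁻¹ * g) := by rw [map_mul, map_mul, map_inv]; group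
  have := mul_mem (⟨a, rfl⟩ : f a ∈ f.range) (hC s hs hmem)
  rwa [mul_inv_cancel_left] at this

variable (ht : Subgroup.centralizer ({f tA} : Set G) ≤ f.range)

include ht

omit [Finite G] in
/-- The double transposition and `uA` are not fused. -/
theorem not_fused (g : G) : g * f tA * g⁻¹ ≠ f uA := by
  intro h
  have hg : g ∈ f.range := by
    have hue : f uA * f eA = f eA * f uA := by
      rw [← map_mul, ← map_mul, uA_mul_eA]
    have hm : g⁻¹ * f eA * g ∈ Subgroup.centralizer ({f tA} : Set G) := by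
      rw [Subgroup.mem_centralizer_singleton_iff]
      calc g⁻¹ * f eA * g * f tA = g⁻¹ * (f eA * (g * f tA * g⁻¹)) * g := by group
        _ = g⁻¹ * (g * f tA * g⁻¹ * f eA) * g := by rw [h, hue]
        _ = f tA * (g⁻¹ * f eA * g) := by group
    obtain ⟨s', hs'⟩ := ht hm
    have := mem_range_of_three hf hC orderOf_eA (g := g⁻¹) (s' := s') (by rw [inv_inv, hs'])
    exact inv_mem_iff.1 this
  obtain ⟨a, rfl⟩ := hg
  rw [← map_inv, ← map_mul, ← map_mul] at h
  have h2 : (a : Perm (Fin 9)) * (tA : Perm (Fin 9)) * (a : Perm (Fin 9))⁻¹ = uP :=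
    congrArg Subtype.val (hf h)
  have h3 := congrArg cycleType h2
  rw [cycleType_conj, type_uP] at h3
  exact absurd (congrArg Multiset.card (type_dbl.symm.trans h3)) (by simp)

omit [Finite G] in
/-- Fusion of the double transposition is controlled by the subgroup. -/
theorem mem_range_of_double {g : G} (h : g * f tA * g⁻¹ ∈ f.range) : g ∈ f.range := by
  obtain ⟨r, hr⟩ := h
  have hr2 : orderOf r = 2 := by
    rw [← orderOf_injective f hf, hr]
    exact ((MulAut.conj g).orderOf_eq (f tA)).trans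
      ((orderOf_injective f hf tA).trans orderOf_tA)
  rcases exists_conj_rep hr2 with ⟨a, ha⟩ | ⟨a, ha⟩
  · have hm : (f a)⁻¹ * g ∈ Subgroup.centralizer ({f tA} : Set G) := by
      rw [Subgroup.mem_centralizer_singleton_iff]
      calc (f a)⁻¹ * g * f tA = (f a)⁻¹ * (g * f tA * g⁻¹) * g := by group
        _ = (f a)⁻¹ * f (a * tA * a⁻¹) * g := by rw [← hr, ha]
        _ = f tA * ((f a)⁻¹ * g) := by rw [map_mul, map_mul, map_inv]; group
    have := mul_mem (⟨a, rfl⟩ : f a ∈ f.range) (ht hm)
    rwa [mul_inv_cancel_left] at this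
  · refine absurd ?_ (not_fused hf hC ht ((f a)⁻¹ * g))
    rw [show (f a)⁻¹ * g * f tA * ((f a)⁻¹ * g)⁻¹ = (f a)⁻¹ * (g * f tA * g⁻¹) * f a by group,
      ← hr, ← ha, map_mul, map_mul, map_inv]
    group

/-- A two-subgroup of the whole group has order at most 64. -/
theorem card_two_group_le {Q : Subgroup G} (hQ : IsPGroup 2 Q) : Nat.card Q ∣ 64 := by
  haveI := Fact.mk Nat.prime_two
  let Z : Subgroup A9 := Subgroup.zpowers tA
  have ho : orderOf tA = 2 := orderOf_tA
  have hZ : IsPGroup 2 Z := IsPGroup.of_card (n := 1) (by rw [Nat.card_zpowers, ho, pow_one])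
  obtain ⟨P, hP⟩ := hZ.exists_le_sylow
  have hcA : Nat.card A9 = 181440 := by
    rw [nat_card_alternatingGroup, Nat.card_eq_fintype_card, Fintype.card_fin]; rfl
  have hPc : Nat.card (P : Subgroup A9) = 64 := by
    rw [P.card_eq_multiplicity, hcA,
      Nat.factorization_def _ Nat.prime_two]
    have : padicValNat 2 181440 = 6 := by
      rw [show (181440 : ℕ) = 2 ^ 6 * 2835 by norm_num, padicValNat_base_pow_mul (by norm_num)
        (by norm_num)]
      simp [padicValNat.eq_zero_of_not_dvd]
    rw [this]; rfl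
  have hfP : IsPGroup 2 ((P : Subgroup A9).map f) := P.isPGroup'.map f
  obtain ⟨S, hS⟩ := hfP.exists_le_sylow
  have hfc : Nat.card ((P : Subgroup A9).map f) = 64 := by
    rw [Subgroup.card_map_of_injective hf, hPc]
  have heq : (P : Subgroup A9).map f = (S : Subgroup G) := by
    by_contra hne
    have hlt : ((P : Subgroup A9).map f).subgroupOf (S : Subgroup G) < ⊤ := by
      refine lt_top_iff_ne_top.2 fun e => hne (le_antisymm hS ?_)
      exact Subgroup.subgroupOf_eq_top.1 e
    haveI := S.isPGroup'.isNilpotent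
    obtain ⟨⟨y, hyS⟩, hyN, hyP⟩ := SetLike.exists_of_lt
      (Group.normalizerCondition_of_isNilpotent (G := (S : Subgroup G)) _ hlt)
    have hyX : y ∈ f.range := by
      refine mem_range_of_double hf hC ht ?_
      have h1 : (⟨f tA, hS ⟨tA, hP (Subgroup.mem_zpowers _), rfl⟩⟩ : ↥(S : Subgroup G)) ∈
          ((P : Subgroup A9).map f).subgroupOf (S : Subgroup G) :=
        ⟨tA, hP (Subgroup.mem_zpowers _), rfl⟩
      obtain ⟨a, -, ha⟩ := ((Subgroup.mem_normalizer_iff.1 hyN) _).1 h1
      exact ⟨a, ha⟩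
    obtain ⟨b, rfl⟩ := hyX
    refine hyP ⟨b, ?_, rfl⟩
    have hPS : (P : Subgroup A9) ≤ (S : Subgroup G).comap f := fun x hx => hS ⟨x, hx, rfl⟩
    have h2 : IsPGroup 2 ((S : Subgroup G).comap f) :=
      S.isPGroup'.comap_of_injective f hf
    rw [← P.is_maximal' h2 hPS]
    exact hyS
  obtain ⟨T, hT⟩ := hQ.exists_le_sylow
  refine (Subgroup.card_dvd_of_le hT).trans ?_
  rw [Sylow.card_eq_multiplicity T, ← Sylow.card_eq_multiplicity S, ← heq, hfc]

omit hC in
/-- A subgroup of odd prime power order normalised by the centraliser of `uA` lies in the subgroup: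
a four group of double transpositions generates it by centralisers. -/
theorem le_range_of_invariant {q : ℕ} [hq : Fact q.Prime] (hq2 : q ≠ 2) {R : Subgroup G}
    (hRq : IsPGroup q R)
    (hxy : ∀ a : A9, a * uA = uA * a → f a ∈ Subgroup.normalizer (R : Set G)) : R ≤ f.range := by
  obtain ⟨n, hn⟩ := hRq.exists_card_eq
  haveI := hRq.isNilpotent
  let a₁ : A9 := ⟨dbl 0 1 2 3, mem_alt (by decide)⟩
  let a₂ : A9 := ⟨dbl 0 1 4 5, mem_alt (by decide)⟩
  let a₃ : A9 := ⟨dbl 2 3 4 5, mem_alt (by decide)⟩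
  have hmul : a₁ * a₂ = a₂ * a₁ := Subtype.ext
    (show dbl 0 1 2 3 * dbl 0 1 4 5 = dbl 0 1 4 5 * dbl 0 1 2 3 by decide)
  have h12 : a₁ * a₂ = a₃ := Subtype.ext
    (show dbl 0 1 2 3 * dbl 0 1 4 5 = dbl 2 3 4 5 by decide)
  have hs1 : a₁ ^ 2 = 1 := Subtype.ext (show dbl 0 1 2 3 ^ 2 = 1 by decide)
  have hs2 : a₂ ^ 2 = 1 := Subtype.ext (show dbl 0 1 4 5 ^ 2 = 1 by decide)
  have hne2 : a₂ ≠ 1 := fun h =>
    (show dbl 0 1 4 5 ≠ 1 by decide) (congrArg Subtype.val h)
  have hne1 : a₁ ≠ 1 := fun h =>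
    (show dbl 0 1 2 3 ≠ 1 by decide) (congrArg Subtype.val h)
  have hne3 : a₁ ≠ a₂ := fun h =>
    (show dbl 0 1 2 3 ≠ dbl 0 1 4 5 by decide) (congrArg Subtype.val h)
  have htyp : ∀ a : A9, a = a₁ ∨ a = a₂ ∨ a = a₃ →
      Subgroup.centralizer ({f a} : Set G) ≤ f.range := by
    intro a ha
    obtain ⟨c, hc⟩ : ∃ c : A9, c * tA * c⁻¹ = a := by
      rcases ha with rfl | rfl | rfl
      · exact ⟨1, by simp [tA, a₁]⟩
      · refine ⟨⟨cyc 2 4 6 * cyc 3 5 7, mem_alt (by decide)⟩, Subtype.ext ?_⟩
        show cyc 2 4 6 * cyc 3 5 7 * dbl 0 1 2 3 * (cyc 2 4 6 * cyc 3 5 7)⁻¹ = dbl 0 1 4 5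
        decide
      · refine ⟨⟨cyc 0 2 4 * cyc 1 3 5, mem_alt (by decide)⟩, Subtype.ext ?_⟩
        show cyc 0 2 4 * cyc 1 3 5 * dbl 0 1 2 3 * (cyc 0 2 4 * cyc 1 3 5)⁻¹ = dbl 2 3 4 5
        decide
    intro x hx
    rw [Subgroup.mem_centralizer_singleton_iff, ← hc, map_mul, map_mul, map_inv] at hx
    have hm : (f c)⁻¹ * x * f c ∈ Subgroup.centralizer ({f tA} : Set G) := by
      rw [Subgroup.mem_centralizer_singleton_iff]
      calc (f c)⁻¹ * x * f c * f tA = (f c)⁻¹ * (x * (f c * f tA * (f c)⁻¹)) * f c := by group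
        _ = (f c)⁻¹ * (f c * f tA * (f c)⁻¹ * x) * f c := by rw [hx]
        _ = f tA * ((f c)⁻¹ * x * f c) := by group
    have := mul_mem (mul_mem (⟨c, rfl⟩ : f c ∈ f.range) (ht hm))
      (inv_mem (⟨c, rfl⟩ : f c ∈ f.range))
    rwa [show f c * ((f c)⁻¹ * x * f c) * (f c)⁻¹ = x by group] at this
  have hcom1 : a₁ * uA = uA * a₁ := Subtype.ext
    (show dbl 0 1 2 3 * uP = uP * dbl 0 1 2 3 by decide)
  have hcom2 : a₂ * uA = uA * a₂ := Subtype.ext
    (show dbl 0 1 4 5 * uP = uP * dbl 0 1 4 5 by decide)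
  refine CfsgLib.CoprimeAction.le_of_centralizers_of_isSolvable Nat.prime_two
    (x := f a₁) (y := f a₂) (by rw [← map_pow, hs1, map_one])
    (by rw [← map_pow, hs2, map_one]) (by rw [← map_mul, ← map_mul, hmul]) ?_
    (fun h => hne2 (hf (h.trans (map_one f).symm))) (hxy _ hcom1) (hxy _ hcom2)
    (by rw [hn]; exact Nat.Coprime.pow_left n ((Nat.coprime_primes hq.out Nat.prime_two).2 hq2))
    inferInstance ?_
  · intro i hi
    rw [← map_pow, ← map_mul] at hi
    have hi' : a₁ * a₂ ^ i = 1 := hf (hi.trans (map_one f).symm)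
    rcases Nat.even_or_odd' i with ⟨j, rfl | rfl⟩
    · rw [pow_mul, hs2, one_pow, mul_one] at hi'; exact hne1 hi'
    · rw [pow_succ, pow_mul, hs2, one_pow, one_mul] at hi'
      refine hne3 ((eq_inv_of_mul_eq_one_left hi').trans ?_)
      rw [inv_eq_iff_mul_eq_one, ← pow_two]; exact hs2
  · intro z hz1 hz2 x hx
    obtain ⟨a, rfl, ha⟩ := mem_closure_cases hmul h12 hs1 hs2 hz1
    rcases ha with rfl | ha
    · exact absurd (map_one f) hz2
    · exact htyp a ha hx.2

/-- The centraliser of the product of four transpositions. -/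
theorem centralizer_uA_le : Subgroup.centralizer ({f uA} : Set G) ≤ f.range := by
  classical
  haveI := Fact.mk Nat.prime_two
  set K := Subgroup.centralizer ({f uA} : Set G) with hKdef
  set CX := (Subgroup.centralizer ({uA} : Set A9)).map f with hCX
  have hCXK : CX ≤ K := by
    rintro x ⟨a, ha, rfl⟩
    rw [hKdef, Subgroup.mem_centralizer_singleton_iff, ← map_mul, ← map_mul,
      Subgroup.mem_centralizer_singleton_iff.1 ha]
  have hCXc : Nat.card CX = 192 := by
    rw [hCX, Subgroup.card_map_of_injective hf, card_centralizer_uA]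
  have h192 : 192 ∣ Nat.card K := hCXc ▸ Subgroup.card_dvd_of_le hCXK
  have huK : f uA ∈ K := Subgroup.mem_centralizer_singleton_iff.2 rfl
  let u : ↥K := ⟨f uA, huK⟩
  have huo : orderOf u = 2 := by
    rw [← Subgroup.orderOf_coe, show (u : G) = f uA from rfl, orderOf_injective f hf,
      ← Subgroup.orderOf_coe]
    exact orderOf_uP
  have hcen : ∀ k : ↥K, k * u = u * k := fun k =>
    Subtype.ext (Subgroup.mem_centralizer_singleton_iff.1 k.2)
  haveI hZn : (Subgroup.zpowers u).Normal := by
    constructor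
    intro x hx k
    obtain ⟨i, rfl⟩ := Subgroup.mem_zpowers_iff.1 hx
    have : Commute k (u ^ i) := (show Commute k u from hcen k).zpow_right i
    rw [this.eq, mul_inv_cancel_right]
    exact Subgroup.zpow_mem _ (Subgroup.mem_zpowers u) i
  set π := QuotientGroup.mk' (Subgroup.zpowers u) with hπ
  have hue : f uA * f eA = f eA * f uA := by rw [← map_mul, ← map_mul, uA_mul_eA]
  have heK : f eA ∈ K := Subgroup.mem_centralizer_singleton_iff.2 hue.symm
  let e : ↥K := ⟨f eA, heK⟩
  have heo : orderOf e = 3 := by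
    rw [← Subgroup.orderOf_coe, show (e : G) = f eA from rfl, orderOf_injective f hf]
    exact orderOf_eA
  have he3 : e ^ 3 = 1 := heo ▸ pow_orderOf_eq_one e
  have hu2 : u ^ 2 = 1 := huo ▸ pow_orderOf_eq_one u
  have hz : ∀ z ∈ Subgroup.zpowers u, z = 1 ∨ z = u := by
    intro z hz
    obtain ⟨i, rfl⟩ := (mem_powers_iff_mem_zpowers (G := ↥K)).2 hz
    show u ^ i = 1 ∨ u ^ i = u
    rcases Nat.even_or_odd' i with ⟨j, rfl | rfl⟩
    · left; rw [pow_mul, hu2, one_pow]
    · right; rw [pow_succ, pow_mul, hu2, one_pow, one_mul]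
  set X := Subgroup.zpowers (π e) with hXdef
  have hXo : orderOf (π e) = 3 := by
    refine orderOf_eq_prime (by rw [← map_pow, he3, map_one]) fun h => ?_
    rw [hπ, QuotientGroup.mk'_apply, QuotientGroup.eq_one_iff] at h
    rcases hz _ h with h | h
    · rw [h, orderOf_one] at heo; omega
    · rw [h, huo] at heo; omega
  have hXc : Nat.card X = 3 := by rw [hXdef, Nat.card_zpowers, hXo]
  have hC' : Subgroup.centralizer (X : Set (↥K ⧸ Subgroup.zpowers u)) = X := by
    refine le_antisymm (fun x hx => ?_) ?_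
    · obtain ⟨k, rfl⟩ := QuotientGroup.mk'_surjective _ x
      have h1 : π e * π k = π k * π e := hx _ (Subgroup.mem_zpowers _)
      have h2 : e⁻¹ * (k * e * k⁻¹) ∈ Subgroup.zpowers u := by
        rw [← QuotientGroup.eq_one_iff, ← QuotientGroup.mk'_apply, ← hπ, map_mul, map_inv,
          map_mul, map_mul, map_inv, ← h1]
        group
      have h3 : k * e = e * k := by
        rcases hz _ h2 with h | h
        · rw [inv_mul_eq_one] at h
          conv_rhs => rw [h, inv_mul_cancel_right]
        · exfalso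
          rw [inv_mul_eq_iff_eq_mul] at h
          have h4 : (k * e * k⁻¹) ^ 3 = 1 := by rw [conj_pow, he3]; group
          rw [h, (show Commute e u from hcen e).mul_pow, he3, one_mul, pow_succ, hu2, one_mul] at h4
          rw [h4, orderOf_one] at huo
          omega
      have h3' : (k : G) * f eA = f eA * (k : G) := congrArg Subtype.val h3
      obtain ⟨σ, hσ⟩ := hC eA orderOf_eA (Subgroup.mem_centralizer_singleton_iff.2 h3')
      have hσu : σ * uA = uA * σ := hf (by
        rw [map_mul, map_mul, hσ]; exact Subgroup.mem_centralizer_singleton_iff.1 k.2)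
      have hσe : σ * eA = eA * σ := hf (by rw [map_mul, map_mul, hσ]; exact h3')
      obtain ⟨i, -, j, -, hij⟩ := comm_cases (mem_alternatingGroup.1 σ.2)
        (congrArg Subtype.val hσu) (congrArg Subtype.val hσe)
      have hk : k = e ^ i * u ^ j := by
        apply Subtype.ext
        rw [← hσ, show σ = eA ^ i * uA ^ j from Subtype.ext hij, map_mul, map_pow, map_pow]
        rfl
      show π k ∈ X
      rw [hk, map_mul, map_pow, map_pow,
        show π u = 1 from (QuotientGroup.eq_one_iff u).2 (Subgroup.mem_zpowers u), one_pow, mul_one]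
      exact pow_mem (Subgroup.mem_zpowers _) i
    · intro x hx y hy
      obtain ⟨i, rfl⟩ := Subgroup.mem_zpowers_iff.1 hx
      obtain ⟨j, rfl⟩ := Subgroup.mem_zpowers_iff.1 hy
      exact (Commute.refl (π e)).zpow_zpow j i
  have hKQ : Nat.card K = Nat.card (↥K ⧸ Subgroup.zpowers u) * 2 := by
    rw [Subgroup.card_eq_card_quotient_mul_card_subgroup (Subgroup.zpowers u), Nat.card_zpowers,
      huo]
  have hQ96 : 96 ∣ Nat.card (↥K ⧸ Subgroup.zpowers u) := by
    rw [hKQ] at h192; omega
  have hno : ¬ 128 ∣ Nat.card K := by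
    intro h
    obtain ⟨P, hP⟩ := Sylow.exists_subgroup_card_pow_prime 2 (G := ↥K) (n := 7) (by norm_num; exact h)
    have h2 := card_two_group_le hf hC ht (Q := P.map K.subtype)
      ((IsPGroup.of_card hP).map K.subtype)
    rw [Subgroup.card_map_of_injective K.subtype_injective, hP] at h2
    norm_num at h2
  rcases Cfsg.Agent.S3331.result X hXc hC' with
    ⟨N, hN, hnil, hcop, hq⟩ | ⟨N, hN, hab, hex, ⟨eq⟩⟩ | ⟨⟨eq⟩⟩
  · haveI := hN
    haveI := hnil
    set M := N.comap π with hM
    haveI : M.Normal := hN.comap π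
    haveI hMnil : Group.IsNilpotent M := by
      refine Subgroup.isNilpotent_of_ker_le_center (π.subgroupComap N) ?_
      intro x hx
      have hx1 : (x : ↥K) ∈ Subgroup.zpowers u := by
        rw [← QuotientGroup.eq_one_iff]
        exact congrArg Subtype.val (MonoidHom.mem_ker.1 hx)
      rw [Subgroup.mem_center_iff]
      intro y
      apply Subtype.ext
      rcases hz _ hx1 with h | h <;> simp [h, hcen]
    have hMc : Nat.card M = Nat.card N * 2 := by
      have h1 := (Subgroup.zpowers u).card_mul_index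
      have h2 := M.card_mul_index
      rw [hM, Subgroup.index_comap_of_surjective _ (QuotientGroup.mk'_surjective _)] at h2
      have h3 := N.card_mul_index
      rw [hKQ, ← h3] at h2
      have h4 : 0 < N.index := Nat.pos_of_ne_zero Subgroup.index_ne_zero_of_finite
      rw [← hM] at h2
      exact Nat.eq_of_mul_eq_mul_right h4 (by rw [h2]; ring)
    have hNpos : 0 < Nat.card N := Nat.card_pos
    have hidx : Nat.card (↥K ⧸ Subgroup.zpowers u) =
        Nat.card ((↥K ⧸ Subgroup.zpowers u) ⧸ N) * Nat.card N :=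
      Subgroup.card_eq_card_quotient_mul_card_subgroup N
    have h6 : Nat.card ((↥K ⧸ Subgroup.zpowers u) ⧸ N) = 3 ∨
        Nat.card ((↥K ⧸ Subgroup.zpowers u) ⧸ N) = 6 := by
      rcases hq with h | ⟨⟨eq⟩⟩
      · exact Or.inl h
      · right
        rw [Nat.card_congr eq.toEquiv, Nat.card_perm, Nat.card_fin]; rfl
    -- the odd part of `M` is trivial
    have hodd : ∀ q : ℕ, q.Prime → q ∣ Nat.card M → q = 2 := by
      intro q hq' hqd
      by_contra hq2
      haveI := Fact.mk hq'
      obtain ⟨Q⟩ := (inferInstance : Nonempty (Sylow q M))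
      have hQn : (Q : Subgroup M).Normal :=
        inferInstance
      haveI : ((Q : Subgroup M).map M.subtype).Normal := by
        haveI : (Q : Subgroup M).Characteristic := Q.characteristic_of_normal hQn
        exact ConjAct.normal_of_characteristic_of_normal
      set R := ((Q : Subgroup M).map M.subtype).map K.subtype with hR
      have hRK : ∀ k ∈ K, k ∈ Subgroup.normalizer (R : Set G) := by
        intro k hk
        have := (inferInstance : ((Q : Subgroup M).map M.subtype).Normal)
        have hh := Subgroup.le_normalizer_map (f := K.subtype) (H := (Q : Subgroup M).map M.subtype)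
          ⟨⟨k, hk⟩, by rw [Subgroup.normalizer_eq_top]; trivial, rfl⟩
        exact hh
      have hRq : IsPGroup q R := (Q.isPGroup'.map M.subtype).map K.subtype
      obtain ⟨n, hn⟩ := hRq.exists_card_eq
      haveI := hRq.isNilpotent
      have hRX : R ≤ f.range := le_range_of_invariant hf ht hq2 hRq fun a ha =>
        hRK _ (Subgroup.mem_centralizer_singleton_iff.2 (by rw [← map_mul, ← map_mul, ha]))
      have hdvd : Nat.card R ∣ 192 := by
        refine hCXc ▸ Subgroup.card_dvd_of_le fun x hx => ?_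
        obtain ⟨a, rfl⟩ := hRX hx
        refine ⟨a, Subgroup.mem_centralizer_singleton_iff.2 (hf ?_), rfl⟩
        rw [map_mul, map_mul]
        obtain ⟨k, -, hk⟩ := hx
        exact hk ▸ Subgroup.mem_centralizer_singleton_iff.1 k.2
      have hQq : q ∣ Nat.card (Q : Subgroup M) := Q.dvd_card_of_dvd_card hqd
      have hRc : Nat.card R = Nat.card (Q : Subgroup M) := by
        rw [hR, Subgroup.card_map_of_injective K.subtype_injective,
          Subgroup.card_map_of_injective M.subtype_injective]
      have h3 : q = 3 := by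
        have h192' : q ∣ 2 ^ 6 * 3 := (hRc ▸ hQq).trans hdvd
        rcases (Nat.Prime.dvd_mul hq').1 h192' with h | h
        · exact absurd ((Nat.prime_dvd_prime_iff_eq hq' Nat.prime_two).1 (hq'.dvd_of_dvd_pow h)) hq2
        · exact (Nat.prime_dvd_prime_iff_eq hq' Nat.prime_three).1 h
      subst h3
      rw [hMc] at hqd
      rcases (Nat.Prime.dvd_mul Nat.prime_three).1 hqd with h | h
      · have := Nat.eq_one_of_dvd_coprimes hcop h (dvd_refl 3)
        omega
      · omega
    obtain ⟨m, hm⟩ : ∃ m, Nat.card M = 2 ^ m := ⟨_, Nat.eq_prime_pow_of_unique_prime_dvd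
      Nat.card_pos.ne' fun {q} h1 h2 => hodd q h1 h2⟩
    have hKle : Nat.card K ≤ 192 := by
      rw [hKQ, hidx, mul_assoc, ← hMc, hm]
      rw [hKQ, hidx, mul_assoc, ← hMc, hm] at hno h192
      rcases h6 with h | h <;> rw [h] at hno h192 ⊢
      · have hm7 : m < 7 := by
          by_contra hlt
          exact hno (Dvd.dvd.mul_left (pow_dvd_pow 2 (not_lt.1 hlt)) 3)
        interval_cases m <;> norm_num
      · have hm6 : m < 6 := by
          by_contra hlt
          refine hno ?_
          rw [show (128 : ℕ) = 2 * 2 ^ 6 by norm_num]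
          exact mul_dvd_mul (by norm_num) (pow_dvd_pow 2 (not_lt.1 hlt))
        interval_cases m <;> norm_num
    have : CX = K := Subgroup.eq_of_le_of_card_ge hCXK (hCXc ▸ hKle)
    rw [← this]
    rintro x ⟨a, -, rfl⟩
    exact ⟨a, rfl⟩
  · exfalso
    haveI := hN
    have hidx := Subgroup.card_eq_card_quotient_mul_card_subgroup N
    have hA5 : Nat.card ((↥K ⧸ Subgroup.zpowers u) ⧸ N) = 60 := by
      rw [Nat.card_congr eq.toEquiv, nat_card_alternatingGroup, Nat.card_eq_fintype_card,
        Fintype.card_fin]; rfl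
    rw [hA5] at hidx
    obtain ⟨n, hn⟩ : ∃ n, Nat.card N = 2 ^ n := (show IsPGroup 2 N from fun x =>
      ⟨1, Subtype.ext (by simpa using hex x x.2)⟩).exists_card_eq
    rw [hidx, hn] at hQ96 hKQ
    rw [hKQ] at hno
    have hn3 : n = 3 := by
      have h1 : n < 4 := by
        by_contra hlt
        refine hno ?_
        rw [show 60 * 2 ^ n * 2 = 2 ^ n * 8 * 15 by ring]
        exact Dvd.dvd.mul_right (by
          rw [show (128 : ℕ) = 2 ^ 4 * 8 by norm_num]
          exact mul_dvd_mul_right (pow_dvd_pow 2 (not_lt.1 hlt)) 8) 15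
      interval_cases n <;> first | rfl | (norm_num at hQ96)
    subst hn3
    -- an element of order three cannot act without fixed points on a group of order eight
    let φ : ↥X →* MulAut ↥N := MulAut.conjNormal.comp X.subtype
    letI : MulAction ↥X ↥N := MulAction.compHom _ φ
    haveI := Fact.mk Nat.prime_three
    have hfix := (IsPGroup.of_card (p := 3) (n := 1) (G := ↥X)
      (by rw [hXc, pow_one])).card_modEq_card_fixedPoints (α := ↥N)
    have hone : MulAction.fixedPoints ↥X ↥N = {1} := by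
      refine Set.eq_singleton_iff_unique_mem.2 ⟨fun x => map_one (φ x), fun n hnf => ?_⟩
      have hnX : (n : ↥K ⧸ Subgroup.zpowers u) ∈ X := by
        rw [← hC', Subgroup.mem_centralizer_iff]
        intro y hy
        have h := congrArg (Subtype.val) (show φ ⟨y, hy⟩ n = n from hnf ⟨y, hy⟩)
        simp only [φ, MonoidHom.comp_apply, Subgroup.coe_subtype,
          MulAut.conjNormal_apply] at h
        exact mul_inv_eq_iff_eq_mul.1 h
      have h3 : orderOf (n : ↥K ⧸ Subgroup.zpowers u) ∣ 3 := hXc ▸ Subgroup.orderOf_dvd_natCard X hnX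
      have h8 : orderOf (n : ↥K ⧸ Subgroup.zpowers u) ∣ 2 ^ 3 :=
        hn ▸ Subgroup.orderOf_dvd_natCard N n.2
      exact Subtype.ext (orderOf_eq_one_iff.1 (Nat.eq_one_of_dvd_coprimes (by norm_num) h8 h3))
    rw [hone, hn] at hfix
    simp [Nat.ModEq] at hfix
  · exfalso
    rw [Nat.card_congr eq.toEquiv] at hQ96
    haveI : Fact (Nat.Prime 7) := ⟨by norm_num⟩
    have h := CfsgLib.ClassicalLinear.card_PSL_two_of_odd (F := ZMod 7) (q := 7) (ZMod.card 7) (by decide)
    omega

/-- The subgroup is the whole group. -/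
theorem range_eq_top_aux : f.range = ⊤ := by
  classical
  refine eq_top_iff.2 fun g _ => ?_
  by_contra hg
  have hu := centralizer_uA_le hf hC ht
  have hcent : ∀ r : A9, orderOf r = 2 → Subgroup.centralizer ({f r} : Set G) ≤ f.range := by
    intro r hr x hx
    rw [Subgroup.mem_centralizer_singleton_iff] at hx
    have key : ∀ b a : A9, a * b * a⁻¹ = r →
        Subgroup.centralizer ({f b} : Set G) ≤ f.range → x ∈ f.range := by
      intro b a hab hb
      rw [← hab, map_mul, map_mul, map_inv] at hx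
      have hm : (f a)⁻¹ * x * f a ∈ Subgroup.centralizer ({f b} : Set G) := by
        rw [Subgroup.mem_centralizer_singleton_iff]
        calc (f a)⁻¹ * x * f a * f b = (f a)⁻¹ * (x * (f a * f b * (f a)⁻¹)) * f a := by group
          _ = (f a)⁻¹ * (f a * f b * (f a)⁻¹ * x) * f a := by rw [hx]
          _ = f b * ((f a)⁻¹ * x * f a) := by group
      have := mul_mem (mul_mem (⟨a, rfl⟩ : f a ∈ f.range) (hb hm))
        (inv_mem (⟨a, rfl⟩ : f a ∈ f.range))
      rwa [show f a * ((f a)⁻¹ * x * f a) * (f a)⁻¹ = x by group] at this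
    rcases exists_conj_rep hr with ⟨a, ha⟩ | ⟨a, ha⟩
    · exact key _ a ha ht
    · exact key _ a ha hu
  have huo : orderOf (f uA) = 2 := by
    rw [orderOf_injective f hf, ← Subgroup.orderOf_coe]; exact orderOf_uP
  have hto : orderOf (f tA) = 2 := (orderOf_injective f hf tA).trans orderOf_tA
  set v := g * f uA * g⁻¹ with hv
  have hvo : orderOf v = 2 := ((MulAut.conj g).orderOf_eq (f uA)).trans huo
  have hnc : ¬ IsConj (f tA) v := by
    intro h
    obtain ⟨c, hc⟩ := isConj_iff.1 h
    refine not_fused hf hC ht (g⁻¹ * c) ?_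
    calc g⁻¹ * c * f tA * (g⁻¹ * c)⁻¹ = g⁻¹ * (c * f tA * c⁻¹) * g := by group
      _ = f uA := by rw [hc, hv]; group
  obtain ⟨w, hw, hwt, hwv, -⟩ := CfsgLib.Involutions.exists_commuting_involution hto hvo hnc
  obtain ⟨r, hr⟩ := ht (Subgroup.mem_centralizer_singleton_iff.2 hwt)
  have hr2 : orderOf r = 2 := by rw [← orderOf_injective f hf, hr]; exact hw
  obtain ⟨s, hs⟩ := hcent r hr2 (x := v)
    (Subgroup.mem_centralizer_singleton_iff.2 (by rw [hr]; exact hwv.symm))
  have hs2 : orderOf s = 2 := by rw [← orderOf_injective f hf, hs]; exact hvo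
  rcases exists_conj_rep hs2 with ⟨a, ha⟩ | ⟨a, ha⟩
  · exact hnc (isConj_iff.2 ⟨f a, by rw [← hs, ← ha, map_mul, map_mul, map_inv]⟩)
  · have hm : (f a)⁻¹ * g ∈ Subgroup.centralizer ({f uA} : Set G) := by
      rw [Subgroup.mem_centralizer_singleton_iff]
      calc (f a)⁻¹ * g * f uA = (f a)⁻¹ * v * g := by rw [hv]; group
        _ = (f a)⁻¹ * f (a * uA * a⁻¹) * g := by rw [← hs, ha]
        _ = f uA * ((f a)⁻¹ * g) := by rw [map_mul, map_mul, map_inv]; group
    have := mul_mem (⟨a, rfl⟩ : f a ∈ f.range) (hu hm)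
    rw [mul_inv_cancel_left] at this
    exact hg this

end Main

end CfsgLib.AltNineLocal.GlobalU

namespace CfsgLib.AltNineLocal

open Equiv

/-- A subgroup isomorphic to `Alt(9)` containing the centralisers of its elements of order three and
of its double transposition is the whole group. -/
theorem range_eq_top {G : Type*} [Group G] [Finite G] (f : ↥(alternatingGroup (Fin 9)) →* G)
    (hf : Function.Injective f)
    (hC : ∀ s : ↥(alternatingGroup (Fin 9)), orderOf s = 3 →
      Subgroup.centralizer ({f s} : Set G) ≤ f.range)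
    (ht : ∀ s : ↥(alternatingGroup (Fin 9)), (s : Perm (Fin 9)) = dbl 0 1 2 3 →
      Subgroup.centralizer ({f s} : Set G) ≤ f.range) :
    f.range = ⊤ :=
  GlobalU.range_eq_top_aux hf hC (ht GlobalU.tA rfl)

end CfsgLib.AltNineLocal
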