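/-
The elements of order three of the image of Alt(9): their centralisers lie in the image.
-/
import Cfsg.Agent.Lib.AltNineLocal.GlobalU
import Cfsg.Agent.Lib.AltNineLocal.Setting

set_option autoImplicit false

namespace CfsgLib.AltNineLocal

open Equiv

/-- An element of order three is conjugate to one of the three representatives. -/
theorem exists_conj_rep_three {s : ↥(alternatingGroup (Fin 9))} (hs : orderOf s = 3) :
    ∃ r : ↥(alternatingGroup (Fin 9)),
      ((r : Perm (Fin 9)) = ax 0 ∨ (r : Perm (Fin 9)) = pb ∨ (r : Perm (Fin 9)) = px) ∧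
      ∃ a : ↥(alternatingGroup (Fin 9)), a * r * a⁻¹ = s := by
  have : Fact (Nat.Prime 3) := ⟨Nat.prime_three⟩
  obtain ⟨n, hn, ht⟩ := GlobalU.cycleType_two_or_three ((Subgroup.orderOf_coe s).trans hs)
  have h9 : (s : Perm (Fin 9)).support.card ≤ 9 := by
    simpa using (s : Perm (Fin 9)).support.card_le_univ
  have key : ∀ ρ : Perm (Fin 9), Perm.sign ρ = 1 → ρ ^ 3 = 1 → ρ ≠ 1 →
      ρ.support.card = 3 * (n + 1) →
      ∃ r : ↥(alternatingGroup (Fin 9)), (r : Perm (Fin 9)) = ρ ∧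
        ∃ a : ↥(alternatingGroup (Fin 9)), a * r * a⁻¹ = s := by
    intro ρ hsg h3 h1 hc
    have ho : orderOf ρ = 3 := orderOf_eq_prime h3 h1
    obtain ⟨o, hodd, hor⟩ := GlobalU.exists_odd_three ho
    obtain ⟨m, hm, hmt⟩ := GlobalU.cycleType_two_or_three ho
    exact ⟨⟨ρ, GlobalU.mem_alt hsg⟩, rfl, GlobalU.exists_conj_alt hodd hor
      (hmt.trans (by rw [ht, show m = n by omega]))⟩
  have hn3 : n < 3 := by omega
  interval_cases n
  · obtain ⟨r, hr, ha⟩ := key (ax 0) (by decide) (by decide) (by decide) (by decide)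
    exact ⟨r, Or.inl hr, ha⟩
  · obtain ⟨r, hr, ha⟩ := key pb (by decide) (by decide) (by decide) (by decide)
    exact ⟨r, Or.inr (Or.inl hr), ha⟩
  · obtain ⟨r, hr, ha⟩ := key px (by decide) (by decide) (by decide) (by decide)
    exact ⟨r, Or.inr (Or.inr hr), ha⟩

/-- The centralisers of elements of order three lie in the image. -/
theorem centralizer_three_le {G : Type*} [Group G] {h : Hyp G} (T : SixAct h)
    (hb : Subgroup.centralizer ({h.el pb} : Set G) ≤ Subgroup.normalizer (h.J : Set G))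
    (hx : Subgroup.centralizer ({h.el px} : Set G) ≤ Subgroup.normalizer (h.J : Set G))
    (f : ↥(alternatingGroup (Fin 9)) →* G)
    (hel : ∀ p : ↥(alternatingGroup (Fin 9)), (p : Perm (Fin 9)) ∈ nineH → f p = h.el p)
    (hsix : ∀ (k : Fin 3) (p : ↥(alternatingGroup (Fin 9))), (p : Perm (Fin 9)) ∈ six k →
      f p = T.t p)
    (s : ↥(alternatingGroup (Fin 9))) (hs : orderOf s = 3) :
    Subgroup.centralizer ({f s} : Set G) ≤ f.range := by
  have hN : Subgroup.normalizer (h.J : Set G) ≤ f.range := fun g hg => by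
    obtain ⟨σ, hσ, rfl⟩ := h.exists_el hg
    exact ⟨⟨σ, hσ.1⟩, hel _ hσ⟩
  obtain ⟨r, hr, a, rfl⟩ := exists_conj_rep_three hs
  have hrle : Subgroup.centralizer ({f r} : Set G) ≤ f.range := by
    rcases hr with hr | hr | hr
    · intro g hg
      rw [Subgroup.mem_centralizer_singleton_iff,
        show f r = h.el (ax 0) by rw [hel r (hr ▸ ax_mem_nineH 0), hr]] at hg
      obtain ⟨σ, hσ, i, rfl⟩ := (T.cent 0 g).1 hg
      have hax : h.el (ax 0) ∈ f.range := hN (h.el_mem (ax_mem_nineH 0))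
      exact mul_mem (pow_mem hax i) ⟨⟨σ, GlobalU.mem_alt hσ.1⟩, hsix 0 _ hσ⟩
    · rw [hel r (hr ▸ pb_mem_nineH), hr]; exact hb.trans hN
    · rw [hel r (hr ▸ px_mem_nineH), hr]; exact hx.trans hN
  intro g hg
  rw [Subgroup.mem_centralizer_singleton_iff, map_mul, map_mul, map_inv] at hg
  have hm : (f a)⁻¹ * g * f a ∈ Subgroup.centralizer ({f r} : Set G) := by
    rw [Subgroup.mem_centralizer_singleton_iff]
    calc (f a)⁻¹ * g * f a * f r = (f a)⁻¹ * (g * (f a * f r * (f a)⁻¹)) * f a := by group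
      _ = (f a)⁻¹ * (f a * f r * (f a)⁻¹ * g) * f a := by rw [hg]
      _ = f r * ((f a)⁻¹ * g * f a) := by group
  have := mul_mem (mul_mem (⟨a, rfl⟩ : f a ∈ f.range) (hrle hm))
    (inv_mem (⟨a, rfl⟩ : f a ∈ f.range))
  rwa [show f a * ((f a)⁻¹ * g * f a) * (f a)⁻¹ = g by group] at this

end CfsgLib.AltNineLocal
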